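import Mathlib
import Cfsg.Agent.Spor.F23.Mod
import Cfsg.Agent.Spor.FL2.Cls

/-! Generated by tools/fl: the classes of subgroups of order 3 of O7(3) -/

set_option autoImplicit false
set_option maxRecDepth 100000
set_option linter.unusedVariables false
set_option exponentiation.threshold 100000

namespace Cfsg.Agent.Spor.F23

open Cfsg.Agent.Spor Cfsg.Agent.Spor.FL

noncomputable def o7_f : LT :=
(.node (.leaf [nat_lit 31679])
 (.leaf [nat_lit 31675]))

theorem o7_hf : o7_f.all (lettersLt 31703) = true := by decide +kernel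

noncomputable def o7_g : LT :=
(.node (.node (.node (.node (.leaf [nat_lit 31676,nat_lit 31698,nat_lit 31696,nat_lit 31680,nat_lit 31674,nat_lit 31691,nat_lit 31691,nat_lit 31695,nat_lit 31686,nat_lit 31683,nat_lit 31683,nat_lit 31688,nat_lit 31683,nat_lit 31686,nat_lit 31684,nat_lit 31679,nat_lit 31673])
 (.leaf [nat_lit 31676,nat_lit 31681,nat_lit 31683,nat_lit 31676,nat_lit 31674,nat_lit 31684,nat_lit 31682,nat_lit 31687,nat_lit 31690,nat_lit 31684,nat_lit 31677,nat_lit 31702,nat_lit 31696,nat_lit 31673,nat_lit 31697,nat_lit 31685]))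
 (.node (.leaf [nat_lit 31683,nat_lit 31683,nat_lit 31674,nat_lit 31684,nat_lit 31676,nat_lit 31691,nat_lit 31671,nat_lit 31691,nat_lit 31681,nat_lit 31695,nat_lit 31688,nat_lit 31678,nat_lit 31694,nat_lit 31696,nat_lit 31693,nat_lit 31696,nat_lit 31683])
 (.leaf [nat_lit 31678,nat_lit 31680,nat_lit 31681,nat_lit 31690,nat_lit 31685,nat_lit 31692,nat_lit 31688,nat_lit 31688,nat_lit 31691,nat_lit 31685,nat_lit 31674,nat_lit 31682,nat_lit 31682,nat_lit 31679,nat_lit 31672])))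
 (.node (.node (.leaf [nat_lit 31673,nat_lit 31676,nat_lit 31675,nat_lit 31682,nat_lit 31675,nat_lit 31687,nat_lit 31681,nat_lit 31685,nat_lit 31690,nat_lit 31690,nat_lit 31682,nat_lit 31695,nat_lit 31679,nat_lit 31684,nat_lit 31702])
 (.leaf [nat_lit 31672,nat_lit 31679,nat_lit 31683,nat_lit 31683,nat_lit 31674,nat_lit 31684,nat_lit 31690,nat_lit 31689,nat_lit 31689,nat_lit 31693,nat_lit 31684,nat_lit 31691,nat_lit 31681,nat_lit 31680,nat_lit 31678]))
 (.leaf [nat_lit 31671,nat_lit 31681,nat_lit 31675,nat_lit 31679,nat_lit 31687,nat_lit 31681,nat_lit 31685,nat_lit 31689,nat_lit 31684,nat_lit 31686,nat_lit 31675,nat_lit 31693,nat_lit 31686,nat_lit 31693,nat_lit 31689,nat_lit 31699,nat_lit 31692,nat_lit 31678,nat_lit 31698])))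
 (.node (.node (.node (.leaf [nat_lit 31671,nat_lit 31672,nat_lit 31675,nat_lit 31674,nat_lit 31683,nat_lit 31671,nat_lit 31690,nat_lit 31684,nat_lit 31682,nat_lit 31694,nat_lit 31675,nat_lit 31682,nat_lit 31672])
 (.leaf [nat_lit 31676,nat_lit 31672,nat_lit 31671,nat_lit 31674,nat_lit 31682,nat_lit 31686,nat_lit 31688,nat_lit 31675,nat_lit 31678,nat_lit 31688,nat_lit 31685,nat_lit 31689]))
 (.leaf [nat_lit 31671,nat_lit 31676,nat_lit 31673,nat_lit 31683,nat_lit 31687,nat_lit 31675,nat_lit 31681,nat_lit 31691,nat_lit 31682,nat_lit 31690,nat_lit 31693,nat_lit 31673,nat_lit 31686,nat_lit 31695,nat_lit 31680,nat_lit 31697,nat_lit 31688,nat_lit 31682]))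
 (.node (.node (.leaf [nat_lit 31702,nat_lit 31685,nat_lit 31679,nat_lit 31694,nat_lit 31683,nat_lit 31673,nat_lit 31690,nat_lit 31677,nat_lit 31687,nat_lit 31679,nat_lit 31675,nat_lit 31679,nat_lit 31671,nat_lit 31672,nat_lit 31671,nat_lit 31673])
 (.leaf [nat_lit 31688,nat_lit 31684,nat_lit 31689,nat_lit 31678,nat_lit 31675,nat_lit 31689,nat_lit 31687,nat_lit 31683,nat_lit 31674,nat_lit 31671,nat_lit 31672,nat_lit 31676]))
 (.leaf [nat_lit 31690,nat_lit 31684,nat_lit 31700,nat_lit 31680,nat_lit 31683,nat_lit 31688,nat_lit 31694,nat_lit 31673,nat_lit 31690,nat_lit 31682,nat_lit 31687,nat_lit 31675,nat_lit 31679,nat_lit 31676,nat_lit 31673,nat_lit 31676]))))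

theorem o7_hg : o7_g.all (lettersLt 31703) = true := by decide +kernel

noncomputable def o7_P : ℕ → ℕ := fun i => Nat.land (Nat.shiftRight (nat_lit 0x300cb09e85aa166857a156854a14e8529fea7f99fe27f79fda7f59cca7319cc272f9bea41c906e41a9066418905e416900e40290064008ffe3fe8ff63fc8c01fee7fb5fec7f85fe07f7dfde7dcdf727dc5f707b05ec06fd1bf36fc9bf16fb1beb6fa9be96fa1be76f3dbce6f35bcc6f2dbca6f25bc8619986561918636189861617d85e611d84661157d95f6173f5445510543d50e5435509542150754195055411503540950053fd4e8539d4e653954e4493124b49292494921245490923d48f123b48e9239489922546ecf6b3da8f683d90f633d88f613d80f5f3d78f5d3d70f4c3530d4b3528d493510d4034dcd3634d4d3434ccd3234c4d303470b0c2c20b072c14b042be0aa52a90aa32a88aa12a80a9f2a78a9d2a70a9b2a68a992a60a9725e497825dc97025a895f257895d257095b2568959256095725589551e607971e587951e4c7911d607571d587551d507531d487511d4074f1d3874d1d3074b1d287491d2067919e06681960657195865519506531948651194064f193850f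143450c142c50a1424508141c4ea13a44e8139c4e613944e4138c4e213844e0137c4de13744dc136c454114c42d10b042b10a842910a04271098425108c4220d7c35e0d7435c0d6c35a0d6434a0d243480d1c3460d143440d0c3420d043400cfc33e0cf433c0ce83390b802d10ab82ad0ab02ab0aa82a90a98221088021f087821d08502120844210083c20e082c1dd07401cf07301b206c41b006bc1ae06b016905a01670598165058015f057015b056815804cc130048c121043010a04240e203800d703540d402d80a6025408a0224067016c056013c04b010c0390014004000c0020004000) (Nat.mul (nat_lit 14) i)) (nat_lit 16383)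

noncomputable def o7_T_t : BT :=
(.node (.node (.node (.node (.leaf (nat_lit 0x47eba514d185a7476e87646047541c3950a9b561c6a08061549c12af480f210d46955a5a949b73c68d39589353968633452924442d541f1bf294f34826ca303d4fa64489e48d200603a88f1418e4a0c81496d72a1a4449991087be0c7276bb1e12b67e80d86944b4184cbb7fd2ea4e8999e95f4d12479c55740475372f4ccdd1c882253d203d5f411b2e48049a073514379e8d00a488db2b55b5a7411412c8be691a0bd9a8662a486ca22ec14f08d634daac978a9280139719157f491802548f9a1ca8849d5a2bab6bc85ae24af07746df73f0ac610e9f0db60e1138e2b464983f3841ae639ca2aa763f930aa12aa28e641e8a444701a53566b83c23b0152743a8fdb4cb35ba4772e9c23086b0378a9cb0d2c805b86867a55a84b3618a810c9d97a14f71d308ef1a2b94d8827040590237421509aed9239d12eb478141448010ae02067d0f9f8f33dc58b01f8c83c6a6719bbdc007164c440ce5888c2f2d27106b05c370b9673042bb183425013c33418bcf9153d961c8cafe64bd8cd5e05aea10565bd16428b811c69946))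
 (.leaf (nat_lit 0x3bc1626712a9a4051b1e27a9630d523e4dad1402a5b764c1aa9490b3ca4c86a57841499bad406687ec66ae7f0b87ca83ea7d45b8f3179b53e6657c912a5f94129d7316dd14f8574ccda309d048f616ac2e23a5a108218ab31284a2a9a92370c5c9550256cd47e31ab414086b0791746754beb0a371b09cec935a88e0ce8e8a43a7d1cd0266bd38a5dec1929afa1a4e0dd741f138101a3cf9151bc6f2959192a5485093e40d35fcee64bc705322a51008e18b111410c68f42b1edbf4e63c8d4e253292de293a38cdeadd11ce8902c8badaa6ee864e5fd0561ad0e6e65849a88ff661b084c023b4428a510b0502b78198284a9a5a09b08c844aa025959a1888e5a52a080b946bec30d94781d4d38573a41cf82a8e938358a2c658228737970ca83d426abb2621588e88836ab87a9129082d7393e9315617008391aa19d0ea588da6c8a16784f00077a0bb5f92b559261e872f3c84e5d421a5001a8e241eea01fae88d003b340223c4f495960c6304a682d124fe4f06068c02688449685632668ed2279854fa5ce14d20e2c67)))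
 (.node (.leaf (nat_lit 0x3207cf336b61a26ea137e8f134d181e520ad80a23562231e6613153f9515773512149e2c958c2620690e642b394b91a686bbbe073722abc028b9ea5ea864361407a4712d2a4c3551299e94d748d00ac99f3158c7d94b9238de05b32a4635c36a68e7864211c8a4e8249e31893ae4f1485a9184861320c6e1c3db761cba9c84a2a39a32b41ca183056a6ff9ac6560c4a6336a2b2a0505d414a4c3ce3382f9f8cd2a4409e20f15012c1836913b53ebb261d25adc6180e9689701020afb17af8ee5a4a300222e9b575b24955295d00a461d9566b5983d523a8b36e632c7c395586f681c1a6a358c92b0f6942e5c62d4e084645892a6e74f7484ec7875651a5f8b4ae4fc301b1fc78a2f9214c03e222f2469efd7d075a50976564e68f83936570d4aa60f3013c1f0f4cf19c5e00301494d01212e2de78bf3fc093200493d40cbd4299434f05aab90e3b40b2ccf4e2357aa01e0caf0aa2c273854e546a554a46a03a10464191a5a08ee6ac68511d2d890ae5d0b022875a0208126488fc6d05186b5149417674bdc5485b0e18210))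
 (.leaf (nat_lit 0x1fc682a4940091197657522f34a086974a1dccc832d45c4da44e2186e9c0e34490a4a9a392604387fc8a89256fa183e77175557e800f3602c9b4c8541a1a91cd559126e23e08cd5cacdaca152b3140aba2ca56eb888c521e335752462399e8b18b15a344190662d9810e6b10022a9405e0d636ee11b1a30426c9c9309e3aaa9fa632e011824504cfa8727a9d480d0a992f8f4da8d3461ca327b2588a44eca10a509811e54f41d1009afc69cbab08e56bacc27165481f6792ba2464e784191b6269d3be9a0caf3080e118b02d030b418de390d979b4dc90378c14e7067a29f157469b0b3397bbe5ea7c7855ab21c258ae0d428f9e20e627933850886bc7538fa585302eaf5891898e871051769309380ac1d729cd3ef63b0640a0f4d569a0e32ebaa58a62220a562f5b2c8a8de252566e556ecd8fd3f00a5cfa691f94eb8581239a68181b3a47ca80989ddb5b6a231ab095d2f6a0c081c5c20fe829d04af18619ccb385aa5a833b90a10142916b2d8f31a8d207b2628ad144c38f1ee9e3c35088bf3c7217800e12d00e0202))))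
 (.node (.node (.leaf (nat_lit 0x579c8566ca4128236eb06b113adac4395d5690e2201a59755e133751976f2585458ee93b8b14d3c451c558d0a2c2118cd9b125040a18b9c508b8f3f6a8646a36d5247a38613c3e8f816894d93468c3181816d7e87948d6386f87b3126653a489bd33215258d319dae108ee903f8563d614fe04862091829578bc761d354c81898ec75a68a0fc6b8ba9f5053cf4be7296979e8638dd2aa6f697358049773549466c679d530f16292d92c83cb0cf130828243b0c5caad7b399ba362af91e294d6033841da49583449cabc3e2d0fae020388b4594b28a289f0d8381b2c7c1b4653493b46862234c904a37943b45af04e40e648850a6daa247ac101029651824abe9f2d682cb7d464a44a6e2a070663448dd5383d5321b1033acd808f39988ec110ac25b4261d2d87e582b950415c13b38a7407ba049a8e3fc2d124849360aa440fac89ee3523fdd0170b458733aad0d95c3419bbc24f31db4d747b952440edf288685501aad653a45a707aad4250170330a5b8bdc283024bcfc1007c84420c05b11f64e40402574855214d400))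
 (.leaf (nat_lit 0x2beac451c1891ac54c23a64fd71b882e3106d15627aa8d421c169fc1e2f3972a2042fc2639a1608102cd28242893a4c41a737c30cf51b1a985d2cb362cd272052714293ce83ebe4383cfca57cb6eb0f5172ae1112a5492270688b6548275438068b742a24572117cf4035a9d8b1dac85e9f12499499a122ccaa20c508f593e07357611787c745c108d607301cc086e9b9509f235ab71e72e3fc746a3763d25b4614da0a411a0d2fdad050cbda12d5082b9d23098b7864fb388ce3f148a95c46128f158ee7b3c43d87258c3ba803c4e97236d46c046391934bc1a67d9618e56f125088a5533856eaaa0913112e36a5a69748080cd9a21e539695330af13492900737578869a19dde2a353c9809c4fa8544968002c9143134104ab676211830204818beeb8180d2a445d9b4a0552350426d06bd2192754594e7d59671d9d05ba3bd29aca238f42a0ca7b2e193c530fdf55d882e61a9e2c4cc370a4557038811d2d052437b82aa4ff9acbcd88ca34a0cc403ccb654721d9bd582d3251252b055075cefe56b84caea010009605)))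
 (.leaf (nat_lit 0x1e2a13e9d0de629a6f9629f1c0f9ce98e41c5608e1e9ccfce94d56bbddc1d3300548500d0c24d0f4b095da7e5dc19e0de5a2fe088d3902469112318d981315a9a308ba98fc1cff65a7aac646dd11d2a0138f5d71f7c2b994980ca3da842611de20b89c35e8d590ac2db5451f2f126c957905ce7f2ecae372d04304961282c02961c24a14c23652a08875d0320d46a8339bc510c7a9e805219b0ce8eb2111b1c3276ebccbc928a4b0b69f3580142455ec0872fd243ed324c200b4887c40d249e4a06c34d2215f0d5aa8e2d4b9448c71cf5f2846886c19253e815670e925398709a922960d3604a5d5404e04014e04dced7342af4a123410a0b82c5689c1d910814c05f487125682eb64b8c4dd439a1b4e2652e3b0c0cdab9c1a5540882e32b1819a0b2c77e00def1d310bd74751601ca4900c1edacfe024ce2b32a43d8408915370f337134801e538bba1e5553b0ea24f426b1a5f5c40398aa3c683949ccf1dc8ab70a6ca512ac491d46346a54d2a78b52a2dcbee2434d654ac8b3613ac52bcc154ce28a9e3cf15588d1032))))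
 (.node (.node (.node (.leaf (nat_lit 0x31c8301c29967536e875b28638a5c395d0148cc86aa58fd6d1c75518aaf270d44f483135701cd682556730722aae6e985f4c81b2f71aa9bf0e74995f1486e3615329369deb43eaf1428928230e5b6a23d8ea2a874d8d51e681992e5469834fcbc7c3f16a0a9d414d8ba2d903f9803d739726724a0c6657571647594bb77ae9da887590deafc5a2c1ab5098279a6ee14425e8b17b16674760195d2263a1b5128421a14e687f3c2701f185ab19961261b5eac935fbe57abc1038173080b1d082fb4b0464e5f52c490aac81024fb0005484950111322281b5024276f14907d32cd39d642a707ec4dcae202238e545664c5121e5091c54da028856ece45ce24ab82a3dcd6c50d4984f49a901ab0d18826a9cb227804566f67a8e1a136943e36d07337948188b42d091a9e3cd1917401440e143c85c164c962bc9248aa1866a44a39818ec4123fdd02f2716cb0239eb255c67310c94f3e042555056862b4eb2d14c2a9f4aad99a06f0373b183424fc889afa1da045d1ea6900d8101b0dd151f0c8c65c3c292368111610969800))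
 (.leaf (nat_lit 0x32490562a014c2b87cb7060d96a4515f2c5501e2269a633039010892e4f0720334f20409cda2c8616ac6a81aae1ae783f7c16206983f3561eb08e086368a5dc61c43285a08bedf8f2416828564496b059f19eaf5894a823e4c0f48a7a6447a7a3b3545d6a8278824c8885e21b8ce50e983a03a232ac92471034379d66f2302e2a3e1d33a94107f0956e150bd0e4a6c68396a476a994156dd54a65aec83fbd18ebda81286f44a04adc09651a88ee806db98af2122c985d394ba06aaf704520e30a2486044f5069054ad1a2b859629868498a266344eac894a0529a024fa4d435e5e56d38669dbc0560a7726cc0f37d091192a103b44ef2420d0b43b69a14bac3573be6e7d36ae65c0e1cbfc58c14913884913d2d9d55901bd974fc5f8aa345ba5a9e5e9d0333d9502382f86a7c8494c330047391b4b37651c70e98ca1cc73fa4804375d442a12ae70b269a473a3539b0b26213ca2d69a03d807b524e24009294b45e8399ce8b3177dc1a10fd238314c6e3a188633146c31e34fa89aa845c1e8cc6c75610f03f28569949a00)))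
 (.leaf (nat_lit 0x16d5c723aa6db43c0ebb0613317b4c5035671465ccf190adeb367992522013bb7c84f132a351f3c2e5718d03118147068073b4bb4f01240b108098b96d0238492bd4903c1e26e41d550d4ab9454598789bc95fc3661480945e311f02a9dad4a930d841298881827a0cd958aea66b3188f49e7a746822cc95671d3216438a8aa8d57560b29ac8285282d121292c34858d4d182d13fd4a7d2930b59020d914c5ee5f8e8b620e71ec1940cb693adf8d9241183cb3080dd12c3a3ab69726204ada8142c889283f6dbfcf705a0388187137249ec11133141f1450cb1f45a6b8ed726fa1a116b414b00d6f0e57af4dad57dc0498dd64af8a873651e425005a0863e7622981fae83f3e014e970d38107a8485ca4a3600d276de794fd2aaa450ce38b01233564dc3ec852f422bcbdcb3554155188649b8016005c4651d397cd22b6bc2b398c7558654144bb5d2a4382788a7c7d4487afc3e061031ea7308245d4e3918c35006914c28d6ea273d1112d43ce09ab177310824704ce8ccef0d81149160ca693cf0a2c8d38a58d94ccf32)))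
 (.node (.node (.leaf (nat_lit 0x579c8b84da291954abb06527a43570395d66191086a0810e0ea402519b11d20544e215151f2093c16c91585223352373493a25c0500a24e5a77a1938d65d79d64fa7909b541a3e8fac1e50111161a2c89b0e97f145a8d4491087868763c36216129728aca0aa846b49340e9052d023d86095624fa99c1a6f499d104cdb77c851c8824445c2fc34cbe1d508f20988a66fb79ba2c4a539f0b386b5897170915040ce679299a5c65c281ea21c3198ae9619943ab75cb717b397b56a2b52049f8462ba289cace321449e2bc31bf64b3d02cc4c06e22c61429f0d886013f20c713298181554ef00b31e5903a513121267d2e8921e43bdd946d171c954a50c01d527355d62747848a5a17389f3888ebb37d229a75aa8045e6833cdc2eda3d9894680981783f4f8b04646392bbe4ed02579d2925f6c80c9aed913426444a0998c2eb4794eb72ba3bfdd0fb6b96e34929db255c34198c90708738c46ebe04270b428832b516ea89cd40d19943b2ad42503943202614b814e62cbd452fe1b275dc0c05d0180b45b2792a3f951fe9800))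
 (.leaf (nat_lit 0x26081374b418d1148aa8573396db741ecf080d93b4b2fba486b6250dd56cc710360acb2245e1b3549889782a3ccfa102f11c0828fb2e9d44d50652222604a2af9c2f67ac39802988c7e132b949848f26104f5db525146a9af496bf14e1291ad0a61da207a31039896290503939c38640fa2eaf335c19960d24621022923d23d0c4b789a490fa1e309bc4e7f49554c9903c9b15661936a8356a8c25d533f8e558df2d3aa854a54966bcd468a8d4a333e01ce02d31959a09793994ed58729aa331d260d2752ca89ec071b6cd3dae3e2f0655a2b63b1933124dc28b895470e9ad305db207a9f4d1bcd91e8593c268983ca1403f234f0fc831248974c469cbcf054161ae830462b7010171c3f56a5778060eee09b03a98f38b250050c2285ab28d90c00fa0c30204433260d71ef5b2909c62da191b80310a3339675d0dbbd7f017f9b55d439a3b01606403ace64966824aa82054902b5512af6767148989511c42a91cc8a7c2c6548702c3df34920ce0a2b2718edc89e9fa9a8ee8171d15e1a7724050b7a716eb54033a708400)))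
 (.leaf (nat_lit 0x3219aea3942cc73576545c73d9b89a3498772a1d35777c0e9b5a18924103459161c2ab9dd1df72083cbd1cb518522b84d662fd624e0bcb1e49e55061b121421d0fb26800b8b46f511299ea601b05f23648a817b14a0425ec5757240b84f78a74c52420b29fc7e32ca1cc7b340ca023d88d651676a1afa5c1ead99e3629632ddd6019ca9c12fc47a5c41341d9f022818e8cd10da9988a61494d8f9e07a36505fb229687c331e1d11a3e0f380422cf3a5c4e845da31fd12ed3a85800f838991a20469528b273aa378244c8e43a4b1703c190c5f6832542c53c2e2706141a320a0b8535218c05201577088c911002f0a371734c4383880a381436a69a2831d532972b4e625b4aad9b2139fb388a936b1545a2406b74f33c14181f4f57b8d5ae1aa943d60b34fa70cc1d7f88c78d5370969eaf4553aa0487111e2abc1bb0a7cac051dd285641441d0ad3686eac065a030bcdf8930ca243428aca83835b12ab449d411c0214690a5427a29a8383965855c89691d60d2a5958b07e99af39e4f18ae948962a0114e6cdb492e9e932)))))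

noncomputable def o7_T : ℕ → ℕ → ℕ := fun x i => Nat.land (Nat.shiftRight (BT.get o7_T_t x) (Nat.mul (nat_lit 9) i)) (nat_lit 511)

theorem o7_res_0 : allRange (nat_lit 0) (nat_lit 120) (resOK (wT X o7_g) o7_T o7_P (nat_lit 31671) (nat_lit 351) (nat_lit 13)) = true := by decide +kernel

theorem o7_res_1 : allRange (nat_lit 120) (nat_lit 120) (resOK (wT X o7_g) o7_T o7_P (nat_lit 31671) (nat_lit 351) (nat_lit 13)) = true := by decide +kernel

theorem o7_res_2 : allRange (nat_lit 240) (nat_lit 111) (resOK (wT X o7_g) o7_T o7_P (nat_lit 31671) (nat_lit 351) (nat_lit 13)) = true := by decide +kernel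

theorem o7_res : ∀ i < 351, (resOK (wT X o7_g) o7_T o7_P (nat_lit 31671) (nat_lit 351) (nat_lit 13)) i = true := range_append 111 (range_append 120 (allRange_zero o7_res_0) o7_res_1 (b := 240)) o7_res_2 (b := 351)

theorem o7_tabs {G : Type*} [Group G] (M : Mod G) : Tabs (fun i => pts M.x (o7_P i)) 351 o7_T (M.wl o7_g) 13 ∧ Set.InjOn (fun i => pts M.x (o7_P i)) (Set.Iio 351) :=
  res_spec (M.tabs_wl o7_hg 13) M.inj o7_res

noncomputable def o7_p_A : ℕ → ℕ := fun i => Nat.land (Nat.shiftRight (nat_lit 0x5df283801c805902900e00500100000433615605202f01100300100000000010905301b00b00300100000000000105701c00b00300100000000000000001d009003001000000000000000000009003001000000000000000000000003001000000000000000000000000001000000000000000000000000000) (Nat.mul (nat_lit 12) i)) (nat_lit 4095)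

theorem o7_p_r_0 : allRange (nat_lit 0) (nat_lit 3) (pcOK (wT X o7_g) (nat_lit 3) (nat_lit 9) B o7_p_A) = true := by decide +kernel

theorem o7_p_r_1 : allRange (nat_lit 3) (nat_lit 3) (pcOK (wT X o7_g) (nat_lit 3) (nat_lit 9) B o7_p_A) = true := by decide +kernel

theorem o7_p_r_2 : allRange (nat_lit 6) (nat_lit 3) (pcOK (wT X o7_g) (nat_lit 3) (nat_lit 9) B o7_p_A) = true := by decide +kernel

theorem o7_p_r : ∀ i < 9, (pcOK (wT X o7_g) (nat_lit 3) (nat_lit 9) B o7_p_A) i = true := range_append 3 (range_append 3 (allRange_zero o7_p_r_0) o7_p_r_1 (b := 6)) o7_p_r_2 (b := 9)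

theorem o7_p_pc {G : Type*} [Group G] (M : Mod G) : IsPC (M.wl o7_g) 3 9 := (M.lm o7_hg 9).isPC o7_p_r

noncomputable def o7_p_ch_l : LT :=
(.node (.node (.node (.leaf [nat_lit 2,nat_lit 1])
 (.leaf [nat_lit 8,nat_lit 7,nat_lit 7,nat_lit 6,nat_lit 0]))
 (.leaf [nat_lit 6,nat_lit 5,nat_lit 5,nat_lit 4,nat_lit 4]))
 (.node (.leaf [nat_lit 3,nat_lit 2])
 (.leaf [nat_lit 7,nat_lit 6,nat_lit 5,nat_lit 3,nat_lit 0,nat_lit 0])))

theorem o7_p_ch_hl : o7_p_ch_l.all (lettersLt 9) = true := by decide +kernel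

noncomputable def o7_p_ch_2O : ℕ → ℕ := fun i => Nat.land (Nat.shiftRight (nat_lit 0x56a592286c3209037ebe9cee57138198ca168a84c170b0381a09040180602) (Nat.mul (nat_lit 9) i)) (nat_lit 511)

noncomputable def o7_p_ch_2E : ℕ → ℕ := fun i => Nat.land (Nat.shiftRight (nat_lit 0x34100940402c0201a030114140b0060490502a8201640c0740a04a02006010100040a006020010180181000401a08022030258201640c0a408046040270101280809e060400000) (Nat.mul (nat_lit 21) i)) (nat_lit 0x1fffff)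

theorem o7_p_ch_2_s : band (blt (nat_lit 2) (nat_lit 351)) (band (Nat.ble (nat_lit 0) (nat_lit 3)) (allLt (nat_lit 0) fun y => Nat.beq (wT o7_T o7_p_ch_l y (nat_lit 2)) (nat_lit 2))) = true := by decide +kernel

theorem o7_p_ch_2_o : ∀ i < 27, (fun i => band (incOK o7_p_ch_2O (nat_lit 27) (nat_lit 351) i) (orbL (wT o7_T o7_p_ch_l) (nat_lit 3) o7_p_ch_2O o7_p_ch_2E (nat_lit 27) (Nat.beq (nat_lit 2)) i)) i = true := allRange_zero (len := (nat_lit 27)) (by decide +kernel)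

noncomputable def o7_p_ch_1O : ℕ → ℕ := fun i => Nat.land (Nat.shiftRight (nat_lit 0x14ca2475e4ec441a83c01) (Nat.mul (nat_lit 9) i)) (nat_lit 511)

noncomputable def o7_p_ch_1E : ℕ → ℕ := fun i => Nat.land (Nat.shiftRight (nat_lit 0x60303606070080c81818010380401c100e010100000) (Nat.mul (nat_lit 19) i)) (nat_lit 524287)

theorem o7_p_ch_1_s : band (blt (nat_lit 1) (nat_lit 351)) (band (Nat.ble (nat_lit 3) (nat_lit 4)) (allLt (nat_lit 3) fun y => Nat.beq (wT o7_T o7_p_ch_l y (nat_lit 1)) (nat_lit 1))) = true := by decide +kernel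

theorem o7_p_ch_1_o : ∀ i < 9, (fun i => band (incOK o7_p_ch_1O (nat_lit 9) (nat_lit 351) i) (orbL (wT o7_T o7_p_ch_l) (nat_lit 4) o7_p_ch_1O o7_p_ch_1E (nat_lit 9) (Nat.beq (nat_lit 1)) i)) i = true := allRange_zero (len := (nat_lit 9)) (by decide +kernel)

noncomputable def o7_p_ch_0O : ℕ → ℕ := fun i => Nat.land (Nat.shiftRight (nat_lit 0x15eabd5aa34ca5d1a89429ccca5b258fc7635188b45629057f3f1e8f277bb5d8eb7437dbacf65b2590c662b0d82bf5eaf172ac54a8942a04fa651c894421cfa783519cb6582612490441e8e872361a0c8501e0e8703610078300200) (Nat.mul (nat_lit 9) i)) (nat_lit 511)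

noncomputable def o7_p_ch_0E : ℕ → ℕ := fun i => Nat.land (Nat.shiftRight (nat_lit 0x2b03034c0a08f8181090382420403560608382010d8101c607041e0a091c180d602820c0503300806d40c0e582021f0703460e06301411883024305045e080908101068301880303880c08a0180cd8101200604920608f0181208281b207036a060930141228302500404360408081411403022c05037e1008cc1010183023a05045c0c0680180dc83824105041a0c08641c11f0301a605030002093c18101830188030492060714180e20301bb05044a0e0690180c283821f0704700808641c0c20282170404120e068c1c11503021b02009e0c06701810a0302180404020a08bc100dc0201800000) (Nat.mul (nat_lit 23) i)) (nat_lit 0x7fffff)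

theorem o7_p_ch_0_s : band (blt (nat_lit 0) (nat_lit 351)) (band (Nat.ble (nat_lit 4) (nat_lit 5)) (allLt (nat_lit 4) fun y => Nat.beq (wT o7_T o7_p_ch_l y (nat_lit 0)) (nat_lit 0))) = true := by decide +kernel

theorem o7_p_ch_0_o : ∀ i < 81, (fun i => band (incOK o7_p_ch_0O (nat_lit 81) (nat_lit 351) i) (orbL (wT o7_T o7_p_ch_l) (nat_lit 5) o7_p_ch_0O o7_p_ch_0E (nat_lit 81) (Nat.beq (nat_lit 0)) i)) i = true := allRange_zero (len := (nat_lit 81)) (by decide +kernel)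

theorem o7_p_ch {G : Type*} [Group G] (M : Mod G) : ∀ Y : Subgroup G, Finite Y → genLt (fun s => evalW (M.wl o7_g) (o7_p_ch_l.get s)) 5 ≤ Y → 19683 * Nat.card (fixB (fun i => pts M.x (o7_P i)) Y [nat_lit 0,nat_lit 1,nat_lit 2]) ≤ Nat.card Y :=
  (LowLevel.card_fix (e := (fun i => pts M.x (o7_P i))) (lowLevel_words ((o7_tabs M).1.mono (by decide)) (o7_tabs M).2 o7_p_ch_hl o7_p_ch_0_s o7_p_ch_0_o) (LowLevel.card_fix (e := (fun i => pts M.x (o7_P i))) (lowLevel_words ((o7_tabs M).1.mono (by decide)) (o7_tabs M).2 o7_p_ch_hl o7_p_ch_1_s o7_p_ch_1_o) (LowLevel.card_fix (e := (fun i => pts M.x (o7_P i))) (lowLevel_words ((o7_tabs M).1.mono (by decide)) (o7_tabs M).2 o7_p_ch_hl o7_p_ch_2_s o7_p_ch_2_o) (card_fix_nil (fun i => pts M.x (o7_P i)) _))))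

theorem o7_p_cb {G : Type*} [Group G] (M : Mod G) : Nat.card (genLt (M.wl o7_g) 9) = 3 ^ 9 ∧ IsBase (fun i => pts M.x (o7_P i)) (genLt (M.wl o7_g) 9) [nat_lit 0,nat_lit 1,nat_lit 2] :=
  have := M.fin
  card_base_of_chain (o7_p_ch M) (words_le_genLt o7_p_ch_hl _) ((o7_p_pc M).card_le (by decide))

theorem o7_p_lm {G : Type*} [Group G] (M : Mod G) : LM (fun i => pts M.x (o7_P i)) 351 o7_T (M.wl o7_g) 9 [nat_lit 0,nat_lit 1,nat_lit 2] :=
  ⟨(o7_tabs M).2, (o7_tabs M).1.mono (by decide), (o7_p_cb M).2, by decide +kernel⟩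

noncomputable def o7_ch_l : LT :=
(.node (.node (.node (.leaf [nat_lit 11,nat_lit 3,nat_lit 3,nat_lit 9,nat_lit 0,nat_lit 11,nat_lit 6,nat_lit 3,nat_lit 4,nat_lit 10,nat_lit 10,nat_lit 7,nat_lit 7,nat_lit 7,nat_lit 7,nat_lit 7,nat_lit 7,nat_lit 7,nat_lit 7,nat_lit 9,nat_lit 10,nat_lit 10])
 (.leaf [nat_lit 1,nat_lit 2]))
 (.node (.leaf [nat_lit 6,nat_lit 6,nat_lit 12,nat_lit 0,nat_lit 0,nat_lit 5,nat_lit 6,nat_lit 1,nat_lit 11,nat_lit 11])
 (.leaf [nat_lit 0])))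
 (.node (.node (.leaf [nat_lit 10,nat_lit 11,nat_lit 10,nat_lit 10,nat_lit 3,nat_lit 9,nat_lit 9,nat_lit 1,nat_lit 11,nat_lit 3,nat_lit 1,nat_lit 2,nat_lit 11,nat_lit 2,nat_lit 3,nat_lit 9])
 (.leaf [nat_lit 1]))
 (.leaf [nat_lit 1,nat_lit 1,nat_lit 9,nat_lit 2,nat_lit 11,nat_lit 3])))

theorem o7_ch_hl : o7_ch_l.all (lettersLt 13) = true := by decide +kernel

noncomputable def o7_ch_6O : ℕ → ℕ := fun i => Nat.land (Nat.shiftRight (nat_lit 57351) (Nat.mul (nat_lit 8) i)) (nat_lit 255)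

noncomputable def o7_ch_6E : ℕ → ℕ := fun i => Nat.land (Nat.shiftRight (nat_lit 131072) (Nat.mul (nat_lit 9) i)) (nat_lit 511)

theorem o7_ch_6_s : band (blt (nat_lit 7) (nat_lit 351)) (band (Nat.ble (nat_lit 0) (nat_lit 1)) (allLt (nat_lit 0) fun y => Nat.beq (wT o7_T o7_ch_l y (nat_lit 7)) (nat_lit 7))) = true := by decide +kernel

theorem o7_ch_6_o : ∀ i < 2, (fun i => band (incOK o7_ch_6O (nat_lit 2) (nat_lit 351) i) (orbL (wT o7_T o7_ch_l) (nat_lit 1) o7_ch_6O o7_ch_6E (nat_lit 2) (Nat.beq (nat_lit 7)) i)) i = true := allRange_zero (len := (nat_lit 2)) (by decide +kernel)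

noncomputable def o7_ch_5O : ℕ → ℕ := fun i => Nat.land (Nat.shiftRight (nat_lit 0x56a7005) (Nat.mul (nat_lit 9) i)) (nat_lit 511)

noncomputable def o7_ch_5E : ℕ → ℕ := fun i => Nat.land (Nat.shiftRight (nat_lit 0x101808000000) (Nat.mul (nat_lit 18) i)) (nat_lit 262143)

theorem o7_ch_5_s : band (blt (nat_lit 5) (nat_lit 351)) (band (Nat.ble (nat_lit 1) (nat_lit 2)) (allLt (nat_lit 1) fun y => Nat.beq (wT o7_T o7_ch_l y (nat_lit 5)) (nat_lit 5))) = true := by decide +kernel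

theorem o7_ch_5_o : ∀ i < 3, (fun i => band (incOK o7_ch_5O (nat_lit 3) (nat_lit 351) i) (orbL (wT o7_T o7_ch_l) (nat_lit 2) o7_ch_5O o7_ch_5E (nat_lit 3) (Nat.beq (nat_lit 5)) i)) i = true := allRange_zero (len := (nat_lit 3)) (by decide +kernel)

noncomputable def o7_ch_4O : ℕ → ℕ := fun i => Nat.land (Nat.shiftRight (nat_lit 0xad4e00a04) (Nat.mul (nat_lit 9) i)) (nat_lit 511)

noncomputable def o7_ch_4E : ℕ → ℕ := fun i => Nat.land (Nat.shiftRight (nat_lit 0x408070300004080000) (Nat.mul (nat_lit 18) i)) (nat_lit 262143)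

theorem o7_ch_4_s : band (blt (nat_lit 4) (nat_lit 351)) (band (Nat.ble (nat_lit 2) (nat_lit 3)) (allLt (nat_lit 2) fun y => Nat.beq (wT o7_T o7_ch_l y (nat_lit 4)) (nat_lit 4))) = true := by decide +kernel

theorem o7_ch_4_o : ∀ i < 4, (fun i => band (incOK o7_ch_4O (nat_lit 4) (nat_lit 351) i) (orbL (wT o7_T o7_ch_l) (nat_lit 3) o7_ch_4O o7_ch_4E (nat_lit 4) (Nat.beq (nat_lit 4)) i)) i = true := allRange_zero (len := (nat_lit 4)) (by decide +kernel)

noncomputable def o7_ch_3O : ℕ → ℕ := fun i => Nat.land (Nat.shiftRight (nat_lit 0x2b53892c721b0c84c1206ff753a1c6e0670a02c140803c1c0c058241007030140803) (Nat.mul (nat_lit 9) i)) (nat_lit 511)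

noncomputable def o7_ch_3E : ℕ → ℕ := fun i => Nat.land (Nat.shiftRight (nat_lit 0x2008065040358181d00c000020640403b0200a00c0d6060590203b0201d81009006054030168281a4100cc080710403c8100b41405606019020268281200c028060480301d0201ec100dc0a0600000) (Nat.mul (nat_lit 21) i)) (nat_lit 0x1fffff)

theorem o7_ch_3_s : band (blt (nat_lit 3) (nat_lit 351)) (band (Nat.ble (nat_lit 3) (nat_lit 4)) (allLt (nat_lit 3) fun y => Nat.beq (wT o7_T o7_ch_l y (nat_lit 3)) (nat_lit 3))) = true := by decide +kernel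

theorem o7_ch_3_o : ∀ i < 30, (fun i => band (incOK o7_ch_3O (nat_lit 30) (nat_lit 351) i) (orbL (wT o7_T o7_ch_l) (nat_lit 4) o7_ch_3O o7_ch_3E (nat_lit 30) (Nat.beq (nat_lit 3)) i)) i = true := allRange_zero (len := (nat_lit 30)) (by decide +kernel)

noncomputable def o7_ch_2O : ℕ → ℕ := fun i => Nat.land (Nat.shiftRight (nat_lit 0x15ead52e9549a1ce25b2c92c8e45208fc721b0c85c2609037fbf9fafc7d3a9d2e873b95c6e27037dbcce6632992a952a91087d3217cbc4d210f87a36170b45428138983e190b8582812088401e0e06830160a048200e06028100602) (Nat.mul (nat_lit 9) i)) (nat_lit 511)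

noncomputable def o7_ch_2E : ℕ → ℕ := fun i => Nat.land (Nat.shiftRight (nat_lit 0x430504940a00a0140d282822006033608083c101268301aa0404500a08540c10a81811b04018c0804f0140d882013904044e0a0900140de0282310401820a0714100ca81809003028a0809181012402813804045a0806640810801822604030c0a04a81004801809204035a0800400c0d30200a40404480800540c0d30202130301400c00a0140928280140504720806581801282818d05046406063c100800082120400580a08dc1410c81002604023204044c0c118820199020364060304140490200b005046e0a04d8140c90201310404580a06481011e02812f0604220a0860140d98282000000) (Nat.mul (nat_lit 23) i)) (nat_lit 0x7fffff)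

theorem o7_ch_2_s : band (blt (nat_lit 2) (nat_lit 351)) (band (Nat.ble (nat_lit 4) (nat_lit 5)) (allLt (nat_lit 4) fun y => Nat.beq (wT o7_T o7_ch_l y (nat_lit 2)) (nat_lit 2))) = true := by decide +kernel

theorem o7_ch_2_o : ∀ i < 81, (fun i => band (incOK o7_ch_2O (nat_lit 81) (nat_lit 351) i) (orbL (wT o7_T o7_ch_l) (nat_lit 5) o7_ch_2O o7_ch_2E (nat_lit 81) (Nat.beq (nat_lit 2)) i)) i = true := allRange_zero (len := (nat_lit 81)) (by decide +kernel)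

noncomputable def o7_ch_1O : ℕ → ℕ := fun i => Nat.land (Nat.shiftRight (nat_lit 0xaf576b551a853e9d4da652e9549a451e8d44a1d0a813f9ecee713498cc25f2e96cb2572a94496472290c823f1e8ec722d1187c3a1b0c85c2a1307834120701803fdfcfd7e3edf4f5793c5dcec75ba9d2e873b99cae471b89c2e06fb79b4d76ab4da0cf6733598cb653258ac4613017aba5bad968b2582bd5aaa54aa14ea652a913c9d4e269309549a45208f46a2d148842a11068240a00fe7e3e9e0ee753a1c8dc6d361a8d26732990c4602f978ba5c2d968b25329144a04e2692c94482210c84401f8f87a3c1d8e86e361a0cc622f170b4562a148a04e2612890421f0f07034190c05c2c150a04c24110803c1c0d0602c14090401c0c050200c0401) (Nat.mul (nat_lit 9) i)) (nat_lit 511)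

noncomputable def o7_ch_1E : ℕ → ℕ := fun i => Nat.land (Nat.shiftRight (nat_lit 0xb906049406049005037c04038c0603680502d804039d0303000105730603c205004a05024e0301d90504140403b705058a05053a0401b70503ae0505ce05026c0605dd0600480603dc0503dc0500770303d70201d406013a04054e0302d10501b60505730604d905051c0602700505270501270500b705023a0403d30405430505030605690503d70202930502060503c20501440404980602a205031a06010b0603930501a706027205059005013505001c06013105047904051705059905056805036b0505d702005f05039f0603d20605c10405310505a20505470405100601170502c504056506056805047c04050906008506005e05057f05057d0403140404c403036506035a05056905056205051705019e0605a10603520503710504d80401890403b203039d03055b0605d40605c40304890404d70203790402770302c40305c20503630404c504045904023505031c0603d804027205035904046304037404037c04017e05058b05056d0505d804049d0304590405410503520500750405470402700501d304037205023e0404b203047805042705035106036405006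304006b05016304055f0500bd0605650600d702057e0504620501370601d804053a04003505057703055e05001e05044e0303c10403760504590400d006000605054e0300c104046905024a0500b203056f0605480600490502a70603890405910603480602a606044704007904033005041e05016d0504d40600a20502670603c60604300505140405a706054d06055f05052106051506005405059905034404031404025c05056a0505a20501dc05055506059706034404053c06050805037703049305034a0505240603780505060502150601b60502c706050805003b06047105057404059305003e04055205050306026405058c0605da0605000000) (Nat.mul (nat_lit 24) i)) (nat_lit 0xffffff)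

theorem o7_ch_1_s : band (blt (nat_lit 1) (nat_lit 351)) (band (Nat.ble (nat_lit 5) (nat_lit 6)) (allLt (nat_lit 5) fun y => Nat.beq (wT o7_T o7_ch_l y (nat_lit 1)) (nat_lit 1))) = true := by decide +kernel

theorem o7_ch_1_o : ∀ i < 224, (fun i => band (incOK o7_ch_1O (nat_lit 224) (nat_lit 351) i) (orbL (wT o7_T o7_ch_l) (nat_lit 6) o7_ch_1O o7_ch_1E (nat_lit 224) (Nat.beq (nat_lit 1)) i)) i = true := allRange_zero (len := (nat_lit 224)) (by decide +kernel)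

noncomputable def o7_ch_0O : ℕ → ℕ := fun i => Nat.land (Nat.shiftRight (nat_lit 0x57abb5cadd6ab358abd5aab54a9d4aa350a7d3a9b4ca5d2a9348a3d1a8b44a1d0a83409fcfa7b3c9dcea73389bcda6b3499cca633097cba5b2c95caa532893c9a4b2491c8a43208fc7a3b1c8dc6a33188bc5a2b1489c4a231087c3a1b0c85c2a130883c1a0b0481c0a03007fbf9fafc7dbe9f2f87bbd9eaf479bc9e2f077bb9daec75ba9d2e873b99cae471b89c2e06fb79badc6db69b2d86bb59aad469b49a2d067b399acc65b2992c863b198ac461b0982c05faf97abc5dae972b85bad96ab459ac962b057ab95aac55aa952a853a994aa451a8942a04fa793a9c4da6932984ba592a9449a49229047a391a8c45a29128843a190a8441a0902803f9f8fa7c3d9e8f2783b9d8ea74399c8e270379b8da6c359a8d26833998ca6431988c2602f978ba5c2d968b2582b958aa5429948a250279389a4c259289248239188a442190882401f8f87a3c1d8e872381b8d86a34198c86230178b85a2c158a85228138984a241188842200f8783a1c0d86832180b8582a14098482210078381a0c058281208038180a04018080200) (Nat.mul (nat_lit 9) i)) (nat_lit 511)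

noncomputable def o7_ch_0E : ℕ → ℕ := fun i => Nat.land (Nat.shiftRight (nat_lit 0x981404a60c053a05029c82808141005440a042505069b0280a18180d220a0c8b0506a783033f4181a840c0b3106017502832f40c05f00a0d2f04031302810901414e80a0b2b04021b81818000419da0c0648060313028192c1404300c0c05040585018285818186e060b2406004e8282b54101a3208067e05055f8281348100cc20c06cd06057c8302d481c05140a0ae305055e8181300100e940c064b05054181825180806580c0d3f04008603034901808200a064b0506a7020286814154c080a2e05011702800ac1800960a074805055302033e418046e060ca205060b83830e810197e0a0d3a05034e02832ac180d0c0c0c6f0705310282354100cca080aea05012d0202d18080a180c0609060690828042c1415860c080c06030802814901806000a053d04038682818401419260a0b220601a002810601816360a051904022e02830381419d20a0a6b05031e03034741811380a0a550504aa0301d38100d6a0a0685050324030351c101656080b5a050325030341c1808da0a0d010600978202d681412000a02ba0605650300c88180a360a066905069e820321018148c0c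069e05068582832cc18057a06066504060a82024a80c19660c08bd0300480301c301808c40a068b05057083004a014185a0c0539050385018330c181a620c045b05036a02801681019a20e072a030469020055018068c040c97050180028340014117e0a08db0502408302d2418167e080d2e05046a02813481018560c0cd305043a02822c41c09340a013905049b0282cb81415080c032f04069782020dc0c10840a06b5050645028331c10052e0a049607035983002981010ee08043a040378830351c1010e60c02aa06036002032ec18045c0a0af60603600202ad41401aa080a9e05053b82003b418193c0a065505053f8202d1c1008e60c008b0502358280b6c140e7e0806590505a30101a281410760a085c050141818129810005c0a072e05061d82831241c0e440c0c6e060385018224018198008045a04044982832341814040e0c9d05065c0301a4c14067e08049105013b8203094140e8e08024f0600458280c90180e54060b240606868283194100ab40a0c420505a1830221018018e080c7704041d0202ca80c0d4c080647050237838182018198e08064e06062902824fc1004ea0a091904060d02830ec1416860c026306009e82014841409760c064405063f82034841419740c0d3d0400750282b4010144c0a0c1a0502a50302c2c140d080c062505022d0201c280c0caa0a00850506a301005241800c60c064a06014982819181800340a064106012902818541016000a0a2f0606348282a141414340a020e05033a8282cfc10168e080d4704031503034c41818a40a042d06064d0282928180a100e026d05039383811dc10145a0c025c05052703029481419060606db05069402823f41809a80a0c0504030a0301cf41016620c0aea05039c0301a9c14141c0a04e30500060300900181906060a8f050583030310c1818d40c0a000000)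 (Nat.mul (nat_lit 25) i)) (nat_lit 0x1ffffff)

theorem o7_ch_0_s : band (blt (nat_lit 0) (nat_lit 351)) (band (Nat.ble (nat_lit 6) (nat_lit 7)) (allLt (nat_lit 6) fun y => Nat.beq (wT o7_T o7_ch_l y (nat_lit 0)) (nat_lit 0))) = true := by decide +kernel

theorem o7_ch_0_o : ∀ i < 351, (fun i => band (incOK o7_ch_0O (nat_lit 351) (nat_lit 351) i) (orbL (wT o7_T o7_ch_l) (nat_lit 7) o7_ch_0O o7_ch_0E (nat_lit 351) (Nat.beq (nat_lit 0)) i)) i = true := allRange_zero (len := (nat_lit 351)) (by decide +kernel)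

theorem o7_ch {G : Type*} [Group G] (M : Mod G) : ∀ Y : Subgroup G, Finite Y → genLt (fun s => evalW (M.wl o7_g) (o7_ch_l.get s)) 7 ≤ Y → 4585351680 * Nat.card (fixB (fun i => pts M.x (o7_P i)) Y [nat_lit 0,nat_lit 1,nat_lit 2,nat_lit 3,nat_lit 4,nat_lit 5,nat_lit 7]) ≤ Nat.card Y :=
  (LowLevel.card_fix (e := (fun i => pts M.x (o7_P i))) (lowLevel_words (o7_tabs M).1 (o7_tabs M).2 o7_ch_hl o7_ch_0_s o7_ch_0_o) (LowLevel.card_fix (e := (fun i => pts M.x (o7_P i))) (lowLevel_words (o7_tabs M).1 (o7_tabs M).2 o7_ch_hl o7_ch_1_s o7_ch_1_o) (LowLevel.card_fix (e := (fun i => pts M.x (o7_P i))) (lowLevel_words (o7_tabs M).1 (o7_tabs M).2 o7_ch_hl o7_ch_2_s o7_ch_2_o) (LowLevel.card_fix (e := (fun i => pts M.x (o7_P i))) (lowLevel_words (o7_tabs M).1 (o7_tabs M).2 o7_ch_hl o7_ch_3_s o7_ch_3_o) (LowLevel.card_fix (e := (fun i => pts M.x (o7_P i))) (lowLevel_words (o7_tabs M).1 (o7_tabs M).2 o7_ch_hl o7_ch_4_s o7_ch_4_o)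 (LowLevel.card_fix (e := (fun i => pts M.x (o7_P i))) (lowLevel_words (o7_tabs M).1 (o7_tabs M).2 o7_ch_hl o7_ch_5_s o7_ch_5_o) (LowLevel.card_fix (e := (fun i => pts M.x (o7_P i))) (lowLevel_words (o7_tabs M).1 (o7_tabs M).2 o7_ch_hl o7_ch_6_s o7_ch_6_o) (card_fix_nil (fun i => pts M.x (o7_P i)) _))))))))

noncomputable def o7_c_W : ℕ → ℕ := fun i => Nat.land (Nat.shiftRight (nat_lit 0x3933122600843120144561) (Nat.mul (nat_lit 14) i)) (nat_lit 16383)

noncomputable def o7_c_N0 : ℕ → ℕ := fun i => Nat.land (Nat.shiftRight (nat_lit 0x118fa302c6028bff17f22fcc5f68be717c22f6c5b48b6316ba2d5c5a88b4b168a2cfc59c8ac715822aec55a8aaf15522a8c54e8a9712a526624c9498c930d26024bd497492dd25a247b48f091d5239246f48d891a523324634854909d2122421483c906d20c241548248dc113e92fe25fa4bf09131225244844cc899113115522aa0553898012fe25f846188c211821d1c37c06f70dec1a942f705eb0bd0174c2e805cd0b7016d42d905630ac4158428804bf062a0c4818782fa05ee0bd016f82dc05b2036005e80b401560288043806c00c60168028803c007200d8010801e003600480048006000600080008000)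 (Nat.mul (nat_lit 15) i)) (nat_lit 32767)

noncomputable def o7_c_N1 : ℕ → ℕ := fun i => Nat.land (Nat.shiftRight (nat_lit 0x17a0bc2ddaaeaf756baadd52ea7752ba8dd42e9f73cb9ddceae73738b9bdcdae6b734b90dc82e3f71eb8edc72e3771ab8cdbfadc76c8622310d884c4162030fd87cc3d61e30a5850c276133095848c23611308581cc0d606302d814c09604301d80cbeb5e82ed5734b7f5b21950c185bb1c68ca85d6288136894846e1fa0fc87e03e21f00f787a03ce1e60e586c032a144083841820a0fe07e83f01ea0f407982880a204801f80f0072036016809004201e00d805002601200580280120060018008002000) (Nat.mul (nat_lit 13) i)) (nat_lit 8191)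

noncomputable def o7_c_N2 : ℕ → ℕ := fun i => Nat.land (Nat.shiftRight (nat_lit 0x1f83ebfcef8ff1be2fbef7bef3dafb4f67eabd0f9882d0560a40d81902e02403804fe5f83e77bcf55e622243e87103a044027b0f49e625e4b0949142224387c8f61e6360678c617a2a0528a21322404386c0ae150288360360600a8140260480780c0160280480600600800800) (Nat.mul (nat_lit 11) i)) (nat_lit 2047)

noncomputable def o7_c_N3 : ℕ → ℕ := fun i => Nat.land (Nat.shiftRight (nat_lit 0x2a0a769aa5e94a468ea2e8857159559535414d52947510b62d4b42b4ac2aca428ca21946418c5c16c5a14c5214448114420fc380dc360cc300b4240741c06c120240801c060140400c0200400) (Nat.mul (nat_lit 10) i)) (nat_lit 1023)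

noncomputable def o7_c_N4 : ℕ → ℕ := fun i => Nat.land (Nat.shiftRight (nat_lit 0xe0dfdedddcdbdad9d874737271706f6e6d6c3c3936211e1b181716151211100f0c090603020100) (Nat.mul (nat_lit 8) i)) (nat_lit 255)

noncomputable def o7_c_N5 : ℕ → ℕ := fun i => Nat.land (Nat.shiftRight (nat_lit 0x4a93220c07ee1bb65eb96a64a90e9c365099216284880e182840608080) (Nat.mul (nat_lit 7) i)) (nat_lit 127)

noncomputable def o7_c_N6 : ℕ → ℕ := fun i => Nat.land (Nat.shiftRight (nat_lit 0x62b27b12618820) (Nat.mul (nat_lit 5) i)) (nat_lit 31)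

noncomputable def o7_c_N7 : ℕ → ℕ := fun i => Nat.land (Nat.shiftRight (nat_lit 0x876543210) (Nat.mul (nat_lit 4) i)) (nat_lit 15)

noncomputable def o7_c_N8 : ℕ → ℕ := fun i => Nat.land (Nat.shiftRight (nat_lit 36) (Nat.mul (nat_lit 2) i)) (nat_lit 3)

noncomputable def o7_c_N9 : ℕ → ℕ := fun i => Nat.land (Nat.shiftRight (nat_lit 0) (Nat.mul (nat_lit 1) i)) (nat_lit 1)

noncomputable def o7_c_D : LT :=
(.node (.node (.node (.node (.node (.node (.node (.leaf [nat_lit 0])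
 (.leaf [nat_lit 2,nat_lit 0,nat_lit 6,nat_lit 12,nat_lit 0,nat_lit 9,nat_lit 0,nat_lit 2,nat_lit 2,nat_lit 1,nat_lit 1,nat_lit 0,nat_lit 0,nat_lit 9,nat_lit 0,nat_lit 7,nat_lit 3,nat_lit 12,nat_lit 3,nat_lit 3,nat_lit 11,nat_lit 11,nat_lit 2,nat_lit 11,nat_lit 3,nat_lit 6,nat_lit 6,nat_lit 12,nat_lit 0,nat_lit 9,nat_lit 5,nat_lit 5,nat_lit 9,nat_lit 9,nat_lit 1,nat_lit 1,nat_lit 6,nat_lit 6,nat_lit 5,nat_lit 5,nat_lit 5,nat_lit 5,nat_lit 5,nat_lit 5,nat_lit 5,nat_lit 5,nat_lit 0,nat_lit 10,nat_lit 6]))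
 (.node (.leaf [nat_lit 2,nat_lit 0,nat_lit 2,nat_lit 3,nat_lit 10,nat_lit 2,nat_lit 9,nat_lit 3,nat_lit 3,nat_lit 12,nat_lit 1,nat_lit 1,nat_lit 0,nat_lit 7,nat_lit 11,nat_lit 12,nat_lit 1,nat_lit 2,nat_lit 11,nat_lit 2,nat_lit 3,nat_lit 9,nat_lit 6,nat_lit 6,nat_lit 12,nat_lit 0,nat_lit 0,nat_lit 5,nat_lit 6,nat_lit 1,nat_lit 11,nat_lit 11])
 (.leaf [nat_lit 2,nat_lit 6,nat_lit 6,nat_lit 11,nat_lit 12,nat_lit 11,nat_lit 1,nat_lit 1,nat_lit 11,nat_lit 11,nat_lit 2,nat_lit 11,nat_lit 3,nat_lit 10,nat_lit 2,nat_lit 2,nat_lit 6,nat_lit 6,nat_lit 0,nat_lit 0,nat_lit 12,nat_lit 7,nat_lit 9,nat_lit 9,nat_lit 1,nat_lit 1,nat_lit 6,nat_lit 6,nat_lit 5,nat_lit 5,nat_lit 5,nat_lit 5,nat_lit 5,nat_lit 5,nat_lit 5,nat_lit 5,nat_lit 0,nat_lit 10,nat_lit 6])))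
 (.node (.node (.leaf [nat_lit 2,nat_lit 2,nat_lit 11,nat_lit 10,nat_lit 2,nat_lit 11,nat_lit 2,nat_lit 9,nat_lit 9,nat_lit 3,nat_lit 3,nat_lit 10,nat_lit 4,nat_lit 4,nat_lit 0,nat_lit 2,nat_lit 12,nat_lit 1,nat_lit 2,nat_lit 1,nat_lit 9,nat_lit 2,nat_lit 10,nat_lit 11,nat_lit 3,nat_lit 3,nat_lit 10,nat_lit 8,nat_lit 7])
 (.leaf [nat_lit 2,nat_lit 4,nat_lit 11,nat_lit 5,nat_lit 12,nat_lit 6,nat_lit 6,nat_lit 2,nat_lit 2,nat_lit 10,nat_lit 2,nat_lit 3,nat_lit 12,nat_lit 12,nat_lit 9,nat_lit 12,nat_lit 6,nat_lit 6,nat_lit 11,nat_lit 12,nat_lit 12,nat_lit 3,nat_lit 11,nat_lit 10,nat_lit 10,nat_lit 3,nat_lit 9,nat_lit 9,nat_lit 1,nat_lit 11,nat_lit 3,nat_lit 1,nat_lit 2,nat_lit 11,nat_lit 2,nat_lit 3,nat_lit 9]))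
 (.node (.leaf [nat_lit 6,nat_lit 1,nat_lit 11,nat_lit 4,nat_lit 0,nat_lit 9,nat_lit 12,nat_lit 0,nat_lit 11,nat_lit 10,nat_lit 9,nat_lit 2,nat_lit 2,nat_lit 10,nat_lit 2,nat_lit 2,nat_lit 0,nat_lit 9,nat_lit 10,nat_lit 1,nat_lit 3,nat_lit 3,nat_lit 1,nat_lit 11,nat_lit 2,nat_lit 9,nat_lit 9,nat_lit 3,nat_lit 3,nat_lit 11,nat_lit 4,nat_lit 10,nat_lit 0,nat_lit 11,nat_lit 0,nat_lit 0])
 (.leaf [nat_lit 2,nat_lit 0,nat_lit 10,nat_lit 9,nat_lit 1,nat_lit 1,nat_lit 0,nat_lit 0,nat_lit 11,nat_lit 10,nat_lit 6,nat_lit 6,nat_lit 0,nat_lit 2,nat_lit 4,nat_lit 5,nat_lit 1,nat_lit 1,nat_lit 9,nat_lit 2,nat_lit 2,nat_lit 11,nat_lit 1,nat_lit 9,nat_lit 9,nat_lit 2,nat_lit 2,nat_lit 9,nat_lit 9,nat_lit 1,nat_lit 6,nat_lit 6,nat_lit 12,nat_lit 0,nat_lit 0,nat_lit 5,nat_lit 6,nat_lit 1,nat_lit 11,nat_lit 11]))))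
 (.node (.node (.node (.leaf [nat_lit 6,nat_lit 4,nat_lit 1,nat_lit 2,nat_lit 12,nat_lit 2,nat_lit 6,nat_lit 10,nat_lit 2,nat_lit 3,nat_lit 9,nat_lit 9,nat_lit 9,nat_lit 0,nat_lit 0,nat_lit 11,nat_lit 0,nat_lit 0,nat_lit 11,nat_lit 12,nat_lit 0,nat_lit 0,nat_lit 5,nat_lit 6,nat_lit 1,nat_lit 11,nat_lit 11])
 (.leaf [nat_lit 4,nat_lit 11,nat_lit 4,nat_lit 6,nat_lit 6,nat_lit 9,nat_lit 12,nat_lit 0,nat_lit 0,nat_lit 8,nat_lit 5,nat_lit 1,nat_lit 9,nat_lit 2,nat_lit 10,nat_lit 11,nat_lit 10,nat_lit 10,nat_lit 9,nat_lit 1,nat_lit 1,nat_lit 9,nat_lit 2,nat_lit 11,nat_lit 3,nat_lit 10,nat_lit 11,nat_lit 10,nat_lit 10,nat_lit 3,nat_lit 9,nat_lit 9,nat_lit 1,nat_lit 11,nat_lit 3,nat_lit 1,nat_lit 2,nat_lit 11,nat_lit 2,nat_lit 3,nat_lit 9]))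
 (.node (.leaf [nat_lit 5,nat_lit 11,nat_lit 0,nat_lit 1,nat_lit 12,nat_lit 4,nat_lit 1,nat_lit 1,nat_lit 9,nat_lit 1,nat_lit 2,nat_lit 11,nat_lit 3,nat_lit 9,nat_lit 9,nat_lit 1,nat_lit 1,nat_lit 6,nat_lit 6,nat_lit 5,nat_lit 5,nat_lit 5,nat_lit 5,nat_lit 5,nat_lit 5,nat_lit 5,nat_lit 5,nat_lit 0,nat_lit 10,nat_lit 6])
 (.leaf [nat_lit 1,nat_lit 6,nat_lit 6,nat_lit 9,nat_lit 0,nat_lit 0,nat_lit 2,nat_lit 2,nat_lit 9,nat_lit 12,nat_lit 9,nat_lit 6,nat_lit 12,nat_lit 8,nat_lit 2,nat_lit 3,nat_lit 0,nat_lit 8,nat_lit 11,nat_lit 4,nat_lit 9,nat_lit 2,nat_lit 3,nat_lit 3,nat_lit 9,nat_lit 0,nat_lit 11,nat_lit 6,nat_lit 3,nat_lit 4,nat_lit 10,nat_lit 10,nat_lit 7,nat_lit 7,nat_lit 7,nat_lit 7,nat_lit 7,nat_lit 7,nat_lit 7,nat_lit 7,nat_lit 9,nat_lit 10,nat_lit 10])))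
 (.node (.node (.leaf [nat_lit 3,nat_lit 4,nat_lit 11,nat_lit 10,nat_lit 10,nat_lit 2,nat_lit 1,nat_lit 2,nat_lit 1,nat_lit 1,nat_lit 3,nat_lit 9,nat_lit 9,nat_lit 3,nat_lit 3,nat_lit 4,nat_lit 5,nat_lit 12,nat_lit 4])
 (.leaf [nat_lit 4,nat_lit 4,nat_lit 12,nat_lit 4,nat_lit 12,nat_lit 0,nat_lit 5,nat_lit 10,nat_lit 0,nat_lit 6,nat_lit 6,nat_lit 10,nat_lit 0,nat_lit 0,nat_lit 2,nat_lit 3,nat_lit 0,nat_lit 1,nat_lit 12,nat_lit 6,nat_lit 11,nat_lit 3,nat_lit 10,nat_lit 2,nat_lit 2,nat_lit 6,nat_lit 6,nat_lit 0,nat_lit 0,nat_lit 12,nat_lit 7]))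
 (.node (.leaf [nat_lit 1,nat_lit 11,nat_lit 8,nat_lit 10,nat_lit 4,nat_lit 4,nat_lit 0,nat_lit 12,nat_lit 8,nat_lit 5,nat_lit 12,nat_lit 5,nat_lit 7,nat_lit 10,nat_lit 1,nat_lit 1,nat_lit 9,nat_lit 2,nat_lit 11,nat_lit 3,nat_lit 6,nat_lit 6,nat_lit 12,nat_lit 0,nat_lit 0,nat_lit 5,nat_lit 6,nat_lit 1,nat_lit 11,nat_lit 11])
 (.leaf [nat_lit 2,nat_lit 5,nat_lit 11,nat_lit 6,nat_lit 11,nat_lit 11,nat_lit 2,nat_lit 2,nat_lit 1,nat_lit 9,nat_lit 2,nat_lit 2,nat_lit 11,nat_lit 4,nat_lit 4,nat_lit 11,nat_lit 2,nat_lit 2,nat_lit 3,nat_lit 10,nat_lit 8])))))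
 (.node (.node (.node (.node (.leaf [nat_lit 6,nat_lit 0,nat_lit 6,nat_lit 6,nat_lit 0,nat_lit 1,nat_lit 12,nat_lit 6,nat_lit 1,nat_lit 9,nat_lit 9,nat_lit 1,nat_lit 6,nat_lit 0,nat_lit 1,nat_lit 12,nat_lit 4,nat_lit 12,nat_lit 2,nat_lit 6,nat_lit 10])
 (.leaf [nat_lit 5,nat_lit 6,nat_lit 8,nat_lit 11,nat_lit 12,nat_lit 1,nat_lit 12,nat_lit 3,nat_lit 3,nat_lit 1,nat_lit 1,nat_lit 2,nat_lit 11,nat_lit 2,nat_lit 2,nat_lit 9,nat_lit 4,nat_lit 4,nat_lit 5,nat_lit 5,nat_lit 6,nat_lit 0,nat_lit 8,nat_lit 11,nat_lit 4,nat_lit 9,nat_lit 2,nat_lit 9,nat_lit 6,nat_lit 6,nat_lit 12,nat_lit 0,nat_lit 0,nat_lit 5,nat_lit 6,nat_lit 1,nat_lit 11,nat_lit 11]))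
 (.node (.leaf [nat_lit 6,nat_lit 6,nat_lit 5,nat_lit 8,nat_lit 2,nat_lit 2,nat_lit 9,nat_lit 1,nat_lit 2,nat_lit 9,nat_lit 9,nat_lit 9,nat_lit 0,nat_lit 0,nat_lit 11,nat_lit 0,nat_lit 0,nat_lit 11,nat_lit 12,nat_lit 0,nat_lit 0,nat_lit 5,nat_lit 6,nat_lit 1,nat_lit 11,nat_lit 11])
 (.leaf [nat_lit 4,nat_lit 3,nat_lit 3,nat_lit 12,nat_lit 12,nat_lit 3,nat_lit 4,nat_lit 10,nat_lit 4,nat_lit 3,nat_lit 3,nat_lit 1,nat_lit 1,nat_lit 2,nat_lit 0,nat_lit 8,nat_lit 11,nat_lit 4,nat_lit 9,nat_lit 2,nat_lit 9,nat_lit 0,nat_lit 8,nat_lit 11,nat_lit 4,nat_lit 9,nat_lit 2,nat_lit 9,nat_lit 6,nat_lit 6,nat_lit 12,nat_lit 0,nat_lit 0,nat_lit 5,nat_lit 6,nat_lit 1,nat_lit 11,nat_lit 11])))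
 (.node (.node (.leaf [nat_lit 5,nat_lit 3,nat_lit 5,nat_lit 8,nat_lit 0,nat_lit 10,nat_lit 9,nat_lit 0,nat_lit 4,nat_lit 12,nat_lit 2,nat_lit 2,nat_lit 11,nat_lit 2,nat_lit 9,nat_lit 1,nat_lit 1,nat_lit 11,nat_lit 3,nat_lit 3,nat_lit 12,nat_lit 12,nat_lit 9,nat_lit 12,nat_lit 6,nat_lit 6,nat_lit 12,nat_lit 0,nat_lit 0,nat_lit 5,nat_lit 6,nat_lit 1,nat_lit 11,nat_lit 11])
 (.leaf [nat_lit 2,nat_lit 1,nat_lit 10,nat_lit 0,nat_lit 3,nat_lit 9,nat_lit 1,nat_lit 3,nat_lit 11,nat_lit 3,nat_lit 10,nat_lit 2,nat_lit 2,nat_lit 6,nat_lit 6,nat_lit 0,nat_lit 0,nat_lit 12,nat_lit 7,nat_lit 11,nat_lit 2,nat_lit 2,nat_lit 9,nat_lit 0,nat_lit 8,nat_lit 11,nat_lit 4,nat_lit 9,nat_lit 2,nat_lit 9,nat_lit 3,nat_lit 3,nat_lit 1]))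
 (.node (.leaf [nat_lit 1,nat_lit 3,nat_lit 9,nat_lit 1,nat_lit 9,nat_lit 4,nat_lit 6,nat_lit 6,nat_lit 0,nat_lit 0,nat_lit 5,nat_lit 4,nat_lit 1,nat_lit 1,nat_lit 3,nat_lit 9,nat_lit 9,nat_lit 3,nat_lit 3,nat_lit 4,nat_lit 5,nat_lit 12,nat_lit 4])
 (.leaf [nat_lit 5,nat_lit 10,nat_lit 11,nat_lit 10,nat_lit 6,nat_lit 6,nat_lit 12,nat_lit 11,nat_lit 12,nat_lit 5,nat_lit 1,nat_lit 2,nat_lit 11,nat_lit 2,nat_lit 2,nat_lit 9,nat_lit 4,nat_lit 4,nat_lit 5,nat_lit 5,nat_lit 6]))))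
 (.node (.node (.node (.leaf [nat_lit 6,nat_lit 0,nat_lit 3,nat_lit 11,nat_lit 12,nat_lit 11,nat_lit 1,nat_lit 1,nat_lit 0,nat_lit 6,nat_lit 12,nat_lit 1,nat_lit 2,nat_lit 9,nat_lit 1,nat_lit 1,nat_lit 9,nat_lit 1,nat_lit 11,nat_lit 3,nat_lit 1,nat_lit 2,nat_lit 11,nat_lit 2,nat_lit 9,nat_lit 0,nat_lit 11,nat_lit 6,nat_lit 3,nat_lit 4,nat_lit 10,nat_lit 10,nat_lit 7,nat_lit 7,nat_lit 7,nat_lit 7,nat_lit 7,nat_lit 7,nat_lit 7,nat_lit 7,nat_lit 9,nat_lit 10,nat_lit 10])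
 (.leaf [nat_lit 5,nat_lit 5,nat_lit 11,nat_lit 0,nat_lit 4,nat_lit 0,nat_lit 6,nat_lit 10,nat_lit 0,nat_lit 0,nat_lit 5,nat_lit 4,nat_lit 0,nat_lit 8,nat_lit 11,nat_lit 4,nat_lit 9,nat_lit 9,nat_lit 0,nat_lit 8,nat_lit 11,nat_lit 4,nat_lit 9,nat_lit 2,nat_lit 9,nat_lit 3,nat_lit 3,nat_lit 1]))
 (.node (.leaf [nat_lit 1,nat_lit 7,nat_lit 9,nat_lit 10,nat_lit 3,nat_lit 11,nat_lit 1,nat_lit 9,nat_lit 9,nat_lit 1,nat_lit 1,nat_lit 3,nat_lit 9,nat_lit 9,nat_lit 2,nat_lit 3,nat_lit 0,nat_lit 8,nat_lit 11,nat_lit 4,nat_lit 9,nat_lit 2,nat_lit 9])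
 (.leaf [nat_lit 2,nat_lit 11,nat_lit 10,nat_lit 1,nat_lit 1,nat_lit 9,nat_lit 2,nat_lit 3,nat_lit 2,nat_lit 2,nat_lit 1,nat_lit 3,nat_lit 6,nat_lit 6,nat_lit 1,nat_lit 1,nat_lit 10,nat_lit 0,nat_lit 0,nat_lit 10,nat_lit 10,nat_lit 0,nat_lit 0,nat_lit 11,nat_lit 5,nat_lit 10,nat_lit 11,nat_lit 10,nat_lit 10,nat_lit 3,nat_lit 9,nat_lit 9,nat_lit 1,nat_lit 11,nat_lit 3,nat_lit 1,nat_lit 2,nat_lit 11,nat_lit 2,nat_lit 3,nat_lit 9])))
 (.node (.node (.leaf [nat_lit 1,nat_lit 0,nat_lit 9,nat_lit 7,nat_lit 12,nat_lit 0,nat_lit 10,nat_lit 8,nat_lit 12,nat_lit 8,nat_lit 2,nat_lit 2,nat_lit 9,nat_lit 10,nat_lit 11,nat_lit 3,nat_lit 3,nat_lit 10,nat_lit 8,nat_lit 5,nat_lit 9,nat_lit 9,nat_lit 9,nat_lit 0,nat_lit 0,nat_lit 11,nat_lit 0,nat_lit 0,nat_lit 11,nat_lit 6])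
 (.leaf [nat_lit 2,nat_lit 9,nat_lit 7,nat_lit 12,nat_lit 12,nat_lit 1,nat_lit 12,nat_lit 1,nat_lit 2,nat_lit 0,nat_lit 0,nat_lit 11,nat_lit 5,nat_lit 5,nat_lit 5,nat_lit 5,nat_lit 5,nat_lit 5,nat_lit 5,nat_lit 5,nat_lit 2,nat_lit 11,nat_lit 5,nat_lit 1,nat_lit 9,nat_lit 1,nat_lit 2,nat_lit 3]))
 (.node (.leaf [nat_lit 4,nat_lit 1,nat_lit 10,nat_lit 4,nat_lit 6,nat_lit 6,nat_lit 12,nat_lit 11,nat_lit 12,nat_lit 5,nat_lit 6,nat_lit 6,nat_lit 10,nat_lit 0,nat_lit 0,nat_lit 2,nat_lit 3,nat_lit 0,nat_lit 1,nat_lit 12,nat_lit 6,nat_lit 1,nat_lit 1,nat_lit 9,nat_lit 2,nat_lit 2,nat_lit 11,nat_lit 4,nat_lit 4,nat_lit 11,nat_lit 2,nat_lit 2,nat_lit 3,nat_lit 10,nat_lit 8,nat_lit 6,nat_lit 6,nat_lit 12,nat_lit 0,nat_lit 0,nat_lit 5,nat_lit 6,nat_lit 1,nat_lit 11,nat_lit 11])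
 (.leaf [nat_lit 4,nat_lit 3,nat_lit 4,nat_lit 11,nat_lit 10,nat_lit 10,nat_lit 9,nat_lit 3,nat_lit 3,nat_lit 12,nat_lit 1,nat_lit 1,nat_lit 0,nat_lit 7,nat_lit 11,nat_lit 12,nat_lit 12,nat_lit 12,nat_lit 9,nat_lit 12,nat_lit 6,nat_lit 6,nat_lit 11,nat_lit 12,nat_lit 12,nat_lit 3,nat_lit 12]))))))
 (.node (.node (.node (.node (.node (.leaf [nat_lit 6,nat_lit 5,nat_lit 10,nat_lit 6,nat_lit 6,nat_lit 9,nat_lit 1,nat_lit 1,nat_lit 12,nat_lit 11,nat_lit 8,nat_lit 2,nat_lit 2,nat_lit 1,nat_lit 3,nat_lit 9,nat_lit 9,nat_lit 9,nat_lit 0,nat_lit 0,nat_lit 11,nat_lit 0,nat_lit 0,nat_lit 11,nat_lit 6])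
 (.leaf [nat_lit 3,nat_lit 7,nat_lit 3,nat_lit 3,nat_lit 12,nat_lit 0,nat_lit 10,nat_lit 0,nat_lit 5,nat_lit 2,nat_lit 1,nat_lit 11,nat_lit 2,nat_lit 9,nat_lit 9,nat_lit 3,nat_lit 3,nat_lit 11,nat_lit 4,nat_lit 10,nat_lit 0,nat_lit 11,nat_lit 0,nat_lit 0]))
 (.node (.leaf [nat_lit 0,nat_lit 3,nat_lit 5,nat_lit 8,nat_lit 12,nat_lit 6,nat_lit 6,nat_lit 2,nat_lit 2,nat_lit 10,nat_lit 11,nat_lit 1,nat_lit 12,nat_lit 0,nat_lit 12,nat_lit 12,nat_lit 8,nat_lit 2,nat_lit 2,nat_lit 1,nat_lit 3,nat_lit 1,nat_lit 1,nat_lit 9,nat_lit 12,nat_lit 11,nat_lit 0,nat_lit 9,nat_lit 2,nat_lit 7])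
 (.leaf [nat_lit 2,nat_lit 10,nat_lit 11,nat_lit 10,nat_lit 10,nat_lit 2,nat_lit 9,nat_lit 8,nat_lit 10,nat_lit 1,nat_lit 1,nat_lit 9,nat_lit 1,nat_lit 11,nat_lit 1,nat_lit 11,nat_lit 3,nat_lit 11,nat_lit 6,nat_lit 6,nat_lit 12,nat_lit 3,nat_lit 5,nat_lit 6])))
 (.node (.node (.leaf [nat_lit 1,nat_lit 9,nat_lit 5,nat_lit 6,nat_lit 6,nat_lit 11,nat_lit 0,nat_lit 2,nat_lit 10,nat_lit 8,nat_lit 11,nat_lit 2,nat_lit 9,nat_lit 9,nat_lit 9,nat_lit 1,nat_lit 1,nat_lit 3,nat_lit 9,nat_lit 9,nat_lit 2,nat_lit 3,nat_lit 9,nat_lit 9,nat_lit 1,nat_lit 1,nat_lit 6,nat_lit 6,nat_lit 4,nat_lit 4,nat_lit 9,nat_lit 0,nat_lit 9,nat_lit 10,nat_lit 4,nat_lit 6,nat_lit 6,nat_lit 12,nat_lit 0,nat_lit 0,nat_lit 5,nat_lit 6,nat_lit 1,nat_lit 11,nat_lit 11])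
 (.leaf [nat_lit 4,nat_lit 10,nat_lit 6,nat_lit 6,nat_lit 9,nat_lit 12,nat_lit 0,nat_lit 0,nat_lit 8,nat_lit 5,nat_lit 11,nat_lit 2,nat_lit 3,nat_lit 2,nat_lit 2,nat_lit 9,nat_lit 0,nat_lit 8,nat_lit 11,nat_lit 4,nat_lit 9,nat_lit 2,nat_lit 9,nat_lit 3,nat_lit 3,nat_lit 1]))
 (.node (.leaf [nat_lit 2,nat_lit 7,nat_lit 9,nat_lit 4,nat_lit 4,nat_lit 6,nat_lit 6,nat_lit 7,nat_lit 0,nat_lit 0,nat_lit 4,nat_lit 5,nat_lit 6,nat_lit 6,nat_lit 1,nat_lit 2,nat_lit 11,nat_lit 2,nat_lit 9,nat_lit 0,nat_lit 11,nat_lit 6,nat_lit 3,nat_lit 4,nat_lit 10,nat_lit 10,nat_lit 7,nat_lit 7,nat_lit 7,nat_lit 7,nat_lit 7,nat_lit 7,nat_lit 7,nat_lit 7,nat_lit 9,nat_lit 10,nat_lit 10])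
 (.leaf [nat_lit 2,nat_lit 2,nat_lit 9,nat_lit 4,nat_lit 0,nat_lit 0,nat_lit 12,nat_lit 4,nat_lit 4,nat_lit 7,nat_lit 3,nat_lit 10,nat_lit 2,nat_lit 3,nat_lit 1,nat_lit 2,nat_lit 11,nat_lit 2,nat_lit 3,nat_lit 9]))))
 (.node (.node (.node (.leaf [nat_lit 0,nat_lit 6,nat_lit 1,nat_lit 0,nat_lit 8,nat_lit 11,nat_lit 4,nat_lit 9,nat_lit 2,nat_lit 9,nat_lit 0,nat_lit 8,nat_lit 11,nat_lit 4,nat_lit 9,nat_lit 2,nat_lit 9])
 (.leaf [nat_lit 5,nat_lit 5,nat_lit 3,nat_lit 12,nat_lit 12,nat_lit 11,nat_lit 3,nat_lit 3,nat_lit 7,nat_lit 11,nat_lit 5,nat_lit 3,nat_lit 3,nat_lit 1,nat_lit 9,nat_lit 9,nat_lit 9,nat_lit 0,nat_lit 0,nat_lit 11,nat_lit 0,nat_lit 0,nat_lit 11,nat_lit 12,nat_lit 0,nat_lit 0,nat_lit 5,nat_lit 6,nat_lit 1,nat_lit 11,nat_lit 11]))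
 (.node (.leaf [nat_lit 2,nat_lit 5,nat_lit 8,nat_lit 8,nat_lit 6,nat_lit 8,nat_lit 12,nat_lit 0,nat_lit 11,nat_lit 2,nat_lit 9,nat_lit 2,nat_lit 3,nat_lit 9,nat_lit 9,nat_lit 1,nat_lit 1,nat_lit 6,nat_lit 6,nat_lit 4,nat_lit 4,nat_lit 9,nat_lit 0,nat_lit 9,nat_lit 10,nat_lit 4,nat_lit 6,nat_lit 6,nat_lit 12,nat_lit 0,nat_lit 0,nat_lit 5,nat_lit 6,nat_lit 1,nat_lit 11,nat_lit 11])
 (.leaf [nat_lit 2,nat_lit 10,nat_lit 9,nat_lit 0,nat_lit 4,nat_lit 12,nat_lit 3,nat_lit 9,nat_lit 9,nat_lit 1,nat_lit 1,nat_lit 3,nat_lit 9,nat_lit 9,nat_lit 1,nat_lit 1,nat_lit 9,nat_lit 1,nat_lit 1,nat_lit 11,nat_lit 11,nat_lit 3,nat_lit 3,nat_lit 12,nat_lit 11,nat_lit 0,nat_lit 9,nat_lit 2,nat_lit 5])))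
 (.node (.node (.leaf [nat_lit 4,nat_lit 11,nat_lit 8,nat_lit 12,nat_lit 2,nat_lit 9,nat_lit 2,nat_lit 9,nat_lit 9,nat_lit 2,nat_lit 2,nat_lit 9,nat_lit 9,nat_lit 3,nat_lit 1,nat_lit 1,nat_lit 9,nat_lit 2,nat_lit 11,nat_lit 3,nat_lit 11,nat_lit 2,nat_lit 9,nat_lit 1,nat_lit 1,nat_lit 9,nat_lit 1,nat_lit 11,nat_lit 3])
 (.leaf [nat_lit 2,nat_lit 1,nat_lit 11,nat_lit 0,nat_lit 12,nat_lit 11,nat_lit 10,nat_lit 0,nat_lit 10,nat_lit 10,nat_lit 9,nat_lit 5,nat_lit 10,nat_lit 3,nat_lit 11,nat_lit 11,nat_lit 2,nat_lit 9,nat_lit 1,nat_lit 1,nat_lit 9,nat_lit 1,nat_lit 11,nat_lit 3,nat_lit 6,nat_lit 6,nat_lit 12,nat_lit 0,nat_lit 0,nat_lit 5,nat_lit 6,nat_lit 1,nat_lit 11,nat_lit 11]))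
 (.node (.leaf [nat_lit 4,nat_lit 7,nat_lit 6,nat_lit 10,nat_lit 3,nat_lit 3,nat_lit 2,nat_lit 2,nat_lit 12,nat_lit 5,nat_lit 6,nat_lit 1,nat_lit 1,nat_lit 3,nat_lit 1,nat_lit 1,nat_lit 3,nat_lit 9,nat_lit 9,nat_lit 3,nat_lit 3,nat_lit 4,nat_lit 5,nat_lit 12,nat_lit 4])
 (.leaf [nat_lit 4,nat_lit 0,nat_lit 11,nat_lit 10,nat_lit 1,nat_lit 1,nat_lit 2,nat_lit 10,nat_lit 11,nat_lit 10,nat_lit 10,nat_lit 9,nat_lit 2,nat_lit 2,nat_lit 1,nat_lit 3,nat_lit 1,nat_lit 1,nat_lit 9,nat_lit 12,nat_lit 11,nat_lit 0,nat_lit 9,nat_lit 2,nat_lit 7])))))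
 (.node (.node (.node (.node (.leaf [nat_lit 3,nat_lit 11,nat_lit 10,nat_lit 5,nat_lit 11,nat_lit 3,nat_lit 11,nat_lit 1,nat_lit 5,nat_lit 8,nat_lit 0,nat_lit 11,nat_lit 11,nat_lit 12,nat_lit 12,nat_lit 12,nat_lit 12,nat_lit 9,nat_lit 12,nat_lit 6,nat_lit 6,nat_lit 11,nat_lit 12,nat_lit 12,nat_lit 3,nat_lit 12])
 (.leaf [nat_lit 2,nat_lit 10,nat_lit 8,nat_lit 4,nat_lit 4,nat_lit 11,nat_lit 2,nat_lit 2,nat_lit 8,nat_lit 11,nat_lit 7,nat_lit 11,nat_lit 3,nat_lit 2,nat_lit 9,nat_lit 1,nat_lit 1,nat_lit 11,nat_lit 2,nat_lit 2,nat_lit 6,nat_lit 8,nat_lit 8,nat_lit 10,nat_lit 7]))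
 (.node (.leaf [nat_lit 1,nat_lit 4,nat_lit 9,nat_lit 8,nat_lit 10,nat_lit 9,nat_lit 6,nat_lit 0,nat_lit 2,nat_lit 11,nat_lit 6,nat_lit 12,nat_lit 5,nat_lit 7,nat_lit 10,nat_lit 9,nat_lit 9,nat_lit 9,nat_lit 0,nat_lit 0,nat_lit 11,nat_lit 0,nat_lit 0,nat_lit 11,nat_lit 6])
 (.leaf [nat_lit 4,nat_lit 0,nat_lit 8,nat_lit 8,nat_lit 6,nat_lit 6,nat_lit 12,nat_lit 0,nat_lit 3,nat_lit 10,nat_lit 6,nat_lit 11,nat_lit 11,nat_lit 6,nat_lit 6,nat_lit 12,nat_lit 2,nat_lit 6,nat_lit 5,nat_lit 1,nat_lit 2,nat_lit 11,nat_lit 2,nat_lit 9,nat_lit 0,nat_lit 11,nat_lit 6,nat_lit 3,nat_lit 4,nat_lit 10,nat_lit 10,nat_lit 7,nat_lit 7,nat_lit 7,nat_lit 7,nat_lit 7,nat_lit 7,nat_lit 7,nat_lit 7,nat_lit 9,nat_lit 10,nat_lit 10])))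
 (.node (.node (.leaf [nat_lit 2,nat_lit 0,nat_lit 9,nat_lit 3,nat_lit 5,nat_lit 10,nat_lit 11,nat_lit 11,nat_lit 7,nat_lit 12,nat_lit 2,nat_lit 2,nat_lit 9,nat_lit 10,nat_lit 11,nat_lit 3,nat_lit 3,nat_lit 10,nat_lit 8,nat_lit 5,nat_lit 11,nat_lit 2,nat_lit 9,nat_lit 1,nat_lit 1,nat_lit 9,nat_lit 1,nat_lit 11,nat_lit 3,nat_lit 6,nat_lit 6,nat_lit 12,nat_lit 0,nat_lit 0,nat_lit 5,nat_lit 6,nat_lit 1,nat_lit 11,nat_lit 11])
 (.leaf [nat_lit 2,nat_lit 0,nat_lit 10,nat_lit 0,nat_lit 6,nat_lit 0,nat_lit 7,nat_lit 6,nat_lit 9,nat_lit 1,nat_lit 1,nat_lit 9,nat_lit 2,nat_lit 11,nat_lit 1,nat_lit 0,nat_lit 0,nat_lit 11,nat_lit 5,nat_lit 5,nat_lit 5,nat_lit 5,nat_lit 5,nat_lit 5,nat_lit 5,nat_lit 5,nat_lit 2,nat_lit 11,nat_lit 5,nat_lit 1,nat_lit 9,nat_lit 1,nat_lit 2,nat_lit 3]))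
 (.node (.leaf [nat_lit 3,nat_lit 10,nat_lit 0,nat_lit 6,nat_lit 6,nat_lit 12,nat_lit 11,nat_lit 11,nat_lit 6,nat_lit 3,nat_lit 11,nat_lit 1,nat_lit 4,nat_lit 4,nat_lit 11,nat_lit 0,nat_lit 0,nat_lit 5,nat_lit 10,nat_lit 4,nat_lit 1,nat_lit 1,nat_lit 3,nat_lit 1,nat_lit 1,nat_lit 9,nat_lit 2,nat_lit 11,nat_lit 1,nat_lit 3,nat_lit 3,nat_lit 1])
 (.leaf [nat_lit 0,nat_lit 2,nat_lit 9,nat_lit 0,nat_lit 12,nat_lit 8,nat_lit 7,nat_lit 1,nat_lit 1,nat_lit 3,nat_lit 1,nat_lit 1,nat_lit 9,nat_lit 2,nat_lit 11,nat_lit 1,nat_lit 3,nat_lit 3,nat_lit 1,nat_lit 9,nat_lit 9,nat_lit 1,nat_lit 1,nat_lit 6,nat_lit 6,nat_lit 5,nat_lit 5,nat_lit 5,nat_lit 5,nat_lit 5,nat_lit 5,nat_lit 5,nat_lit 5,nat_lit 0,nat_lit 10,nat_lit 6]))))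
 (.node (.node (.node (.leaf [nat_lit 5,nat_lit 5,nat_lit 8,nat_lit 8,nat_lit 0,nat_lit 10,nat_lit 9,nat_lit 9,nat_lit 10,nat_lit 11,nat_lit 2,nat_lit 9,nat_lit 9,nat_lit 9,nat_lit 1,nat_lit 1,nat_lit 3,nat_lit 9,nat_lit 2,nat_lit 2,nat_lit 9,nat_lit 4,nat_lit 4,nat_lit 5,nat_lit 5,nat_lit 6])
 (.leaf [nat_lit 3,nat_lit 3,nat_lit 4,nat_lit 10,nat_lit 4,nat_lit 4,nat_lit 12,nat_lit 1,nat_lit 1,nat_lit 5,nat_lit 5,nat_lit 12,nat_lit 9,nat_lit 2,nat_lit 2,nat_lit 11,nat_lit 4,nat_lit 4,nat_lit 11,nat_lit 2,nat_lit 2,nat_lit 3,nat_lit 10,nat_lit 8,nat_lit 11,nat_lit 2,nat_lit 2,nat_lit 9,nat_lit 0,nat_lit 8,nat_lit 11,nat_lit 4,nat_lit 9,nat_lit 2,nat_lit 9,nat_lit 3,nat_lit 3,nat_lit 1]))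
 (.node (.leaf [nat_lit 2,nat_lit 10,nat_lit 0,nat_lit 0,nat_lit 10,nat_lit 8,nat_lit 10,nat_lit 5,nat_lit 11,nat_lit 2,nat_lit 2,nat_lit 9,nat_lit 1,nat_lit 1,nat_lit 9,nat_lit 1,nat_lit 11,nat_lit 3,nat_lit 10,nat_lit 11,nat_lit 10,nat_lit 10,nat_lit 3,nat_lit 9,nat_lit 9,nat_lit 1,nat_lit 11,nat_lit 3,nat_lit 1,nat_lit 2,nat_lit 11,nat_lit 2,nat_lit 3,nat_lit 9])
 (.leaf [nat_lit 2,nat_lit 0,nat_lit 0,nat_lit 7,nat_lit 12,nat_lit 6,nat_lit 6,nat_lit 11,nat_lit 1,nat_lit 1,nat_lit 12,nat_lit 4,nat_lit 6,nat_lit 3,nat_lit 3,nat_lit 1,nat_lit 1,nat_lit 2,nat_lit 11,nat_lit 3,nat_lit 11,nat_lit 6,nat_lit 6,nat_lit 12,nat_lit 3,nat_lit 5,nat_lit 12,nat_lit 0,nat_lit 0,nat_lit 5,nat_lit 6,nat_lit 1,nat_lit 11,nat_lit 11])))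
 (.node (.node (.leaf [nat_lit 2,nat_lit 6,nat_lit 1,nat_lit 1,nat_lit 3])
 (.leaf [nat_lit 1,nat_lit 4,nat_lit 11,nat_lit 11,nat_lit 1,nat_lit 11,nat_lit 2,nat_lit 1,nat_lit 2,nat_lit 0,nat_lit 8,nat_lit 11,nat_lit 4,nat_lit 9,nat_lit 2,nat_lit 9]))
 (.node (.leaf [nat_lit 1,nat_lit 3,nat_lit 9,nat_lit 8,nat_lit 0,nat_lit 12,nat_lit 6,nat_lit 9,nat_lit 3,nat_lit 11,nat_lit 1,nat_lit 4,nat_lit 4,nat_lit 11,nat_lit 0,nat_lit 0,nat_lit 5,nat_lit 10,nat_lit 4,nat_lit 1,nat_lit 2,nat_lit 11,nat_lit 2,nat_lit 3,nat_lit 9,nat_lit 10,nat_lit 11,nat_lit 10,nat_lit 10,nat_lit 3,nat_lit 9,nat_lit 9,nat_lit 1,nat_lit 11,nat_lit 3,nat_lit 1,nat_lit 2,nat_lit 11,nat_lit 2,nat_lit 3,nat_lit 9])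
 (.leaf [nat_lit 2,nat_lit 0,nat_lit 4,nat_lit 10,nat_lit 10,nat_lit 3,nat_lit 3,nat_lit 1,nat_lit 1,nat_lit 0,nat_lit 6,nat_lit 9,nat_lit 0,nat_lit 11,nat_lit 3,nat_lit 3,nat_lit 2,nat_lit 9,nat_lit 1,nat_lit 1,nat_lit 9,nat_lit 1,nat_lit 11,nat_lit 3])))))))
 (.node (.node (.node (.node (.node (.node (.leaf [nat_lit 6,nat_lit 9,nat_lit 10,nat_lit 0,nat_lit 0,nat_lit 9,nat_lit 12,nat_lit 11,nat_lit 11,nat_lit 11,nat_lit 6,nat_lit 0,nat_lit 12,nat_lit 4,nat_lit 1,nat_lit 1,nat_lit 9,nat_lit 2,nat_lit 11,nat_lit 3,nat_lit 6,nat_lit 6,nat_lit 12,nat_lit 0,nat_lit 0,nat_lit 5,nat_lit 6,nat_lit 1,nat_lit 11,nat_lit 11])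
 (.leaf [nat_lit 4,nat_lit 4,nat_lit 4,nat_lit 0,nat_lit 6,nat_lit 0,nat_lit 7,nat_lit 6,nat_lit 1,nat_lit 1,nat_lit 3]))
 (.node (.leaf [nat_lit 2,nat_lit 0,nat_lit 11,nat_lit 6,nat_lit 4,nat_lit 4,nat_lit 10,nat_lit 1,nat_lit 1,nat_lit 7,nat_lit 6,nat_lit 9,nat_lit 3,nat_lit 3,nat_lit 12,nat_lit 1,nat_lit 1,nat_lit 0,nat_lit 7,nat_lit 11,nat_lit 12,nat_lit 1,nat_lit 1,nat_lit 9,nat_lit 2,nat_lit 2,nat_lit 11,nat_lit 4,nat_lit 4,nat_lit 11,nat_lit 2,nat_lit 2,nat_lit 3,nat_lit 10,nat_lit 8])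
 (.leaf [nat_lit 5,nat_lit 7,nat_lit 6,nat_lit 11,nat_lit 11,nat_lit 1,nat_lit 11,nat_lit 2,nat_lit 11,nat_lit 2,nat_lit 2,nat_lit 9,nat_lit 1,nat_lit 2,nat_lit 11,nat_lit 2,nat_lit 9,nat_lit 1,nat_lit 1,nat_lit 11,nat_lit 3,nat_lit 3,nat_lit 12,nat_lit 12,nat_lit 9,nat_lit 12,nat_lit 11,nat_lit 2,nat_lit 2,nat_lit 9,nat_lit 0,nat_lit 8,nat_lit 11,nat_lit 4,nat_lit 9,nat_lit 2,nat_lit 9,nat_lit 3,nat_lit 3,nat_lit 1])))
 (.node (.node (.leaf [nat_lit 2,nat_lit 9,nat_lit 4,nat_lit 12,nat_lit 9,nat_lit 2,nat_lit 2,nat_lit 0,nat_lit 0,nat_lit 12,nat_lit 8,nat_lit 9,nat_lit 3,nat_lit 3,nat_lit 4,nat_lit 12,nat_lit 0,nat_lit 3,nat_lit 4,nat_lit 10,nat_lit 9,nat_lit 9,nat_lit 1,nat_lit 1,nat_lit 6,nat_lit 6,nat_lit 5,nat_lit 5,nat_lit 5,nat_lit 5,nat_lit 5,nat_lit 5,nat_lit 5,nat_lit 5,nat_lit 0,nat_lit 10,nat_lit 6])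
 (.leaf [nat_lit 4,nat_lit 9,nat_lit 12,nat_lit 4,nat_lit 4,nat_lit 9,nat_lit 8,nat_lit 9,nat_lit 7,nat_lit 6,nat_lit 6,nat_lit 10,nat_lit 1,nat_lit 1,nat_lit 3,nat_lit 12,nat_lit 6,nat_lit 1,nat_lit 1,nat_lit 9,nat_lit 2,nat_lit 11,nat_lit 3]))
 (.node (.leaf [nat_lit 3,nat_lit 8,nat_lit 5,nat_lit 4,nat_lit 4,nat_lit 11,nat_lit 2,nat_lit 2,nat_lit 8,nat_lit 11,nat_lit 5,nat_lit 11,nat_lit 2,nat_lit 9,nat_lit 2,nat_lit 2,nat_lit 1,nat_lit 3,nat_lit 0,nat_lit 8,nat_lit 11,nat_lit 4,nat_lit 9,nat_lit 2,nat_lit 9,nat_lit 0,nat_lit 8,nat_lit 11,nat_lit 4,nat_lit 9,nat_lit 2,nat_lit 9,nat_lit 10,nat_lit 11,nat_lit 10,nat_lit 10,nat_lit 3,nat_lit 9,nat_lit 9,nat_lit 1,nat_lit 11,nat_lit 3,nat_lit 1,nat_lit 2,nat_lit 11,nat_lit 2,nat_lit 3,nat_lit 9])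
 (.leaf [nat_lit 2,nat_lit 3,nat_lit 11,nat_lit 0,nat_lit 9,nat_lit 1,nat_lit 11,nat_lit 3,nat_lit 9,nat_lit 2,nat_lit 2,nat_lit 10,nat_lit 8,nat_lit 8,nat_lit 8,nat_lit 8,nat_lit 8,nat_lit 8,nat_lit 8,nat_lit 8,nat_lit 0,nat_lit 5,nat_lit 9,nat_lit 8]))))
 (.node (.node (.node (.leaf [nat_lit 3,nat_lit 11,nat_lit 8,nat_lit 2,nat_lit 2,nat_lit 12,nat_lit 3,nat_lit 3,nat_lit 1,nat_lit 1,nat_lit 12,nat_lit 9,nat_lit 4,nat_lit 0,nat_lit 8,nat_lit 1,nat_lit 1,nat_lit 9,nat_lit 2,nat_lit 11,nat_lit 3,nat_lit 0,nat_lit 0,nat_lit 11,nat_lit 5,nat_lit 5,nat_lit 5,nat_lit 5,nat_lit 5,nat_lit 5,nat_lit 5,nat_lit 5,nat_lit 2,nat_lit 11,nat_lit 5,nat_lit 1,nat_lit 9,nat_lit 1,nat_lit 2,nat_lit 3])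
 (.leaf [nat_lit 1,nat_lit 0,nat_lit 5,nat_lit 12,nat_lit 5,nat_lit 4,nat_lit 4,nat_lit 11,nat_lit 2,nat_lit 2,nat_lit 12,nat_lit 12,nat_lit 4,nat_lit 0,nat_lit 12,nat_lit 6,nat_lit 4,nat_lit 4,nat_lit 0,nat_lit 12,nat_lit 8,nat_lit 7,nat_lit 2,nat_lit 2,nat_lit 1,nat_lit 3,nat_lit 1,nat_lit 1,nat_lit 9,nat_lit 12,nat_lit 11,nat_lit 0,nat_lit 9,nat_lit 2,nat_lit 7]))
 (.node (.leaf [nat_lit 4,nat_lit 6,nat_lit 12,nat_lit 0,nat_lit 4,nat_lit 10,nat_lit 0,nat_lit 9,nat_lit 10,nat_lit 5,nat_lit 11,nat_lit 3,nat_lit 9,nat_lit 2,nat_lit 2,nat_lit 1,nat_lit 3,nat_lit 1,nat_lit 1,nat_lit 9,nat_lit 12,nat_lit 11,nat_lit 0,nat_lit 9,nat_lit 2,nat_lit 7,nat_lit 10,nat_lit 11,nat_lit 10,nat_lit 10,nat_lit 3,nat_lit 9,nat_lit 9,nat_lit 1,nat_lit 11,nat_lit 3,nat_lit 1,nat_lit 2,nat_lit 11,nat_lit 2,nat_lit 3,nat_lit 9])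
 (.leaf [nat_lit 2,nat_lit 4,nat_lit 6,nat_lit 7,nat_lit 7,nat_lit 11,nat_lit 2,nat_lit 2,nat_lit 9,nat_lit 1,nat_lit 2,nat_lit 11,nat_lit 2,nat_lit 9,nat_lit 1,nat_lit 1,nat_lit 11,nat_lit 2,nat_lit 2,nat_lit 6,nat_lit 8,nat_lit 8,nat_lit 10,nat_lit 7,nat_lit 9,nat_lit 9,nat_lit 1,nat_lit 1,nat_lit 6,nat_lit 6,nat_lit 5,nat_lit 5,nat_lit 5,nat_lit 5,nat_lit 5,nat_lit 5,nat_lit 5,nat_lit 5,nat_lit 0,nat_lit 10,nat_lit 6])))
 (.node (.node (.leaf [nat_lit 1,nat_lit 4,nat_lit 9,nat_lit 12,nat_lit 11,nat_lit 3,nat_lit 11,nat_lit 2,nat_lit 2,nat_lit 1,nat_lit 3,nat_lit 9,nat_lit 9,nat_lit 9,nat_lit 0,nat_lit 0,nat_lit 11,nat_lit 0,nat_lit 0,nat_lit 11,nat_lit 6,nat_lit 9,nat_lit 9,nat_lit 1,nat_lit 1,nat_lit 6,nat_lit 6,nat_lit 5,nat_lit 5,nat_lit 5,nat_lit 5,nat_lit 5,nat_lit 5,nat_lit 5,nat_lit 5,nat_lit 0,nat_lit 10,nat_lit 6])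
 (.leaf [nat_lit 2,nat_lit 10,nat_lit 2,nat_lit 9,nat_lit 2,nat_lit 11,nat_lit 0,nat_lit 2,nat_lit 2,nat_lit 1,nat_lit 1,nat_lit 11,nat_lit 2,nat_lit 2,nat_lit 9,nat_lit 4,nat_lit 4,nat_lit 5,nat_lit 5,nat_lit 6]))
 (.node (.leaf [nat_lit 5,nat_lit 2,nat_lit 5,nat_lit 5,nat_lit 11,nat_lit 1,nat_lit 9,nat_lit 2,nat_lit 2,nat_lit 9,nat_lit 10,nat_lit 11,nat_lit 3,nat_lit 3,nat_lit 10,nat_lit 8,nat_lit 5])
 (.leaf [nat_lit 4,nat_lit 5,nat_lit 12,nat_lit 5,nat_lit 10,nat_lit 11,nat_lit 10,nat_lit 10,nat_lit 2,nat_lit 3,nat_lit 3,nat_lit 1,nat_lit 1,nat_lit 2,nat_lit 1,nat_lit 1,nat_lit 9,nat_lit 2,nat_lit 2,nat_lit 11,nat_lit 4,nat_lit 4,nat_lit 11,nat_lit 2,nat_lit 2,nat_lit 3,nat_lit 10,nat_lit 8,nat_lit 6,nat_lit 6,nat_lit 12,nat_lit 0,nat_lit 0,nat_lit 5,nat_lit 6,nat_lit 1,nat_lit 11,nat_lit 11])))))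
 (.node (.node (.node (.node (.leaf [nat_lit 3,nat_lit 6,nat_lit 6,nat_lit 10,nat_lit 2,nat_lit 2,nat_lit 10,nat_lit 10,nat_lit 0,nat_lit 1,nat_lit 1,nat_lit 11,nat_lit 12,nat_lit 0,nat_lit 4,nat_lit 11,nat_lit 0,nat_lit 11,nat_lit 2,nat_lit 9,nat_lit 1,nat_lit 1,nat_lit 11,nat_lit 3,nat_lit 3,nat_lit 12,nat_lit 12,nat_lit 9,nat_lit 12])
 (.leaf [nat_lit 2,nat_lit 0,nat_lit 10,nat_lit 4,nat_lit 12,nat_lit 9,nat_lit 2,nat_lit 2,nat_lit 9,nat_lit 6,nat_lit 10,nat_lit 11,nat_lit 1,nat_lit 1,nat_lit 10,nat_lit 6,nat_lit 6,nat_lit 0,nat_lit 0,nat_lit 1,nat_lit 9,nat_lit 10,nat_lit 0,nat_lit 8,nat_lit 11,nat_lit 4,nat_lit 9,nat_lit 2,nat_lit 9,nat_lit 0,nat_lit 8,nat_lit 11,nat_lit 4,nat_lit 9,nat_lit 2,nat_lit 9]))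
 (.node (.leaf [nat_lit 5,nat_lit 7,nat_lit 10,nat_lit 0,nat_lit 5,nat_lit 5,nat_lit 10,nat_lit 3,nat_lit 3,nat_lit 1,nat_lit 1,nat_lit 0,nat_lit 6,nat_lit 9,nat_lit 0,nat_lit 2,nat_lit 2,nat_lit 9,nat_lit 12,nat_lit 9,nat_lit 6,nat_lit 12,nat_lit 8,nat_lit 2,nat_lit 3,nat_lit 0,nat_lit 8,nat_lit 11,nat_lit 4,nat_lit 9,nat_lit 2,nat_lit 9])
 (.leaf [nat_lit 5,nat_lit 1,nat_lit 9,nat_lit 0,nat_lit 6,nat_lit 0,nat_lit 0,nat_lit 2,nat_lit 12,nat_lit 4,nat_lit 2,nat_lit 2,nat_lit 1,nat_lit 1,nat_lit 11,nat_lit 2,nat_lit 9,nat_lit 1,nat_lit 1,nat_lit 9,nat_lit 1,nat_lit 11,nat_lit 3,nat_lit 10,nat_lit 11,nat_lit 10,nat_lit 10,nat_lit 3,nat_lit 9,nat_lit 9,nat_lit 1,nat_lit 11,nat_lit 3,nat_lit 1,nat_lit 2,nat_lit 11,nat_lit 2,nat_lit 3,nat_lit 9])))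
 (.node (.node (.leaf [nat_lit 2,nat_lit 9,nat_lit 2,nat_lit 10,nat_lit 11,nat_lit 1,nat_lit 4,nat_lit 6,nat_lit 6,nat_lit 7,nat_lit 9,nat_lit 9,nat_lit 1,nat_lit 1,nat_lit 6,nat_lit 6,nat_lit 4,nat_lit 4,nat_lit 9,nat_lit 0,nat_lit 9,nat_lit 10,nat_lit 4,nat_lit 11,nat_lit 2,nat_lit 2,nat_lit 9,nat_lit 0,nat_lit 8,nat_lit 11,nat_lit 4,nat_lit 9,nat_lit 2,nat_lit 9,nat_lit 3,nat_lit 3,nat_lit 1])
 (.leaf [nat_lit 2,nat_lit 10,nat_lit 0,nat_lit 10,nat_lit 6,nat_lit 1,nat_lit 12,nat_lit 5,nat_lit 9,nat_lit 3,nat_lit 3,nat_lit 12,nat_lit 1,nat_lit 1,nat_lit 0,nat_lit 7,nat_lit 11,nat_lit 12,nat_lit 12,nat_lit 12,nat_lit 9,nat_lit 12,nat_lit 6,nat_lit 6,nat_lit 11,nat_lit 12,nat_lit 12,nat_lit 3,nat_lit 12]))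
 (.node (.leaf [nat_lit 2,nat_lit 0,nat_lit 8,nat_lit 5,nat_lit 12,nat_lit 6,nat_lit 6,nat_lit 12,nat_lit 11,nat_lit 8,nat_lit 5,nat_lit 4,nat_lit 3,nat_lit 3,nat_lit 10,nat_lit 9,nat_lit 5,nat_lit 7,nat_lit 10,nat_lit 6,nat_lit 1,nat_lit 2,nat_lit 11,nat_lit 2,nat_lit 3,nat_lit 9])
 (.leaf [nat_lit 2,nat_lit 1,nat_lit 10,nat_lit 0,nat_lit 4,nat_lit 6,nat_lit 7,nat_lit 7,nat_lit 11,nat_lit 3,nat_lit 9,nat_lit 2,nat_lit 2,nat_lit 9,nat_lit 9,nat_lit 1,nat_lit 6,nat_lit 0,nat_lit 1,nat_lit 12,nat_lit 4,nat_lit 12,nat_lit 2,nat_lit 6,nat_lit 10,nat_lit 11,nat_lit 2,nat_lit 2,nat_lit 9,nat_lit 0,nat_lit 8,nat_lit 11,nat_lit 4,nat_lit 9,nat_lit 2,nat_lit 9,nat_lit 3,nat_lit 3,nat_lit 1]))))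
 (.node (.node (.node (.leaf [nat_lit 1,nat_lit 10,nat_lit 1,nat_lit 10,nat_lit 3,nat_lit 0,nat_lit 4,nat_lit 10,nat_lit 0,nat_lit 9,nat_lit 10,nat_lit 5,nat_lit 1,nat_lit 1,nat_lit 4,nat_lit 4,nat_lit 11,nat_lit 6,nat_lit 12,nat_lit 7,nat_lit 1,nat_lit 1,nat_lit 9,nat_lit 2,nat_lit 11,nat_lit 3,nat_lit 10,nat_lit 11,nat_lit 10,nat_lit 10,nat_lit 3,nat_lit 9,nat_lit 9,nat_lit 1,nat_lit 11,nat_lit 3,nat_lit 1,nat_lit 2,nat_lit 11,nat_lit 2,nat_lit 3,nat_lit 9])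
 (.leaf [nat_lit 2,nat_lit 1,nat_lit 11,nat_lit 4,nat_lit 0,nat_lit 10,nat_lit 10,nat_lit 4,nat_lit 6,nat_lit 12,nat_lit 5,nat_lit 7,nat_lit 10,nat_lit 11,nat_lit 3,nat_lit 11,nat_lit 6,nat_lit 6,nat_lit 12,nat_lit 3,nat_lit 5,nat_lit 6]))
 (.node (.leaf [nat_lit 2,nat_lit 10,nat_lit 6,nat_lit 12,nat_lit 12,nat_lit 1,nat_lit 12,nat_lit 2,nat_lit 2,nat_lit 1,nat_lit 1,nat_lit 12,nat_lit 5,nat_lit 7,nat_lit 12,nat_lit 9,nat_lit 12,nat_lit 6,nat_lit 6,nat_lit 11,nat_lit 12,nat_lit 12,nat_lit 3,nat_lit 11,nat_lit 10,nat_lit 10,nat_lit 3,nat_lit 9,nat_lit 9,nat_lit 1,nat_lit 11,nat_lit 3,nat_lit 1,nat_lit 2,nat_lit 11,nat_lit 2,nat_lit 3,nat_lit 9])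
 (.leaf [nat_lit 1,nat_lit 6,nat_lit 8,nat_lit 8,nat_lit 4,nat_lit 4,nat_lit 9,nat_lit 8,nat_lit 9,nat_lit 7,nat_lit 2,nat_lit 2,nat_lit 6,nat_lit 6,nat_lit 12,nat_lit 0,nat_lit 0,nat_lit 5,nat_lit 6,nat_lit 9,nat_lit 9,nat_lit 9,nat_lit 0,nat_lit 0,nat_lit 11,nat_lit 0,nat_lit 0,nat_lit 11,nat_lit 6,nat_lit 0,nat_lit 0,nat_lit 11,nat_lit 5,nat_lit 5,nat_lit 5,nat_lit 5,nat_lit 5,nat_lit 5,nat_lit 5,nat_lit 5,nat_lit 2,nat_lit 11,nat_lit 5,nat_lit 1,nat_lit 9,nat_lit 1,nat_lit 2,nat_lit 3])))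
 (.node (.node (.leaf [nat_lit 5,nat_lit 6,nat_lit 5,nat_lit 12,nat_lit 12,nat_lit 3,nat_lit 3,nat_lit 11,nat_lit 11,nat_lit 12,nat_lit 9,nat_lit 9,nat_lit 1,nat_lit 1,nat_lit 3,nat_lit 9,nat_lit 2,nat_lit 9,nat_lit 1,nat_lit 1,nat_lit 9,nat_lit 1,nat_lit 11,nat_lit 3,nat_lit 11,nat_lit 2,nat_lit 2,nat_lit 9,nat_lit 0,nat_lit 8,nat_lit 11,nat_lit 4,nat_lit 9,nat_lit 2,nat_lit 9,nat_lit 3,nat_lit 3,nat_lit 1])
 (.leaf [nat_lit 2,nat_lit 4,nat_lit 4,nat_lit 6,nat_lit 6,nat_lit 0,nat_lit 0,nat_lit 7,nat_lit 5,nat_lit 12,nat_lit 12,nat_lit 11,nat_lit 1,nat_lit 1,nat_lit 0,nat_lit 6,nat_lit 12,nat_lit 1,nat_lit 3,nat_lit 9,nat_lit 1,nat_lit 1,nat_lit 9,nat_lit 2,nat_lit 2,nat_lit 11,nat_lit 4,nat_lit 4,nat_lit 11,nat_lit 2,nat_lit 2,nat_lit 3,nat_lit 10,nat_lit 8]))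
 (.node (.leaf [nat_lit 2,nat_lit 6,nat_lit 8,nat_lit 12,nat_lit 12,nat_lit 12,nat_lit 1,nat_lit 12,nat_lit 1,nat_lit 1,nat_lit 3,nat_lit 6,nat_lit 6,nat_lit 1,nat_lit 1,nat_lit 10,nat_lit 0,nat_lit 0,nat_lit 10,nat_lit 10,nat_lit 0,nat_lit 0,nat_lit 11,nat_lit 5])
 (.leaf [nat_lit 2,nat_lit 3,nat_lit 9,nat_lit 8,nat_lit 0,nat_lit 12,nat_lit 6,nat_lit 11,nat_lit 11,nat_lit 1,nat_lit 12,nat_lit 0,nat_lit 12,nat_lit 12,nat_lit 8,nat_lit 11,nat_lit 3,nat_lit 10,nat_lit 2,nat_lit 2,nat_lit 6,nat_lit 6,nat_lit 0,nat_lit 0,nat_lit 12,nat_lit 7,nat_lit 0,nat_lit 0,nat_lit 11,nat_lit 5,nat_lit 5,nat_lit 5,nat_lit 5,nat_lit 5,nat_lit 5,nat_lit 5,nat_lit 5,nat_lit 2,nat_lit 11,nat_lit 5,nat_lit 1,nat_lit 9,nat_lit 1,nat_lit 2,nat_lit 3]))))))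
 (.node (.node (.node (.node (.node (.leaf [nat_lit 6,nat_lit 4,nat_lit 6,nat_lit 6,nat_lit 0,nat_lit 7,nat_lit 4,nat_lit 9,nat_lit 9,nat_lit 9,nat_lit 2,nat_lit 2,nat_lit 9,nat_lit 9,nat_lit 3,nat_lit 1,nat_lit 2,nat_lit 11,nat_lit 2,nat_lit 3,nat_lit 9,nat_lit 9,nat_lit 9,nat_lit 1,nat_lit 1,nat_lit 6,nat_lit 6,nat_lit 5,nat_lit 5,nat_lit 5,nat_lit 5,nat_lit 5,nat_lit 5,nat_lit 5,nat_lit 5,nat_lit 0,nat_lit 10,nat_lit 6])
 (.leaf [nat_lit 1,nat_lit 0,nat_lit 9,nat_lit 4,nat_lit 1,nat_lit 1,nat_lit 11,nat_lit 1,nat_lit 1,nat_lit 9,nat_lit 9,nat_lit 3,nat_lit 3,nat_lit 10,nat_lit 4,nat_lit 4,nat_lit 0,nat_lit 2,nat_lit 12,nat_lit 12,nat_lit 12,nat_lit 9,nat_lit 12,nat_lit 6,nat_lit 6,nat_lit 11,nat_lit 12,nat_lit 12,nat_lit 3,nat_lit 12]))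
 (.node (.leaf [nat_lit 3,nat_lit 2,nat_lit 5,nat_lit 5,nat_lit 0,nat_lit 10,nat_lit 10,nat_lit 4,nat_lit 6,nat_lit 2,nat_lit 2,nat_lit 1,nat_lit 1,nat_lit 12,nat_lit 5,nat_lit 7,nat_lit 10,nat_lit 11,nat_lit 3,nat_lit 11,nat_lit 6,nat_lit 6,nat_lit 12,nat_lit 3,nat_lit 5,nat_lit 6,nat_lit 11,nat_lit 2,nat_lit 2,nat_lit 9,nat_lit 0,nat_lit 8,nat_lit 11,nat_lit 4,nat_lit 9,nat_lit 2,nat_lit 9,nat_lit 3,nat_lit 3,nat_lit 1])
 (.leaf [nat_lit 5,nat_lit 9,nat_lit 7,nat_lit 6,nat_lit 6,nat_lit 9,nat_lit 0,nat_lit 3,nat_lit 11,nat_lit 10,nat_lit 9,nat_lit 2,nat_lit 2,nat_lit 12,nat_lit 11,nat_lit 8,nat_lit 7,nat_lit 10,nat_lit 3,nat_lit 3,nat_lit 11,nat_lit 11,nat_lit 2,nat_lit 11,nat_lit 3,nat_lit 6,nat_lit 6,nat_lit 12,nat_lit 0,nat_lit 9,nat_lit 5,nat_lit 5,nat_lit 10,nat_lit 11,nat_lit 10,nat_lit 10,nat_lit 3,nat_lit 9,nat_lit 9,nat_lit 1,nat_lit 11,nat_lit 3,nat_lit 1,nat_lit 2,nat_lit 11,nat_lit 2,nat_lit 3,nat_lit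 9])))
 (.node (.node (.leaf [nat_lit 6,nat_lit 11,nat_lit 6,nat_lit 4,nat_lit 4,nat_lit 11,nat_lit 2,nat_lit 2,nat_lit 8,nat_lit 11,nat_lit 7,nat_lit 4,nat_lit 4,nat_lit 11,nat_lit 1,nat_lit 1,nat_lit 12,nat_lit 6,nat_lit 12,nat_lit 0,nat_lit 0,nat_lit 6,nat_lit 12,nat_lit 9,nat_lit 12,nat_lit 6,nat_lit 6,nat_lit 11,nat_lit 12,nat_lit 12,nat_lit 3,nat_lit 12])
 (.leaf [nat_lit 0,nat_lit 0,nat_lit 10,nat_lit 4,nat_lit 11,nat_lit 3,nat_lit 11,nat_lit 11,nat_lit 1,nat_lit 1,nat_lit 10,nat_lit 6,nat_lit 6,nat_lit 0,nat_lit 0,nat_lit 1,nat_lit 9,nat_lit 10,nat_lit 1,nat_lit 1,nat_lit 9,nat_lit 1,nat_lit 1,nat_lit 2,nat_lit 11,nat_lit 1,nat_lit 11,nat_lit 2,nat_lit 2,nat_lit 9,nat_lit 6,nat_lit 6,nat_lit 12,nat_lit 0,nat_lit 0,nat_lit 5,nat_lit 6,nat_lit 1,nat_lit 11,nat_lit 11]))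
 (.node (.leaf [nat_lit 4,nat_lit 7,nat_lit 10,nat_lit 4,nat_lit 4,nat_lit 0,nat_lit 5,nat_lit 10,nat_lit 6,nat_lit 10,nat_lit 11,nat_lit 10,nat_lit 10,nat_lit 3,nat_lit 9,nat_lit 9,nat_lit 1,nat_lit 11,nat_lit 3,nat_lit 1,nat_lit 2,nat_lit 11,nat_lit 2,nat_lit 3,nat_lit 9])
 (.leaf [nat_lit 2,nat_lit 3,nat_lit 4,nat_lit 10,nat_lit 1,nat_lit 9,nat_lit 6,nat_lit 6,nat_lit 0,nat_lit 5,nat_lit 3,nat_lit 4,nat_lit 2,nat_lit 3,nat_lit 9,nat_lit 9,nat_lit 1,nat_lit 1,nat_lit 6,nat_lit 6,nat_lit 4,nat_lit 4,nat_lit 9,nat_lit 0,nat_lit 9,nat_lit 10,nat_lit 4]))))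
 (.node (.node (.node (.leaf [nat_lit 3,nat_lit 0,nat_lit 0,nat_lit 1,nat_lit 9,nat_lit 3,nat_lit 3,nat_lit 12,nat_lit 1,nat_lit 1,nat_lit 0,nat_lit 7,nat_lit 11,nat_lit 12,nat_lit 11,nat_lit 2,nat_lit 9,nat_lit 1,nat_lit 1,nat_lit 9,nat_lit 1,nat_lit 11,nat_lit 3])
 (.leaf [nat_lit 4,nat_lit 7,nat_lit 4,nat_lit 11,nat_lit 10,nat_lit 10,nat_lit 1,nat_lit 3,nat_lit 3,nat_lit 1,nat_lit 9,nat_lit 9,nat_lit 9,nat_lit 0,nat_lit 0,nat_lit 11,nat_lit 0,nat_lit 0,nat_lit 11,nat_lit 6,nat_lit 0,nat_lit 0,nat_lit 11,nat_lit 5,nat_lit 5,nat_lit 5,nat_lit 5,nat_lit 5,nat_lit 5,nat_lit 5,nat_lit 5,nat_lit 2,nat_lit 11,nat_lit 5,nat_lit 1,nat_lit 9,nat_lit 1,nat_lit 2,nat_lit 3]))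
 (.node (.leaf [nat_lit 4,nat_lit 0,nat_lit 7,nat_lit 12,nat_lit 12,nat_lit 1,nat_lit 1,nat_lit 11,nat_lit 6,nat_lit 9,nat_lit 0,nat_lit 1,nat_lit 1,nat_lit 6,nat_lit 6,nat_lit 11,nat_lit 12,nat_lit 0,nat_lit 7,nat_lit 11,nat_lit 10,nat_lit 11,nat_lit 2,nat_lit 9,nat_lit 1,nat_lit 1,nat_lit 11,nat_lit 3,nat_lit 3,nat_lit 12,nat_lit 12,nat_lit 9,nat_lit 12])
 (.leaf [nat_lit 3,nat_lit 1,nat_lit 9,nat_lit 8,nat_lit 9,nat_lit 1,nat_lit 3,nat_lit 11,nat_lit 4,nat_lit 3,nat_lit 3,nat_lit 10,nat_lit 9,nat_lit 5,nat_lit 7,nat_lit 10,nat_lit 6,nat_lit 2,nat_lit 2,nat_lit 1,nat_lit 3,nat_lit 1,nat_lit 1,nat_lit 9,nat_lit 12,nat_lit 11,nat_lit 0,nat_lit 9,nat_lit 2,nat_lit 7])))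
 (.node (.node (.leaf [nat_lit 2,nat_lit 0,nat_lit 7,nat_lit 8,nat_lit 2,nat_lit 9,nat_lit 3,nat_lit 3,nat_lit 4,nat_lit 12,nat_lit 0,nat_lit 3,nat_lit 4,nat_lit 10,nat_lit 1,nat_lit 1,nat_lit 9,nat_lit 1,nat_lit 1,nat_lit 11,nat_lit 11,nat_lit 3,nat_lit 3,nat_lit 12,nat_lit 11,nat_lit 0,nat_lit 9,nat_lit 2,nat_lit 5])
 (.leaf [nat_lit 6,nat_lit 6,nat_lit 3,nat_lit 4,nat_lit 10,nat_lit 4,nat_lit 2,nat_lit 2,nat_lit 11,nat_lit 11,nat_lit 12,nat_lit 11,nat_lit 0,nat_lit 6,nat_lit 9,nat_lit 4,nat_lit 9,nat_lit 9,nat_lit 9,nat_lit 0,nat_lit 0,nat_lit 11,nat_lit 0,nat_lit 0,nat_lit 11,nat_lit 12,nat_lit 0,nat_lit 0,nat_lit 5,nat_lit 6,nat_lit 1,nat_lit 11,nat_lit 11]))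
 (.node (.leaf [nat_lit 2,nat_lit 9,nat_lit 5,nat_lit 8,nat_lit 9,nat_lit 1,nat_lit 11,nat_lit 11,nat_lit 2,nat_lit 2,nat_lit 9,nat_lit 1,nat_lit 2,nat_lit 11,nat_lit 2,nat_lit 2,nat_lit 9,nat_lit 4,nat_lit 4,nat_lit 5,nat_lit 5,nat_lit 12,nat_lit 0,nat_lit 0,nat_lit 5,nat_lit 6,nat_lit 1,nat_lit 11,nat_lit 11])
 (.leaf [nat_lit 4,nat_lit 5,nat_lit 9,nat_lit 8,nat_lit 0,nat_lit 0,nat_lit 9,nat_lit 0,nat_lit 0,nat_lit 4,nat_lit 4,nat_lit 10,nat_lit 2,nat_lit 2,nat_lit 9,nat_lit 12,nat_lit 9,nat_lit 6,nat_lit 12,nat_lit 8,nat_lit 1,nat_lit 2,nat_lit 11,nat_lit 2,nat_lit 3,nat_lit 9,nat_lit 10,nat_lit 11,nat_lit 10,nat_lit 10,nat_lit 3,nat_lit 9,nat_lit 9,nat_lit 1,nat_lit 11,nat_lit 3,nat_lit 1,nat_lit 2,nat_lit 11,nat_lit 2,nat_lit 3,nat_lit 9])))))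
 (.node (.node (.node (.node (.leaf [nat_lit 0,nat_lit 5,nat_lit 11,nat_lit 8,nat_lit 2,nat_lit 11,nat_lit 1,nat_lit 1,nat_lit 0,nat_lit 0,nat_lit 11,nat_lit 1,nat_lit 1,nat_lit 2,nat_lit 11,nat_lit 12,nat_lit 1,nat_lit 2,nat_lit 11,nat_lit 2,nat_lit 3,nat_lit 9])
 (.leaf [nat_lit 1,nat_lit 6,nat_lit 10,nat_lit 4,nat_lit 4,nat_lit 12,nat_lit 6,nat_lit 7,nat_lit 12,nat_lit 9,nat_lit 1,nat_lit 1,nat_lit 0,nat_lit 0,nat_lit 11,nat_lit 1,nat_lit 1,nat_lit 2,nat_lit 11,nat_lit 12,nat_lit 0,nat_lit 0,nat_lit 11,nat_lit 5,nat_lit 5,nat_lit 5,nat_lit 5,nat_lit 5,nat_lit 5,nat_lit 5,nat_lit 5,nat_lit 2,nat_lit 11,nat_lit 5,nat_lit 1,nat_lit 9,nat_lit 1,nat_lit 2,nat_lit 3]))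
 (.node (.leaf [nat_lit 3,nat_lit 7,nat_lit 9,nat_lit 4,nat_lit 9,nat_lit 1,nat_lit 11,nat_lit 0,nat_lit 12,nat_lit 6,nat_lit 9,nat_lit 1,nat_lit 1,nat_lit 4,nat_lit 4,nat_lit 11,nat_lit 6,nat_lit 12,nat_lit 7,nat_lit 11,nat_lit 2,nat_lit 2,nat_lit 9,nat_lit 0,nat_lit 8,nat_lit 11,nat_lit 4,nat_lit 9,nat_lit 2,nat_lit 9,nat_lit 3,nat_lit 3,nat_lit 1])
 (.leaf [nat_lit 1,nat_lit 0,nat_lit 1,nat_lit 12,nat_lit 9,nat_lit 2,nat_lit 9,nat_lit 2,nat_lit 12,nat_lit 5,nat_lit 7,nat_lit 10,nat_lit 11,nat_lit 3,nat_lit 10,nat_lit 2,nat_lit 2,nat_lit 6,nat_lit 6,nat_lit 0,nat_lit 0,nat_lit 12,nat_lit 7,nat_lit 10,nat_lit 11,nat_lit 10,nat_lit 10,nat_lit 3,nat_lit 9,nat_lit 9,nat_lit 1,nat_lit 11,nat_lit 3,nat_lit 1,nat_lit 2,nat_lit 11,nat_lit 2,nat_lit 3,nat_lit 9])))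
 (.node (.node (.leaf [nat_lit 5,nat_lit 12,nat_lit 11,nat_lit 11,nat_lit 11,nat_lit 7,nat_lit 12,nat_lit 11,nat_lit 2,nat_lit 2,nat_lit 9,nat_lit 1,nat_lit 1,nat_lit 3,nat_lit 1,nat_lit 2,nat_lit 11,nat_lit 2,nat_lit 9,nat_lit 0,nat_lit 11,nat_lit 6,nat_lit 3,nat_lit 4,nat_lit 10,nat_lit 10,nat_lit 7,nat_lit 7,nat_lit 7,nat_lit 7,nat_lit 7,nat_lit 7,nat_lit 7,nat_lit 7,nat_lit 9,nat_lit 10,nat_lit 10])
 (.leaf [nat_lit 4,nat_lit 12,nat_lit 5,nat_lit 2,nat_lit 3,nat_lit 10,nat_lit 3,nat_lit 11,nat_lit 11,nat_lit 2,nat_lit 9,nat_lit 9,nat_lit 3,nat_lit 3,nat_lit 11,nat_lit 4,nat_lit 10,nat_lit 0,nat_lit 11,nat_lit 0,nat_lit 0,nat_lit 6,nat_lit 6,nat_lit 12,nat_lit 0,nat_lit 0,nat_lit 5,nat_lit 6,nat_lit 1,nat_lit 11,nat_lit 11]))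
 (.node (.leaf [nat_lit 5,nat_lit 9,nat_lit 6,nat_lit 4,nat_lit 1,nat_lit 9,nat_lit 9,nat_lit 2,nat_lit 2,nat_lit 9,nat_lit 12,nat_lit 9,nat_lit 6,nat_lit 12,nat_lit 8,nat_lit 12,nat_lit 12,nat_lit 9,nat_lit 12,nat_lit 6,nat_lit 6,nat_lit 11,nat_lit 12,nat_lit 12,nat_lit 3,nat_lit 11,nat_lit 10,nat_lit 10,nat_lit 3,nat_lit 9,nat_lit 9,nat_lit 1,nat_lit 11,nat_lit 3,nat_lit 1,nat_lit 2,nat_lit 11,nat_lit 2,nat_lit 3,nat_lit 9])
 (.leaf [nat_lit 2,nat_lit 7,nat_lit 7,nat_lit 12,nat_lit 3,nat_lit 11,nat_lit 11,nat_lit 2,nat_lit 2,nat_lit 9,nat_lit 12,nat_lit 9,nat_lit 6,nat_lit 12,nat_lit 8,nat_lit 1,nat_lit 1,nat_lit 9,nat_lit 2,nat_lit 11,nat_lit 3,nat_lit 11,nat_lit 2,nat_lit 2,nat_lit 9,nat_lit 0,nat_lit 8,nat_lit 11,nat_lit 4,nat_lit 9,nat_lit 2,nat_lit 9,nat_lit 3,nat_lit 3,nat_lit 1]))))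
 (.node (.node (.node (.leaf [nat_lit 6,nat_lit 0,nat_lit 6,nat_lit 12,nat_lit 0,nat_lit 9,nat_lit 0,nat_lit 2,nat_lit 9,nat_lit 1,nat_lit 2,nat_lit 2,nat_lit 11,nat_lit 11,nat_lit 12,nat_lit 11,nat_lit 0,nat_lit 6,nat_lit 9,nat_lit 4,nat_lit 1,nat_lit 1,nat_lit 9,nat_lit 1,nat_lit 1,nat_lit 11,nat_lit 11,nat_lit 3,nat_lit 3,nat_lit 12,nat_lit 11,nat_lit 0,nat_lit 9,nat_lit 2,nat_lit 5])
 (.leaf [nat_lit 2,nat_lit 3,nat_lit 9,nat_lit 5,nat_lit 11,nat_lit 3,nat_lit 11,nat_lit 2,nat_lit 9,nat_lit 1,nat_lit 9,nat_lit 3,nat_lit 3,nat_lit 4,nat_lit 4,nat_lit 12,nat_lit 1,nat_lit 1,nat_lit 5,nat_lit 5,nat_lit 12,nat_lit 1,nat_lit 2,nat_lit 2,nat_lit 9,nat_lit 9,nat_lit 1,nat_lit 6,nat_lit 0,nat_lit 1,nat_lit 12,nat_lit 4,nat_lit 12,nat_lit 2,nat_lit 6,nat_lit 10]))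
 (.node (.leaf [nat_lit 0,nat_lit 9,nat_lit 2,nat_lit 10,nat_lit 5,nat_lit 10,nat_lit 11,nat_lit 2,nat_lit 2,nat_lit 9,nat_lit 10,nat_lit 4,nat_lit 11,nat_lit 2,nat_lit 2,nat_lit 9,nat_lit 1,nat_lit 1,nat_lit 3,nat_lit 11,nat_lit 2,nat_lit 9,nat_lit 1,nat_lit 1,nat_lit 9,nat_lit 1,nat_lit 11,nat_lit 3,nat_lit 6,nat_lit 6,nat_lit 12,nat_lit 0,nat_lit 0,nat_lit 5,nat_lit 6,nat_lit 1,nat_lit 11,nat_lit 11])
 (.leaf [nat_lit 6,nat_lit 3,nat_lit 11,nat_lit 10,nat_lit 2,nat_lit 9,nat_lit 9,nat_lit 2,nat_lit 2,nat_lit 9,nat_lit 12,nat_lit 9,nat_lit 6,nat_lit 12,nat_lit 8,nat_lit 12,nat_lit 12,nat_lit 9,nat_lit 12,nat_lit 6,nat_lit 6,nat_lit 11,nat_lit 12,nat_lit 12,nat_lit 3,nat_lit 12])))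
 (.node (.node (.leaf [nat_lit 4,nat_lit 0,nat_lit 12,nat_lit 0,nat_lit 4,nat_lit 0,nat_lit 6,nat_lit 10,nat_lit 6,nat_lit 11,nat_lit 11,nat_lit 1,nat_lit 1,nat_lit 12,nat_lit 4,nat_lit 4,nat_lit 0,nat_lit 0,nat_lit 7,nat_lit 11,nat_lit 6,nat_lit 1,nat_lit 1,nat_lit 9,nat_lit 2,nat_lit 11,nat_lit 3,nat_lit 6,nat_lit 6,nat_lit 12,nat_lit 0,nat_lit 0,nat_lit 5,nat_lit 6,nat_lit 1,nat_lit 11,nat_lit 11])
 (.leaf [nat_lit 2,nat_lit 6,nat_lit 10,nat_lit 4,nat_lit 12,nat_lit 9,nat_lit 8,nat_lit 9,nat_lit 4,nat_lit 11,nat_lit 1,nat_lit 1,nat_lit 10,nat_lit 6,nat_lit 6,nat_lit 0,nat_lit 0,nat_lit 1,nat_lit 9,nat_lit 10,nat_lit 1,nat_lit 1,nat_lit 9,nat_lit 1,nat_lit 1,nat_lit 2,nat_lit 11,nat_lit 11,nat_lit 2,nat_lit 2,nat_lit 6,nat_lit 8,nat_lit 8,nat_lit 10,nat_lit 7]))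
 (.leaf [nat_lit 5,nat_lit 1,nat_lit 8,nat_lit 8,nat_lit 9,nat_lit 1,nat_lit 9,nat_lit 1,nat_lit 1,nat_lit 2,nat_lit 11,nat_lit 11,nat_lit 2,nat_lit 2,nat_lit 6,nat_lit 8,nat_lit 8,nat_lit 10,nat_lit 7,nat_lit 10,nat_lit 11,nat_lit 10,nat_lit 10,nat_lit 3,nat_lit 9,nat_lit 9,nat_lit 1,nat_lit 11,nat_lit 3,nat_lit 1,nat_lit 2,nat_lit 11,nat_lit 2,nat_lit 3,nat_lit 9])))))))

theorem o7_c_l_0 : allRange (nat_lit 0) (nat_lit 100) (leafIn o7_T [nat_lit 0,nat_lit 1,nat_lit 2,nat_lit 3,nat_lit 4,nat_lit 5,nat_lit 7] (nat_lit 3) (nat_lit 9) (nat_lit 13) (nat_lit 7) o7_c_W o7_c_N0 o7_c_D) = true := by decide +kernel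

theorem o7_c_l_1 : allRange (nat_lit 100) (nat_lit 27) (leafIn o7_T [nat_lit 0,nat_lit 1,nat_lit 2,nat_lit 3,nat_lit 4,nat_lit 5,nat_lit 7] (nat_lit 3) (nat_lit 9) (nat_lit 13) (nat_lit 7) o7_c_W o7_c_N0 o7_c_D) = true := by decide +kernel

theorem o7_c_l : ∀ i < 127, (leafIn o7_T [nat_lit 0,nat_lit 1,nat_lit 2,nat_lit 3,nat_lit 4,nat_lit 5,nat_lit 7] (nat_lit 3) (nat_lit 9) (nat_lit 13) (nat_lit 7) o7_c_W o7_c_N0 o7_c_D) i = true := range_append 27 (allRange_zero o7_c_l_0) o7_c_l_1 (b := 127)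

theorem o7_c_c0 {G : Type*} [Group G] (M : Mod G) (h : LM (fun i => pts M.x (o7_P i)) 351 o7_T (M.wl o7_g) 13 [nat_lit 0,nat_lit 1,nat_lit 2,nat_lit 3,nat_lit 4,nat_lit 5,nat_lit 7]) : Cls (M.wl o7_g) 3 9 (ConjIn (genLt (M.wl o7_g) 13) (fun t => pcG (M.wl o7_g) 3 9 0 (o7_c_W t)) 7) 0 o7_c_N0 127 :=
  cls_zero fun j hj => h.leaf (by decide) (o7_c_l j hj)

noncomputable def o7_c_A0 : ℕ → ℕ := fun i => Nat.land (Nat.shiftRight (nat_lit 0x4000000000000000800000000000000100000000000000040000000000000008000000000000001000000000000463e00000006007f8c7c0000000600fe00000000000001fe30280000003003f460500000003007e00000000000000fd18080000001801f630100000001803e800000000000007d8bfe0000000c00f917fc0000000c01f000000000000003e45fc00000006007b8bf80000000600f600000000000001ee2fc80000003003d45f900000003007a00000000000000f517d80000001801e62fb00000001803c80000000000000798be60000000c00f117cc0000000c01e000000000000003c45f0000000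0600778be00000000600ee00000000000001de2f680000003003b45ed00000003007600000000000000ed16d00000001801d62da00000001803a80000000000000758b620000000c00e916c40000000c01d000000000000003a45ae0000000600738b5c0000000600e600000000000001ce2d580000003003945ab00000003007200000000000000e516a00000001801c62d400000001803880000000000000718b4a0000000c00e116940000000c01c000000000000003845a200000006006f8b440000000600de00000000000001be2cf800000030037459f00000003006e00000000000000dd16700000001801b62ce000000018036800000000000006d8ac60000000c00d9158c0000000c01b0000000000000036456000000006006b8ac00000000600d600000000000001ae2ae800000030035455d00000003006a00000000000000d515680000001801a62ad00000001803480000000000000698aae0000000c00d1155c0000000c01a000000000000003445540000000600678aa80000000600ce000000000000019e2a8800000030033455100000003006600000000000000cd15380000001801962a700000001803280000000000000658a960000000c00c9152c0000000c0190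000000000000032000100000000000000020000000000000004000000000002254800000030031c4a900000003006300000000000000c60008000000000000001000000000000000200000000000049980000000600c4933000000018018800000000000003124c900000003006149920000000c00c2000000000000018526300000001803024c600000006006000000000000000c0930c0000000c017d26180000003002f800000000000005f49800000000600bc930000000018017800000000000002f24bd00000003005d497a0000000c00ba000000000000017525d00000001802e24ba00000006005c00000000000000b892dc0000000c016d25b80000003002d800000000000005b49680000000600b492d000000018016800000000000002d247b00000003005948f60000000c00b2000000000000016523c00000001802c247800000006005800000000000000b091d40000000c015d23a80000003002b800000000000005748e40000000600ac91c800000018015800000000000002b246f00000003005548de0000000c00aa000000000000015523600000001802a246c00000006005400000000000000a891a40000000c014d234800000030029800000000000005348cc000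0000600a49198000000180148000000000000029246300000003005148c60000000c00a20000000000000145215000000018028242a00000006005000000000000000a0909c0000000c013d213800000030027800000000000004f484800000006009c9090000000180138000000000000027242100000003004d48420000000c009a000000000000013520f000000018026241e00000006004c0000000000000098906c0000000c012d20d800000030025800000000000004b483000000006009490600000001801280000000000000252415000000030049482a0000000c00920000000000000125209000000018024241200000006004800000000000000900008000000000000001000000000000000200000000000046e000000006008e8dc000000018011c0000000000000238001000000000000000200000000000000040000000000000008000000000000001000000000000000200000000000089f40000000c011913e80000003002300000000000000460004000000000000000800000000000000100000000000000000000000000450000000000000088000000000000010c0000000000000210000000000000041000000000000008000000000000000fc0000000000000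1f000000000000003d000000000000007800000000000000ec00000000000001d0000000000000039000000000000007000000000000000dc00000000000001b00000000000000350000000000000068000800000000000000100000000000000020000000000000e8e0000003600661d1c000000d800cc0000000000000198000000000000032000000000000006200000000000000c03528000001b001786a50000001b002f000000000000005e17b80000004800b82f7000000048017000000000000002e0bd600000024005a17ac0000002400b400000000000001685e800000012002c0bd000000012005800000000000000b02e980000009001585d300000009002b000000000000005617400000004800a82e8000000048015000000000000002a0b9a00000024005217340000002400a400000000000001485b80000001200280b7000000012005000000000000000a02da80000009001385b5000000090027000000000000004e16c80000004800982d90000000480130000000000000026000000000000004a000000000000009000000000000001185100000003600220a20000000360044000000000000008825f8000000d801084bf00000036002100000000000000420004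0000000000000008000000000000001000000000000062a0000001200400c54000000480080000000000000010031200000009001f062400000024003e000000000000007c18780000004800f030f00000012001e000000000000003c0be800000024007417d00000009000e800000000000001d05ee0000001200380bdc00000048007000000000000000e02f400000009001b05e8000000240036000000000000006c16f80000004800d02df00000012001a00000000000000340b7000000024006416e00000009000c800000000000001905b20000001200300b6400000048006000000000000000c000200000000000000040000000000000008000000000000000800000000000000100000000000000020000000000000360000000d8005c06c0000000d800b8000000000000017017a0000006c002c02f40000006c005800000000000000b00b4000000360015016800000036002a00000000000000540558000001b000a00ab0000001b001400000000000000280288000000d8004c0510000000d80098000000000000013010e000000360024021c000000d80048000000000000009006c0000001b001100d80000006c002200000000000000440318000000d800800630000003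60010000000000000002001680000006c003c02d0000001b0007800000000000000f00a200000036001c0144000000d80038000000000000007003c00000051000d007800000144001a000000000000003401c8000002880060039000000a2000c000000000000001800d800000144002c01b000000510005800000000000000b00420000014400140084000001440028000000000000005001e000000a20009003c000000a20012000000000000002400d800000510004001b00000051000800000000000000100048000003cc001c009000000f3000380000000000000070012000003cc000c0024000003cc00180000000000000030006000019a10005000c00006684000a0000000000000014001800019a100020003000019a100040000000000000008000000000000000c0000000000000010000000000000001) (Nat.mul (nat_lit 63) i)) (nat_lit 0x7fffffffffffffff)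

theorem o7_c_s0 : ∀ i < 121, (nodeOK o7_T (nat_lit 3) (nat_lit 9) [nat_lit 0,nat_lit 1,nat_lit 2] (nat_lit 0) (nat_lit 9) (nat_lit 1) o7_c_N0 (nat_lit 127) o7_c_N1 o7_c_A0) i = true := allRange_zero (len := (nat_lit 121)) (by decide +kernel)

theorem o7_c_c1 {G : Type*} [Group G] (M : Mod G) (h : LM (fun i => pts M.x (o7_P i)) 351 o7_T (M.wl o7_g) 13 [nat_lit 0,nat_lit 1,nat_lit 2,nat_lit 3,nat_lit 4,nat_lit 5,nat_lit 7]) : Cls (M.wl o7_g) 3 9 (ConjIn (genLt (M.wl o7_g) 13) (fun t => pcG (M.wl o7_g) 3 9 0 (o7_c_W t)) 7) 1 o7_c_N1 121 :=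
  have := M.fin
  cls_step (o7_p_lm M) (o7_p_pc M) (o7_p_cb M).1.ge (fun _ hu _ k => k.of_conj (genLt_mono _ (by decide) hu)) (o7_c_c0 M h) o7_c_s0 (by decide)

noncomputable def o7_c_A1 : ℕ → ℕ := fun i => Nat.land (Nat.shiftRight (nat_lit 0x46e00000005100798dc00000014400f200000000000001e634780000028803c468f000000a2007800000000000000f118f80000014401de31f00000051003b800000000000007700000000000000ec00000000000001d400000000000003a000000000000007300000000000000e400000000000001c4000000000000038000000000000006f00000000000000dc00000000000001b4000000000000036000000000000006b00000000000000d400000000000001a4000000000000034000000000000006700000000000000cc0000000000000194000000000000032000000000000006300000000000000c40000000000000184000000000000030000000000000005f00000000000000bc000000000000017400000000000002e44fa000000a2005b89f4000000a200b6000000000000016e25480000051002d44a900000051005a00000000000000b511600000028801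6622c00000028802c800000000000005900000000000000b0000000000000015c00000000000002b000000000000005500000000000000a8000000000000014c000000000000029000000000000005100000000000000a0000000000000013c000000000000027000000000000004d0000000000000098000000000000012c00000000000002500000000000000490000000000000090000000000000011c00000000000002300000000000000450000000000000088000000000000010c0000000000000210000000000000041000000000000008000000000000000fc00000000000001f23c3000000a2003d4784000000a2007a00000000000000f51b900000051001e237100000051003c00000000000000788c840000028800ed19000000028801d800000000000003b459e000000a200748b400000028800e800000000000001d227e00000051003944fe00000144007200000000000000e511680000028801c222e000000a200380000000000000070001c0000000000000038000000000000007000000000000000a000000000000001400000000000000280000000000012fe00000012003725fa00000012006e00000000000000dc001800000000000000300000000000000060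0000000000048900000004800d891200000004801b0000000000000036000c000000000000001800000000000000300000000000000040000000000000008000000000000001000000000000089900000009001a9133000000090035000000000000006a00200000000000000040000000000000008000000000000154e0000001200682a9c0000004800d000000000000001a0006000000000000000c000000000000001800000000000000180000000000000030000000000000006000000000000001c0000000000000038000000000000007000000000000000a0000000000000014000000000000002800000000000098000000009003312fe00000024006600000000000000cc46100000004801908c3000000120032000000000000006400200000000000000040000000000000008000000000000000800000000000000100000000000000020000000000000799000000a200310f34000000a2006200000000000000c43a48000002880180748000000a2003000000000000000601be00000014400bc37b800000510017800000000000002f0d4e000000a2005c1a980000028800b8000000000000017000000000000002d000000000000005800000000000000ac00000000000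001500000000000000290000000000000050000000000000009c00000000000001300000000000000250ac600000144004815880000014400900000000000000120512000000a200230a22000000a20046000000000000008c26080000051001104c000000051002200000000000000440f340000014400841e700000051001080000000000000210000000000000040000000000000007c00000000000000f000000000000001d0000000000000038000000000000006c00000000000000d00000000000000190000000000000030079800000288005c0f300000028800b800000000000001701e6000000a2002c03cc00000288005800000000000000b00da000000f3001501b2000003cc002a000000000000005405f00000079800a00bf000001e60014000000000000002802d4000003cc004c05b000000f300098000000000000013015a000001e6002402b000000798004800000000000000900a2000000f300110144000003cc00220000000000000044044000000f300080089000000f30010000000000000002001b800000798003c036800000798007800000000000000f00ca000003cc001c0190000003cc0038000000000000007005b000001e6000d00b8000001e6001a0000000000000034028800000f300060051000000f3000c0000000000000018000000000000002c00000000000000500000000000000090000000000000010000000000000001c00000000000000300130000088b000500280000222c000a00000000000000140050000088b0002000b0000088b00040000000000000008000000000000000c0000000000000010000000000000001)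 (Nat.mul (nat_lit 63) i)) (nat_lit 0x7fffffffffffffff)

theorem o7_c_s1 : ∀ i < 79, (nodeOK o7_T (nat_lit 3) (nat_lit 9) [nat_lit 0,nat_lit 1,nat_lit 2] (nat_lit 1) (nat_lit 8) (nat_lit 3) o7_c_N1 (nat_lit 121) o7_c_N2 o7_c_A1) i = true := allRange_zero (len := (nat_lit 79)) (by decide +kernel)

theorem o7_c_c2 {G : Type*} [Group G] (M : Mod G) (h : LM (fun i => pts M.x (o7_P i)) 351 o7_T (M.wl o7_g) 13 [nat_lit 0,nat_lit 1,nat_lit 2,nat_lit 3,nat_lit 4,nat_lit 5,nat_lit 7]) : Cls (M.wl o7_g) 3 9 (ConjIn (genLt (M.wl o7_g) 13) (fun t => pcG (M.wl o7_g) 3 9 0 (o7_c_W t)) 7) 2 o7_c_N2 79 :=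
  have := M.fin
  cls_step (o7_p_lm M) (o7_p_pc M) (o7_p_cb M).1.ge (fun _ hu _ k => k.of_conj (genLt_mono _ (by decide) hu)) (o7_c_c1 M h) o7_c_s1 (by decide)

noncomputable def o7_c_A2 : ℕ → ℕ := fun i => Nat.land (Nat.shiftRight (nat_lit 0x11b9c000016c8013e3720000016c8027800000000000004f8d2a00000b64009d1a5000000b6401380000000000000274646000005b2004d8c82000005b2009a0000000000000134000000000000026000000000000004b000000000000009400000000000001240000000000000240000000000000047000000000000008c00000000000001140000000000000224500000002d9004389fc00000b640086000000000000010e2580000016c802144ac000005b200420000000000000085118000000b64010622e800002d900208000000000000041000000000000008000000000000000fc00000000000001f000000000000003d000000000000007800000000000000ec00000000000001d000000000000003900000000000000708f2000000b6400dd1e2000002d9001b800000000000003746f0000005b2006c8dd4000016c800d800000000000001b2325000002d900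35464600000b64006a00000000000000d516a000002d9001a22d3000002d9003400000000000000688a14000016c800cd1400000016c80198000000000000033446600000b64006488c000000b6400c80000000000000191334000000360031266600000036006200000000000000c498c8000001b001813180000001b003000000000000000604bf8000000d800bc97e8000000d8017800000000000002f247e0000006c005c48fc0000006c00b8000000000000017122400000036002d244800000036005a00000000000000b49048000001b001612090000001b002c00000000000000584534000000d800ac8a70000000d8015800000000000002b22640000006c005444cc0000006c00a80000000000000151117000000360029223000000036005200000000000000a45560000000d80140aae00000036002800000000000000502a440000006c009c5498000001b0013800000000000002714ec00000036004c29e0000000d8009800000000000001309b90000001b002513760000006c004a00000000000000944cf0000000d801209a00000003600240000000000000048260c0000006c008c4c28000001b00118000000000000023118c0000003600442320000000d800880000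0000000001108ab0000001b0021115a0000006c004200000000000000844480000000d8010089200000036002000000000000000401e7800000798007c3ce80000079800f800000000000001f0e98000003cc003c1d34000003cc007800000000000000f06f8000001e6001d0dec000001e6003a0000000000000074356800000f3000e06a8000000f3001c000000000000003817c000000798006c2f580000079800d800000000000001b0ba6000003cc00341748000003cc006800000000000000d05b9000001e600190b6c000001e6003200000000000000642b180000079800c0563000001e6001800000000000000301454000003cc005c28c000000f3000b8000000000000017098e000001e6002c131000000798005800000000000000b03d3000000f30015079e000003cc002a000000000000005418b80000079800a0314000001e6001400000000000000280bec000003cc004c17b800000f30009800000000000001305be000001e600240b7400000798004800000000000000901ee000002d9001103d600000b640022000000000000004407d800002d9000800f6000002d90010000000000000002003700000222c003c06c0000088b0007800000000000000f017e0000222c001c030c0000222c0038000000000000007000000000000000d0000000000000018000000000000002c045000004458005008800001116000a000000000000001401b000004458002403a00000445800480000000000000090000000000000010000000000000001c000000000000003003b0000088b000500700000222c000a000000000000001400e0000088b000200220000088b00040000000000000008000000000000000c0000000000000010000000000000001)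 (Nat.mul (nat_lit 63) i)) (nat_lit 0x7fffffffffffffff)

theorem o7_c_s2 : ∀ i < 61, (nodeOK o7_T (nat_lit 3) (nat_lit 9) [nat_lit 0,nat_lit 1,nat_lit 2] (nat_lit 2) (nat_lit 7) (nat_lit 9) o7_c_N2 (nat_lit 79) o7_c_N3 o7_c_A2) i = true := allRange_zero (len := (nat_lit 61)) (by decide +kernel)

theorem o7_c_c3 {G : Type*} [Group G] (M : Mod G) (h : LM (fun i => pts M.x (o7_P i)) 351 o7_T (M.wl o7_g) 13 [nat_lit 0,nat_lit 1,nat_lit 2,nat_lit 3,nat_lit 4,nat_lit 5,nat_lit 7]) : Cls (M.wl o7_g) 3 9 (ConjIn (genLt (M.wl o7_g) 13) (fun t => pcG (M.wl o7_g) 3 9 0 (o7_c_W t)) 7) 3 o7_c_N3 61 :=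
  have := M.fin
  cls_step (o7_p_lm M) (o7_p_pc M) (o7_p_cb M).1.ge (fun _ hu _ k => k.of_conj (genLt_mono _ (by decide) hu)) (o7_c_c2 M h) o7_c_s2 (by decide)

noncomputable def o7_c_A3 : ℕ → ℕ := fun i => Nat.land (Nat.shiftRight (nat_lit 0x46e2000000f3003d8dc0000003cc007a00000000000000f634980000079801e4696000001e6003c00000000000000791910000003cc00ee321800000f3001d800000000000003b8bda000001e6007517bc0000079800e800000000000001d45a1000000f300398b44000003cc007200000000000000e62a900000079801c454f000001e60038000000000000007113ec000003cc00de27d800000f3001b80000000000000378958000001e6006d12c40000079800d800000000000001b4460000000f3003588b6000003cc006a00000000000000d5261800000f3001a24cb000000f30034000000000000006891c40000079800cd23d80000079801980000000000000334838000003cc00649094000003cc00c800000000000001923d0000001e6003147b0000001e6006200000000000000c51bf000000f300182388000000f3003000000000000000608ca40000079800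bd199000000798017800000000000002f45ba000003cc005c8b94000003cc00b8000000000000017228b000001e6002d452a000001e6005a00000000000000b511b000000f30016223f000000f3002c000000000000005800000000000000ac00000000000001500000000000000290000000000000050000000000000009c00000000000001300000000000000250000000000000048000000000000008c00000000000001100000000000000210000000000000040000000000000007c00000000000000f000000000000001d0000000000000038000000000000006c00000000000000d07b2000047a300190f4a00004458003200000000000000643ab80000cd0800c075200003342001800000000000000301c0000006684005c383000019a1000b80000000000000170d6400003342002c1ac40000cd08005800000000000000b00000000000000150000000000000028000000000000004c2b9800019a100090576000019a10012000000000000002414a00000cd08004429500000cd08008800000000000001109a8000066840020134800006684004000000000000000803e60000222c000f07b200008f46001e000000000000003c000000000000007000000000000000d000000000000001807c400011e8c002c0fc800011160005800000000000000b01fc000044580014041800011e8c002800000000000000500000000000000090000000000000010000000000000001c00000000000000300000000000000050000000000000008000000000000000c0000000000000010000000000000001)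 (Nat.mul (nat_lit 63) i)) (nat_lit 0x7fffffffffffffff)

theorem o7_c_s3 : ∀ i < 39, (nodeOK o7_T (nat_lit 3) (nat_lit 9) [nat_lit 0,nat_lit 1,nat_lit 2] (nat_lit 3) (nat_lit 6) (nat_lit 27) o7_c_N3 (nat_lit 61) o7_c_N4 o7_c_A3) i = true := allRange_zero (len := (nat_lit 39)) (by decide +kernel)

theorem o7_c_c4 {G : Type*} [Group G] (M : Mod G) (h : LM (fun i => pts M.x (o7_P i)) 351 o7_T (M.wl o7_g) 13 [nat_lit 0,nat_lit 1,nat_lit 2,nat_lit 3,nat_lit 4,nat_lit 5,nat_lit 7]) : Cls (M.wl o7_g) 3 9 (ConjIn (genLt (M.wl o7_g) 13) (fun t => pcG (M.wl o7_g) 3 9 0 (o7_c_W t)) 7) 4 o7_c_N4 39 :=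
  have := M.fin
  cls_step (o7_p_lm M) (o7_p_pc M) (o7_p_cb M).1.ge (fun _ hu _ k => k.of_conj (genLt_mono _ (by decide) hu)) (o7_c_c3 M h) o7_c_s3 (by decide)

noncomputable def o7_c_A4 : ℕ → ℕ := fun i => Nat.land (Nat.shiftRight (nat_lit 0x9c00000000000004c000000000000025000000000000012000000000000008c000000000000044000000000000021000000000000010000000000000007c1680000000000000b500000000000005b00000000000002a00000000000001500000000000000a800000000000005900000000000002c40000000000001660000000000000b200000000000005980000000000002c400000000000014a0000000000000a500000000000005280000000000002f00000000000001760000000000000ba00000000000002900000000000001480000000000000a400000000000005c00000000000002d000000000000016c0000000000000d4000000000000069000000000000035800000000000000000000000007800000000000003a00000000000001c00000000000000d800000000000006800000000000003200000000000001800000000000000b80000000000000580ac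00000000000005600000000000002b00000000000001a80000000000000d600000000000006900000000000002f80000000000001780000000000000ba000000000001316000000f30015986800000f3000a800000000000005643c000001e60029213000001e6001400000000000000a44a4000003cc004e244000003cc0026000000000000013542800000f300092a00000003cc0048000000000000024996000001e600114c48000007980088000000000000045142000003cc0020898000000f300100000000000000081e700000222c003cf3e0000222c001e00000000000000f00000000000000700000000000000340000000000000185c300001116000b2e5000004458005800000000000002c0000000000000140000000000000090000000000000040f4400004458001c7a800001116000e0000000000000071738000044580030bc000004458001800000000000000c1fb0000111600050f9000004458002800000000000001420e000011160008100000011160004000000000000002000000000000000c000000000000004000000000000001) (Nat.mul (nat_lit 61) i)) (nat_lit 0x1fffffffffffffff)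

theorem o7_c_s4 : ∀ i < 33, (nodeOK o7_T (nat_lit 3) (nat_lit 9) [nat_lit 0,nat_lit 1,nat_lit 2] (nat_lit 4) (nat_lit 5) (nat_lit 81) o7_c_N4 (nat_lit 39) o7_c_N5 o7_c_A4) i = true := allRange_zero (len := (nat_lit 33)) (by decide +kernel)

theorem o7_c_c5 {G : Type*} [Group G] (M : Mod G) (h : LM (fun i => pts M.x (o7_P i)) 351 o7_T (M.wl o7_g) 13 [nat_lit 0,nat_lit 1,nat_lit 2,nat_lit 3,nat_lit 4,nat_lit 5,nat_lit 7]) : Cls (M.wl o7_g) 3 9 (ConjIn (genLt (M.wl o7_g) 13) (fun t => pcG (M.wl o7_g) 3 9 0 (o7_c_W t)) 7) 5 o7_c_N5 33 :=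
  have := M.fin
  cls_step (o7_p_lm M) (o7_p_pc M) (o7_p_cb M).1.ge (fun _ hu _ k => k.of_conj (genLt_mono _ (by decide) hu)) (o7_c_c4 M h) o7_c_s4 (by decide)

noncomputable def o7_c_A5 : ℕ → ℕ := fun i => Nat.land (Nat.shiftRight (nat_lit 0x2181f79d71b69961759551349140f38d30b289207185103081) (Nat.mul (nat_lit 6) i)) (nat_lit 63)

theorem o7_c_s5 : ∀ i < 11, (nodeOK o7_T (nat_lit 3) (nat_lit 9) [nat_lit 0,nat_lit 1,nat_lit 2] (nat_lit 5) (nat_lit 4) (nat_lit 243) o7_c_N5 (nat_lit 33) o7_c_N6 o7_c_A5) i = true := allRange_zero (len := (nat_lit 11)) (by decide +kernel)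

theorem o7_c_c6 {G : Type*} [Group G] (M : Mod G) (h : LM (fun i => pts M.x (o7_P i)) 351 o7_T (M.wl o7_g) 13 [nat_lit 0,nat_lit 1,nat_lit 2,nat_lit 3,nat_lit 4,nat_lit 5,nat_lit 7]) : Cls (M.wl o7_g) 3 9 (ConjIn (genLt (M.wl o7_g) 13) (fun t => pcG (M.wl o7_g) 3 9 0 (o7_c_W t)) 7) 6 o7_c_N6 11 :=
  have := M.fin
  cls_step (o7_p_lm M) (o7_p_pc M) (o7_p_cb M).1.ge (fun _ hu _ k => k.of_conj (genLt_mono _ (by decide) hu)) (o7_c_c5 M h) o7_c_s5 (by decide)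

noncomputable def o7_c_A6 : ℕ → ℕ := fun i => Nat.land (Nat.shiftRight (nat_lit 0x1121800004458002e270800004458005800000000000000b78960000222c0014f0140000222c00280000000000000053411000011160009683600001116001200000000000000255738000044580042ba200001116000800000000000000108ac80000222c001d1658000088b0003800000000000000734e400001116000c67b40000445800180000000000000031141000019a10005234400006684000a000000000000001447d800019a100020929000019a100040000000000000008000000000000000c0000000000000010000000000000001) (Nat.mul (nat_lit 63) i)) (nat_lit 0x7fffffffffffffff)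

theorem o7_c_s6 : ∀ i < 9, (nodeOK o7_T (nat_lit 3) (nat_lit 9) [nat_lit 0,nat_lit 1,nat_lit 2] (nat_lit 6) (nat_lit 3) (nat_lit 729) o7_c_N6 (nat_lit 11) o7_c_N7 o7_c_A6) i = true := allRange_zero (len := (nat_lit 9)) (by decide +kernel)

theorem o7_c_c7 {G : Type*} [Group G] (M : Mod G) (h : LM (fun i => pts M.x (o7_P i)) 351 o7_T (M.wl o7_g) 13 [nat_lit 0,nat_lit 1,nat_lit 2,nat_lit 3,nat_lit 4,nat_lit 5,nat_lit 7]) : Cls (M.wl o7_g) 3 9 (ConjIn (genLt (M.wl o7_g) 13) (fun t => pcG (M.wl o7_g) 3 9 0 (o7_c_W t)) 7) 7 o7_c_N7 9 :=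
  have := M.fin
  cls_step (o7_p_lm M) (o7_p_pc M) (o7_p_cb M).1.ge (fun _ hu _ k => k.of_conj (genLt_mono _ (by decide) hu)) (o7_c_c6 M h) o7_c_s6 (by decide)

noncomputable def o7_c_A7 : ℕ → ℕ := fun i => Nat.land (Nat.shiftRight (nat_lit 0x987654321) (Nat.mul (nat_lit 4) i)) (nat_lit 15)

theorem o7_c_s7 : ∀ i < 3, (nodeOK o7_T (nat_lit 3) (nat_lit 9) [nat_lit 0,nat_lit 1,nat_lit 2] (nat_lit 7) (nat_lit 2) (nat_lit 2187) o7_c_N7 (nat_lit 9) o7_c_N8 o7_c_A7) i = true := allRange_zero (len := (nat_lit 3)) (by decide +kernel)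

theorem o7_c_c8 {G : Type*} [Group G] (M : Mod G) (h : LM (fun i => pts M.x (o7_P i)) 351 o7_T (M.wl o7_g) 13 [nat_lit 0,nat_lit 1,nat_lit 2,nat_lit 3,nat_lit 4,nat_lit 5,nat_lit 7]) : Cls (M.wl o7_g) 3 9 (ConjIn (genLt (M.wl o7_g) 13) (fun t => pcG (M.wl o7_g) 3 9 0 (o7_c_W t)) 7) 8 o7_c_N8 3 :=
  have := M.fin
  cls_step (o7_p_lm M) (o7_p_pc M) (o7_p_cb M).1.ge (fun _ hu _ k => k.of_conj (genLt_mono _ (by decide) hu)) (o7_c_c7 M h) o7_c_s7 (by decide)

noncomputable def o7_c_A8 : ℕ → ℕ := fun i => Nat.land (Nat.shiftRight (nat_lit 57) (Nat.mul (nat_lit 2) i)) (nat_lit 3)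

theorem o7_c_s8 : ∀ i < 1, (nodeOK o7_T (nat_lit 3) (nat_lit 9) [nat_lit 0,nat_lit 1,nat_lit 2] (nat_lit 8) (nat_lit 1) (nat_lit 6561) o7_c_N8 (nat_lit 3) o7_c_N9 o7_c_A8) i = true := allRange_zero (len := (nat_lit 1)) (by decide +kernel)

theorem o7_c_c9 {G : Type*} [Group G] (M : Mod G) (h : LM (fun i => pts M.x (o7_P i)) 351 o7_T (M.wl o7_g) 13 [nat_lit 0,nat_lit 1,nat_lit 2,nat_lit 3,nat_lit 4,nat_lit 5,nat_lit 7]) : Cls (M.wl o7_g) 3 9 (ConjIn (genLt (M.wl o7_g) 13) (fun t => pcG (M.wl o7_g) 3 9 0 (o7_c_W t)) 7) 9 o7_c_N9 1 :=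
  have := M.fin
  cls_step (o7_p_lm M) (o7_p_pc M) (o7_p_cb M).1.ge (fun _ hu _ k => k.of_conj (genLt_mono _ (by decide) hu)) (o7_c_c8 M h) o7_c_s8 (by decide)

theorem o7_c {G : Type*} [Group G] (M : Mod G) (h : LM (fun i => pts M.x (o7_P i)) 351 o7_T (M.wl o7_g) 13 [nat_lit 0,nat_lit 1,nat_lit 2,nat_lit 3,nat_lit 4,nat_lit 5,nat_lit 7]) : ∀ a ∈ genLt (M.wl o7_g) 9, a ^ 3 = 1 → (ConjIn (genLt (M.wl o7_g) 13) (fun t => pcG (M.wl o7_g) 3 9 0 (o7_c_W t)) 7) a :=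
  fun _ => (o7_c_c9 M h).top

theorem o7_c_ord {G : Type*} [Group G] (M : Mod G) : ∀ t < 7, orderOf (pcG (M.wl o7_g) 3 9 0 (o7_c_W t)) = 3 ∧ pcG (M.wl o7_g) 3 9 0 (o7_c_W t) ∈ genLt (M.wl o7_g) 9 := fun t ht =>
  have := M.fin
  (o7_p_lm M).ord_code (o7_p_pc M) (o7_p_cb M).1.ge ((allLt_iff _ _).1 (by decide +kernel :
    allLt 7 (fun t => force (o7_c_W t) (ordOK o7_T [nat_lit 0,nat_lit 1,nat_lit 2] 3 9)) = true) t ht)

noncomputable def o7_r : LT :=
(.node (.node (.node (.leaf [nat_lit 31671,nat_lit 31681,nat_lit 31686,nat_lit 31684,nat_lit 31677,nat_lit 31685,nat_lit 31687,nat_lit 31681])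
 (.leaf [nat_lit 31702,nat_lit 31688,nat_lit 31672,nat_lit 31689,nat_lit 31678,nat_lit 31686,nat_lit 31672,nat_lit 31684,nat_lit 31677,nat_lit 31685,nat_lit 31672,nat_lit 31687,nat_lit 31676,nat_lit 31673,nat_lit 31671]))
 (.node (.leaf [nat_lit 31678,nat_lit 31697,nat_lit 31701,nat_lit 31702,nat_lit 31673,nat_lit 31686,nat_lit 31695,nat_lit 31676,nat_lit 31684,nat_lit 31672,nat_lit 31690,nat_lit 31672,nat_lit 31685,nat_lit 31686,nat_lit 31682,nat_lit 31672,nat_lit 31676])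
 (.leaf [nat_lit 31671,nat_lit 31672,nat_lit 31675,nat_lit 31674,nat_lit 31683,nat_lit 31671,nat_lit 31690,nat_lit 31684,nat_lit 31682,nat_lit 31694,nat_lit 31675,nat_lit 31682,nat_lit 31672])))
 (.node (.node (.leaf [nat_lit 31683,nat_lit 31683,nat_lit 31674,nat_lit 31684,nat_lit 31676,nat_lit 31691,nat_lit 31671,nat_lit 31691,nat_lit 31681,nat_lit 31695,nat_lit 31688,nat_lit 31678,nat_lit 31694,nat_lit 31696,nat_lit 31693,nat_lit 31696,nat_lit 31683])
 (.leaf [nat_lit 31682,nat_lit 31687,nat_lit 31671,nat_lit 31697,nat_lit 31679,nat_lit 31691,nat_lit 31693,nat_lit 31682,nat_lit 31674,nat_lit 31690,nat_lit 31685,nat_lit 31673,nat_lit 31685,nat_lit 31671,nat_lit 31672,nat_lit 31671]))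
 (.leaf [nat_lit 31676,nat_lit 31673,nat_lit 31672,nat_lit 31671,nat_lit 31679,nat_lit 31683,nat_lit 31687,nat_lit 31674,nat_lit 31685,nat_lit 31677,nat_lit 31685,nat_lit 31689])))

theorem o7_hr : o7_r.all (lettersLt 31703) = true := by decide +kernel

noncomputable def o7_V : ℕ → ℕ := fun i => Nat.land (Nat.shiftRight (nat_lit 0x88c7b452c4c01960f4052) (Nat.mul (nat_lit 12) i)) (nat_lit 4095)

theorem o7_n0 : Nat.beq (count2 31671 fun i => band (tsts (wT X o7_f) X [[1, 0], [0, 1]] i) (force (wT X o7_r 0 i) fun j => Nat.beq (X i j) j)) (o7_V 0) = true := by decide +kernel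

theorem o7_n1 : Nat.beq (count2 31671 fun i => band (tsts (wT X o7_f) X [[1, 0], [0, 1]] i) (force (wT X o7_r 1 i) fun j => Nat.beq (X i j) j)) (o7_V 1) = true := by decide +kernel

theorem o7_n2 : Nat.beq (count2 31671 fun i => band (tsts (wT X o7_f) X [[1, 0], [0, 1]] i) (force (wT X o7_r 2 i) fun j => Nat.beq (X i j) j)) (o7_V 2) = true := by decide +kernel

theorem o7_n3 : Nat.beq (count2 31671 fun i => band (tsts (wT X o7_f) X [[1, 0], [0, 1]] i) (force (wT X o7_r 3 i) fun j => Nat.beq (X i j) j)) (o7_V 3) = true := by decide +kernel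

theorem o7_n4 : Nat.beq (count2 31671 fun i => band (tsts (wT X o7_f) X [[1, 0], [0, 1]] i) (force (wT X o7_r 4 i) fun j => Nat.beq (X i j) j)) (o7_V 4) = true := by decide +kernel

theorem o7_n5 : Nat.beq (count2 31671 fun i => band (tsts (wT X o7_f) X [[1, 0], [0, 1]] i) (force (wT X o7_r 5 i) fun j => Nat.beq (X i j) j)) (o7_V 5) = true := by decide +kernel

theorem o7_n6 : Nat.beq (count2 31671 fun i => band (tsts (wT X o7_f) X [[1, 0], [0, 1]] i) (force (wT X o7_r 6 i) fun j => Nat.beq (X i j) j)) (o7_V 6) = true := by decide +kernel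

theorem o7_J {G : Type*} [Group G] (M : Mod G) {t : ℕ} (ht : t < 7) : relC CommR (pts M.x '' {i | i < 31671 ∧ tsts (wT X o7_f) X [[1, 0], [0, 1]] i = true})
    (pcG (M.wl o7_g) 3 9 0 (o7_c_W t)) = o7_V t := by
  rw [← M.eq_pcG o7_hg ((allLt_iff _ _).1 (by decide +kernel :
    allLt 7 (fun t => TM.codeOK X 31703 B o7_g 3 9 (o7_r.get t) (o7_c_W t)) = true) t ht),
    ← TM.wl_def, relC_eq M.inj (M.tabs_wl o7_hr 7 t ht) M.commR_iff, ← nbeq_iff]
  interval_cases t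
  exacts [o7_n0, o7_n1, o7_n2, o7_n3, o7_n4, o7_n5, o7_n6]

theorem o7_cen {G : Type*} [Group G] (M : Mod G) : cen (M.wl o7_f) 2 = Subgroup.centralizer {M.x 10331, M.x 6249} := by
  rw [cen_two, TM.wl_def, TM.wl_def, M.eq (w := [10331]) (by decide +kernel), M.eq (v := o7_f.get 1) (w := [6249]) (by decide +kernel)]
  simp only [TM.w, evalW_cons, evalW_nil, mul_one]

theorem o7_main {G : Type*} [Group G] (M : Mod G) {H : Type*} [Group H] (ε : H ≃* cen (M.wl o7_f) 2) (hH : Nat.card H = 4585351680) :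
    ∃ Y : Fin 7 → Subgroup H, (∀ i, Y i ≤ ⊤ ∧ Nat.card (Y i) = 3) ∧
      (∀ i j, (∃ g : H, (Y i).map (MulAut.conj g).toMonoidHom = Y j) → i = j) ∧
      ∀ X : Subgroup H, X ≤ ⊤ → Nat.card X = 3 → ∃ i, ∃ g : H, X.map (MulAut.conj g).toMonoidHom = Y i := by
  have := M.fin
  have h1 : genLt (M.wl o7_g) 13 ≤ cen (M.wl o7_f) 2 := M.low_of_comm (by decide +kernel)
  have h2 := (Nat.card_congr ε.toEquiv).symm.trans hH
  have h3 := (card_base_of_chain (o7_ch M) ((words_le_genLt o7_ch_hl _).trans h1) h2.le).2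
  have h4 : ((cen (M.wl o7_f) 2).subtype.comp ε.toMonoidHom).range = cen (M.wl o7_f) 2 := by
    rw [MonoidHom.range_comp, MonoidHom.range_eq_top.2 ε.surjective, ← MonoidHom.range_eq_map, Subgroup.range_subtype]
  have h5 := (genLt_mono (M.wl o7_g) (show 9 ≤ 13 by decide)).trans h1
  exact classes_rel (Subtype.val_injective.comp ε.injective) ((MonoidHom.range_eq_map _).symm.trans h4) h4 h5 h2
    (o7_p_cb M).1 (by decide) (fun t ht => ⟨(o7_c_ord M t ht).1, h5 (o7_c_ord M t ht).2⟩)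
    (fun a ha h => (o7_c M ⟨(o7_tabs M).2, (o7_tabs M).1, h3.mono h1, by decide +kernel⟩ a ha h).trans h1
      fun t ht => Or.inr ⟨t, ht, 1, one_mem _, by simp⟩) (relC CommR _)
    (fun u hu a _ => relC_conj commR_smul ((M.inv_tsts (ts := [[1, 0], [0, 1]]) (M.tabs_wl o7_hf 2) (by decide +kernel)).image fun c _ => M.perm c) hu a)
    (relC_inv commR_smul fun _ _ => Commute.symm) fun s hs t ht h => by
      rw [o7_J M hs, o7_J M ht] at h
      exact (by decide +kernel : ∀ s < 7, ∀ t < 7, o7_V s = o7_V t → s = t) s hs t ht h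

end Cfsg.Agent.Spor.F23
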