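import Mathlib
import Cfsg.Agent.Spor.F23.O8b

/-! Generated by tools/fl: the classes of elements of order 3 of O8+(3) -/

set_option autoImplicit false
set_option maxRecDepth 100000
set_option linter.unusedVariables false
set_option exponentiation.threshold 100000

namespace Cfsg.Agent.Spor.F23

open Cfsg.Agent.Spor Cfsg.Agent.Spor.FL

noncomputable def o8_c_W : ℕ → ℕ := fun i => Nat.land (Nat.shiftRight (nat_lit 0x1024f6b646f2686309c3506c812445a) (Nat.mul (nat_lit 10) i)) (nat_lit 1023)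

noncomputable def o8_c_N0 : ℕ → ℕ := fun i => Nat.land (Nat.shiftRight (nat_lit 0x8061e8061d8061c7bb577bb567bb557bb3a7bb1f7b9397b75376f2f76e3c76d4976c5676991769907698f769867697d74efb7354871bb9702066effd6ef0a6eb506eb476eb406eb3f6eb3e6ea4b6e95869d6a69d6969d68654876546e6546d6546c654516517864e9f622f7622f6622f55d5555d53c5d53b5d53a5d51f5d1535d06059b4a589415893858931589305892f58656584705837d5828a567ff51b1551b1451b135017b4e7da4d4e94d4e84d4e74d4de4d4d54d2ef4d1094d0164ce30486ff4845e4845d4845c48441484264814d453f3453d8453bf453be453bd451d744ff1403104030f4030e3cde63bbdd3b9f73b9183b9173b9163b90d3b9043b62b3b53839aa4387a838412383f9383f8383f7383dc382e9336fb336fa336f92ede22ecef2eb1b2eb122eb0b2eb0a2eb092e9232e8302cda52b40d291e1291d8291d1291d0291cf28b2a281ac245df23d54234db234d4234d3234d2234c91f9ef1f1761f16f1f16e1f16d1f1641e8d91c4c71bc3c1b3c31b3ba1b3b31b3b21b3b1177e4171511714817141171401713f167c112c0812c07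12c0612bfd12bf41236911ade0a2530a2520a25105dfb05dfa05df9034320342f0342c034290342603423034200341d0341a0341703414034110340e0340b034080340503402033ff033fc033f9033f6033f3033f0033ed033ea033e7033e4033e1033de033db033d8033d5033d2033cf033cc033c9033c6033c3033c0033bd033ba033b7033b4033b1033ae033ab033a8033a5033a20339f0339c033990339603393033900338d0338a0338703384033810337e0337b0337803375033720336f0336c033690336603363033600335d0335a0335703354033510334e0334b03348033450334201a9101a8e01a8b01a8801a8501a8201a7f01a7c01a7901a7601a7301a7001a6d01a6a01a6701a6401a6101a5e01a5b01a5801a5501a5201a4f01a4c01a4901a4601a4301a4001a3d01a3a01a3701a3401a3101a2e01a2b01a2801a2501a2201a1f01a1c01a1901a1601a1301a1001a0d01a0a01a0701a0401a01019fe019fb019f8019f5019f2019ef019ec019e9019e6019e3019e0019dd019da019d7019d4019d1019ce019cb019c8019c5019c2019bf019bc019b9019b6019b3019b0019ad019aa019a7019a4019a1018b4018b1018ae017cd017c4017c1017b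e017bb016fe016e9016e6016e3016c80160b015f0015db015d8015d5014e8014e5014e201401013f8013f5013f2013ef013320131701302012ff012fc0120f0120c01209011280111f0111c011190111601029010260102300f6600f4b00f3600f3300f3000e4f00e4600e4300e4000e3d00d5c00d5300d5000d4d00d4a00c5d00c5a00c5700ba000b9d00b9a00b7f00b6400a7700a7400a71009b40099900984009810097e0089d00894008910088e0088b007aa007a10079e0079b00798006b7006ae006ab006a8006a5005ca005c7005c4005bb005b2004d1004c8004c5004c2004bf003de003d5003d2003cf003cc002eb002e8002e5002e2002d9001ec001e9001e6000f9000f6000f3000ea000e1000d8000cf000c6000bd000b4000ab000a20009900090000870007e000750006c000630005a00051000480003f000360002d000240001b00012000090000600003000020000100000) (Nat.mul (nat_lit 20) i)) (nat_lit 0xfffff)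

noncomputable def o8_c_N1 : ℕ → ℕ := fun i => Nat.land (Nat.shiftRight (nat_lit 0x2ad56ab2d2ac12a4f1e93bea4ed69313a49c67ab69e9967a149e70e79729e48678d09e21678829e1fe782e9bea66fa69be8e671e99c6e671897a4e5e9097a36560895816560293ffe4fae93d764f0c93aee4e70939b64e6a938664dc8935de365e8d5ae3478870b61c248706e1b28868d60ba78298e091f7c71df1be7c6d5f0717c081de6e779adde68761add86876195d81475f0dd77275c85d6d0759fdd62e75775cd5873555cd526d65db4a46cec5ab2c6aca5ab2668a85a29e68a6d9c98671359c4a6711d9bf666e959b5466c0d9ab2669859a10609558174605ad8162601bd71515c521713f5c2756ffb55e7956fc5596944a85129544a24fa7d3e4e4f7f53db24f6bd3dac4f56d3d0a4f2e53c684f05d33924ce3d338c4b4e12c064aff52bf44ae8d13974494d12023e91cf9f63e694f9543e424f9063e40cf8b23e184f8103defcef3a3bcdcef3439abce6ac39aa4db4b36d20db4536438d5e4307d4bf1c2f124bc462f10ca8a529748a5cf29730a2f325bb4941424504913e244ec7d4c1ec6c7b181ec5477eb1900863ff18ff06123179283801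0dc38361b084e4204607d4c11660459411640458c11620458411600457c115e04574115c0456c115a0456411580455c11560455411540454c11520454411500453c114e04534114c0452c114a0452411480451c11460451411440450c1142045041140044fc113e044f4113c044ec113a044e41138044dc1136044d41134044cc1132044c41130044bc112e044b4112c044ac112a044a411280449c11260449411240448c11220448411200447c111e04474111c0446c111a0446411180445c11160236c08da0236408d80235c08d60235408d40234c08d20234408d00233c08ce0233408cc0232c08ca0232408c80231c08c60231408c40230c08c20230408c0022fc08be022f408bc022ec08ba022e408b8022dc08b6022d408b4022cc08b2022c408b0022bc08ae022b408ac022ac08aa022a408a80229c08a60229408a40228c08a20228408a00227c089e02274089c0226c089a0226408980225c08960225408940224c08920224408900223c088e02234088c0222c083c020ec083a01fbc07ec01fac07ea01fa407aa01e8c07a201e84079801d64075001d24074801d1c06f801bdc06f601aac06a801a9c06a601a94066601974065601954065401814060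40180c05b8016d405b4016cc05b20158c05620158405220146405120144405100131404c20130404c0012fc0474011c40470011bc046e0107c041e0107403e000f7c03de00f5403cc00df4037c00dec033c00ccc032c00cac032a00b7c02dc00b6c02da00b64028e00a2c028a00a240288008f4023a008e40238008dc01ee007b401ec007a401e60066c01980065c019600654014a0051c0146005140144003e400f8003dc00f6003cc00a40028c00a20014c005200144004e0012c0048001140042000fc003c000e40036000cc0030000b4002a0009c002400084001e0006c00180005400120003c000c0002400060000c0002000040000) (Nat.mul (nat_lit 18) i)) (nat_lit 262143)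

noncomputable def o8_c_N2 : ℕ → ℕ := fun i => Nat.land (Nat.shiftRight (nat_lit 0xe4a8e48de472e457e43ce421e406e3ebe3d0dc1ddc02dbeddbeadbe7dbccdbb1db96db7bdb60db45d392d377d35cd341d326d30bd2f0d2d7d2d6d2d5d2bacfe3cfe2cfe1cd0acd09cd08ca31ca30ca2fc758c757c756c555c53ac51fc504c4e9c4d0c4cfc4cec4b3c498c47dbccabcafbc94bc79bc5ebc43bc28bc0dbbf2b43fb424b40fb40cb409b3eeb3d3b3b8b39db382b367ae8dae72ae57ae3cae21ae06adebadd0adb5a602a5eda5eaa5e7a5cca5b1a596a57ba560a545a52a9f7a9f799f789d799d789d779d5c9d419d269d0b9cf09cd59cba9c9f99c899c799c6921391f891dd91c291a7918c91719156913b8e648e638e628b8b8b8a8b898988896f896e896d89528937891c890188e688cb88b080fd80e280c780ac8091807c80798076805b804080257b4b7b307b1b7b187b157afa7adf7ac47aa97a8e7a7372c072a5728a726f72547239721e720371e86c386c376c366a356a1a69ff69e669e569e469c969ae69936978695d66866685668464836468644d64326417640263ff63fc63e163c663ab5bf85bdd5bc25ba75b8c5b715b565b3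b5b20536d53525337531c53035302530152e652cb52b052954fbe4fbd4fbc4ce54ce44ce3494d4932491949184917485a483f48244767474c473140c240a7408c3fcf3fb43f993edc3ec33ec23ec13ea63837381c38013746374537443729370e36513636361b3285326a324f31923177315c309f3084306b306a306929fa29df29c429092908290728ec28d1281427f927de216f2156215521542139207c206120461f891f6e1f53139e134d12fc12ab125a120911b8116711160b130ac20a710a2009cf097e092d08dc088b05cc05cb05ca05c905c805c705c605c505c405c305c205c105c005bf05be05bd05bc05bb05ba05b905b805b705b605b505b405b305b202f302f202f102f002ef02ee02ed02ec02eb02ea02e902e802e702e602e502e402e302e202e102e002df02de02dd02dc02db02da02d902be02a502a402a3028e028b028802730270026d02520239023802370222021f021c020101e801e701e601cb01b601b301b0019701960195017c017b017a015f014a01470144012901140111010e00f500f400f300da00d900d800bf00be00bd00a400a300a2008900880087006e006d006c0053005200510036001b001a0019001800170016001500140013001200110010000f000e000d000c000b000a0009000800070006000500040003000200010000)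 (Nat.mul (nat_lit 16) i)) (nat_lit 65535)

noncomputable def o8_c_N3 : ℕ → ℕ := fun i => Nat.land (Nat.shiftRight (nat_lit 0x130e2617cc26983b3052605cc0297f32fc24afc956929f253a4a6c944927724ca494c920922f1a1a33ec6748cd7198a32cc6508c8f18fa2a5c45886cb09ca0e3c1be836b06b20d1c19a832306220bfbeee7dcafb71f69beca7d82fae1f57bea6782af031e02bc047806efe9df8bbe877beef59de6ba2f744ce875d0a3a0b7404e7e5cf839e76eacdd3dba7374d6e88dcedb9937296e40dc5db87352868fad1d1a35b46268b2d141a23b43e686acd09858b0a8613ec259846b08460f6c1c9834af765d06b7616e7adc65b7ab6d16d5ada25b32b64157faaf655daab9156daad455a6ab49564aac0556ea46548829095210a41d47f28f551d8a38d46d28d14c8098dd31726254c38984d30526014bf090491b3a35e46aa8d311a1a33a46628ca118fa22c430285e10b7a16642ba85590aaa1544296850909c9ea83d3e7a58f469e843cf679c8f349e60379e6f18dde9bb437566e88dcc9b90370e6a50cd0986f30cc6174c0f181530185f34be217bb2b2c5634ac215452a7854cca7a14eb29c44af495a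12ab24d8498c92d121b2424482486b90ce218a421883e9074206a40b08118dfe1bea37b06d68da41b3635706a98d4a164a2c705898ad415962b085418a7a14e21e60352868a0cde195031c861e0c0617a02e685b2097e0f301d8839606f60d801a2832a061e0bd016c81ee03da07b00f581ea03d207a00f381e601f603e807c80f801ee03d807a80f401e603a807080da01b2036006880d0019e031805e80b6016a02d005580a2013202480488090010e01f803a806e00da01b0031805c00b601680288048007e00d80168024003600480048008000e00180028004000600080008000) (Nat.mul (nat_lit 15) i)) (nat_lit 32767)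

noncomputable def o8_c_N4 : ℕ → ℕ := fun i => Nat.land (Nat.shiftRight (nat_lit 0x1968cb2e58b2bf95ccace55b2a7950c3ae1cb0df86cc34e19b0c7860c2ede0aeff77cbbcdddaee7770bb6ddaae336c8b3bd89abdb5eaaf3d792bc35deaedd762bab4faa7bd3d29e34eea75d3a29cb4e2a03d0128033fe9fdcfe27eb3f29f7cd966c535f9ae4d666ad3539a84d364e526f93649a64cd26393049764b51b88bfc5f22f31768b9c5c22db16a8b3c45a07703881ac0ca05f02c814c09a046fd27c0bd21e8af4279fbcf1e72f36799bcc1caae52727b931c92e46721b901c7adb36d836b5b54da76d23685b3cd9b66032f5974cb765a32c595ccab654301979abca5e3af11782bbe5ddaee176ab64595aca164ab2258fac71632b16589a8e146aa32517a8b1452a26511a88128a94249fa4f1272936499a4c125a8dc445a09504481f405201d0087ef3f61fa4e6472f3961c5ce2871137e1be4dec63f31e18e4c4862130f1824c0c6032ce9668b2e5822bf95f0ace5642b092a894e4a4247923091247423891b876e3b41d88e707323961c08df86f628811b88b844a21c10988284021f80f7879832a14409d84c825212008b843820a0fc07982901460a202981480a204e025812008a04201f80f007203601980c005a02a013809004201e00d806002a01200780300120060018008002000)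 (Nat.mul (nat_lit 13) i)) (nat_lit 8191)

noncomputable def o8_c_N5 : ℕ → ℕ := fun i => Nat.land (Nat.shiftRight (nat_lit 0x87887787687587487387287187085583a82782682582482382282182081f8047e97d67d57d47d37d27d17d07cf7ce7b379877d76274f74e74d74c74b74a74974874772c7116fe6fd6fc6fb6fa6f96f86f76f66db6c06ad6ac6ab6aa6a96a86a76a66a568a67767667567467367267167066f65463962662562462362262162061f61e6035e85d55d45d35d25d15d05cf5ce5cd5b259757c56956856756656556456356256154652b5185175165155145135125115104f54da4c74c64c54c44c34c24c14c04bf4a449149048f48e48d48c48b48a48946e45344043f43e43d43c43b43a43943841d4023ef3ee3ed3ec3eb3ea3e93e83e73cc3b93b83b73b63b53b43b33b23b139637b36836736636536436336236136034532a31731631531431331231131030f2f42d92be2b72b62b52ae2ad2ac2a52a42a328826d26626526425d25c25b25425325223721c21521421320c20b20a2032022011e61df1de1dd1d61d51d41cd1cc1cb1b019518e18d18c18518418317c17b17a15f14413d13c13b13413313212b12a12910e0f30d80bd0ba0b70b40b10ae0ab0a80a50a208706c06906606306005d05a05705405103601b01a01901801701601501401301201101000f00e00d00c00b00a009008007006005004003002001000)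 (Nat.mul (nat_lit 12) i)) (nat_lit 4095)

noncomputable def o8_c_N6 : ℕ → ℕ := fun i => Nat.land (Nat.shiftRight (nat_lit 0x2d2b46d0b1ebeadeb6ad6aca8e9ca6e9aa46889fe769be6e9b66496e5494e52926408e6388de2e89e268961c84e0c82e0a805f87c5f07bde6775d4735cc72dc26e5b26c5b069d9e65d966558c6158460d7a5c56a5a56857d5653d4e535444f53c4ed324a5224852045d0e41d06414fc3ccea39ce4384d833ccc324c62f4b42c4ae2aca227c9c2649021c842047e1d46c1a46618c5a144480fc3e0f43c0ec3a0e4380dc360b42408c220842007c1e0741c06c120240801c060140400c0200400) (Nat.mul (nat_lit 10) i)) (nat_lit 1023)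

noncomputable def o8_c_N7 : ℕ → ℕ := fun i => Nat.land (Nat.shiftRight (nat_lit 0xf0edeae7e4e1dedbd8d5d2cfccc9c6c3c0bdbab7b4b1aeaba8a5a29f9c999693908d8a8784817e7b7875726f6c696663605d5a5754514e4d4c4b48454443423f3c3b3a3936353433302d2c2b2a27242322211e1b18151413120f0c0b0a090603020100) (Nat.mul (nat_lit 8) i)) (nat_lit 255)

noncomputable def o8_c_N8 : ℕ → ℕ := fun i => Nat.land (Nat.shiftRight (nat_lit 0x509f3a6cc972a4c88f1a2c4870a0c07ef9ebc76e9cb86ed9ab466c98b05eb96ac56a94a84e992a446890a03e78e9c3668c982e58a9426488901e3868c16284880e182840608080) (Nat.mul (nat_lit 7) i)) (nat_lit 127)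

noncomputable def o8_c_N9 : ℕ → ℕ := fun i => Nat.land (Nat.shiftRight (nat_lit 0x6b38bdab49ca307b9ac5a928398a418820) (Nat.mul (nat_lit 5) i)) (nat_lit 31)

noncomputable def o8_c_N10 : ℕ → ℕ := fun i => Nat.land (Nat.shiftRight (nat_lit 0x876543210) (Nat.mul (nat_lit 4) i)) (nat_lit 15)

noncomputable def o8_c_N11 : ℕ → ℕ := fun i => Nat.land (Nat.shiftRight (nat_lit 36) (Nat.mul (nat_lit 2) i)) (nat_lit 3)

noncomputable def o8_c_N12 : ℕ → ℕ := fun i => Nat.land (Nat.shiftRight (nat_lit 0) (Nat.mul (nat_lit 1) i)) (nat_lit 1)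

noncomputable def o8_c_D : LT :=
(.node (.node (.node (.node (.node (.node (.node (.node (.node (.leaf [nat_lit 0])
 (.leaf [nat_lit 1,nat_lit 1,nat_lit 4,nat_lit 10,nat_lit 6,nat_lit 6,nat_lit 15,nat_lit 3,nat_lit 14,nat_lit 6,nat_lit 6,nat_lit 4,nat_lit 9,nat_lit 0,nat_lit 0,nat_lit 15,nat_lit 15,nat_lit 0,nat_lit 4,nat_lit 4,nat_lit 15,nat_lit 1,nat_lit 1,nat_lit 10,nat_lit 5,nat_lit 11,nat_lit 8,nat_lit 8,nat_lit 3,nat_lit 3,nat_lit 6,nat_lit 7,nat_lit 7,nat_lit 12,nat_lit 12,nat_lit 0,nat_lit 14,nat_lit 14,nat_lit 7,nat_lit 7,nat_lit 14,nat_lit 8,nat_lit 14,nat_lit 3,nat_lit 3,nat_lit 6,nat_lit 7,nat_lit 7,nat_lit 5,nat_lit 5,nat_lit 13,nat_lit 0,nat_lit 0,nat_lit 3,nat_lit 15,nat_lit 5]))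
 (.node (.leaf [nat_lit 2,nat_lit 13,nat_lit 4,nat_lit 11,nat_lit 6,nat_lit 6,nat_lit 12,nat_lit 8,nat_lit 8,nat_lit 0,nat_lit 9,nat_lit 14,nat_lit 6,nat_lit 6,nat_lit 15,nat_lit 15,nat_lit 0,nat_lit 0,nat_lit 13,nat_lit 3,nat_lit 2,nat_lit 2,nat_lit 13,nat_lit 1,nat_lit 15,nat_lit 2,nat_lit 6,nat_lit 6,nat_lit 15,nat_lit 3,nat_lit 7,nat_lit 15,nat_lit 6,nat_lit 13,nat_lit 7,nat_lit 5,nat_lit 5,nat_lit 13,nat_lit 0,nat_lit 0,nat_lit 3,nat_lit 15,nat_lit 5,nat_lit 6,nat_lit 6,nat_lit 3,nat_lit 7,nat_lit 8,nat_lit 5,nat_lit 5,nat_lit 13,nat_lit 0,nat_lit 0,nat_lit 3,nat_lit 15,nat_lit 5])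
 (.leaf [nat_lit 9,nat_lit 10,nat_lit 7,nat_lit 13,nat_lit 12,nat_lit 15,nat_lit 3,nat_lit 3,nat_lit 10,nat_lit 12,nat_lit 2,nat_lit 15,nat_lit 8,nat_lit 15,nat_lit 6,nat_lit 15,nat_lit 3,nat_lit 15,nat_lit 14,nat_lit 15,nat_lit 3,nat_lit 3,nat_lit 0,nat_lit 13,nat_lit 12,nat_lit 8,nat_lit 8,nat_lit 3,nat_lit 3,nat_lit 6,nat_lit 7,nat_lit 7,nat_lit 5,nat_lit 5,nat_lit 13,nat_lit 0,nat_lit 0,nat_lit 3,nat_lit 15,nat_lit 5,nat_lit 6,nat_lit 6,nat_lit 3,nat_lit 7,nat_lit 8])))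
 (.node (.node (.leaf [nat_lit 4,nat_lit 1,nat_lit 5,nat_lit 8,nat_lit 13,nat_lit 8,nat_lit 0,nat_lit 13,nat_lit 11,nat_lit 14,nat_lit 0,nat_lit 0,nat_lit 7,nat_lit 12,nat_lit 13,nat_lit 5,nat_lit 5,nat_lit 8,nat_lit 8,nat_lit 9,nat_lit 10,nat_lit 15,nat_lit 15,nat_lit 8,nat_lit 15,nat_lit 4,nat_lit 4,nat_lit 2,nat_lit 5,nat_lit 5,nat_lit 7,nat_lit 7,nat_lit 14,nat_lit 2,nat_lit 2,nat_lit 0,nat_lit 4,nat_lit 5,nat_lit 13,nat_lit 6,nat_lit 6,nat_lit 3,nat_lit 7,nat_lit 3,nat_lit 3,nat_lit 6,nat_lit 7,nat_lit 7,nat_lit 5,nat_lit 5,nat_lit 13,nat_lit 3,nat_lit 3,nat_lit 0,nat_lit 15,nat_lit 5,nat_lit 6,nat_lit 6,nat_lit 3,nat_lit 7,nat_lit 8])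
 (.leaf [nat_lit 9,nat_lit 0,nat_lit 0,nat_lit 10,nat_lit 3,nat_lit 15,nat_lit 15,nat_lit 4,nat_lit 4,nat_lit 2,nat_lit 5,nat_lit 5,nat_lit 2,nat_lit 2,nat_lit 7,nat_lit 7,nat_lit 0,nat_lit 0,nat_lit 15,nat_lit 7,nat_lit 3,nat_lit 14,nat_lit 15,nat_lit 0,nat_lit 0,nat_lit 3,nat_lit 13,nat_lit 12,nat_lit 6,nat_lit 6,nat_lit 3,nat_lit 7,nat_lit 3,nat_lit 3,nat_lit 6,nat_lit 7,nat_lit 7,nat_lit 5,nat_lit 5,nat_lit 13,nat_lit 0,nat_lit 0,nat_lit 3,nat_lit 15,nat_lit 5,nat_lit 6,nat_lit 6,nat_lit 3,nat_lit 7,nat_lit 8]))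
 (.node (.leaf [nat_lit 9,nat_lit 14,nat_lit 2,nat_lit 2,nat_lit 6,nat_lit 6,nat_lit 0,nat_lit 14,nat_lit 6,nat_lit 3,nat_lit 3,nat_lit 7,nat_lit 7,nat_lit 0,nat_lit 4,nat_lit 13,nat_lit 0,nat_lit 14,nat_lit 15,nat_lit 0,nat_lit 0,nat_lit 3,nat_lit 13,nat_lit 12,nat_lit 13,nat_lit 13,nat_lit 6,nat_lit 6,nat_lit 13,nat_lit 13,nat_lit 4,nat_lit 4,nat_lit 5,nat_lit 5,nat_lit 13,nat_lit 0,nat_lit 7,nat_lit 5,nat_lit 5,nat_lit 13,nat_lit 0,nat_lit 0,nat_lit 3,nat_lit 15,nat_lit 5,nat_lit 12,nat_lit 13,nat_lit 1,nat_lit 1,nat_lit 0,nat_lit 15,nat_lit 14,nat_lit 2,nat_lit 2,nat_lit 12,nat_lit 4,nat_lit 14,nat_lit 2,nat_lit 13,nat_lit 7,nat_lit 7,nat_lit 4,nat_lit 6,nat_lit 15])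
 (.leaf [nat_lit 9,nat_lit 4,nat_lit 14,nat_lit 0,nat_lit 1,nat_lit 10,nat_lit 7,nat_lit 14,nat_lit 14,nat_lit 10,nat_lit 10,nat_lit 10,nat_lit 10,nat_lit 10,nat_lit 10,nat_lit 10,nat_lit 0,nat_lit 15,nat_lit 14,nat_lit 14,nat_lit 5,nat_lit 13,nat_lit 8,nat_lit 8,nat_lit 5,nat_lit 7,nat_lit 7,nat_lit 6,nat_lit 6,nat_lit 4,nat_lit 4,nat_lit 15,nat_lit 5,nat_lit 5,nat_lit 6,nat_lit 15,nat_lit 7,nat_lit 5,nat_lit 7,nat_lit 6,nat_lit 6,nat_lit 3,nat_lit 8,nat_lit 6,nat_lit 6,nat_lit 4,nat_lit 4,nat_lit 6,nat_lit 6,nat_lit 13,nat_lit 3,nat_lit 13,nat_lit 4,nat_lit 7,nat_lit 7,nat_lit 13,nat_lit 4,nat_lit 4,nat_lit 8,nat_lit 8,nat_lit 15,nat_lit 0,nat_lit 0]))))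
 (.node (.node (.node (.leaf [nat_lit 10,nat_lit 5,nat_lit 8,nat_lit 5,nat_lit 7,nat_lit 5,nat_lit 5,nat_lit 8,nat_lit 4,nat_lit 7,nat_lit 3,nat_lit 4,nat_lit 8,nat_lit 8,nat_lit 3,nat_lit 3,nat_lit 6,nat_lit 7,nat_lit 7])
 (.leaf [nat_lit 0,nat_lit 0,nat_lit 3,nat_lit 3,nat_lit 14,nat_lit 3,nat_lit 15,nat_lit 12,nat_lit 10,nat_lit 9,nat_lit 13,nat_lit 8,nat_lit 3,nat_lit 3,nat_lit 15,nat_lit 5,nat_lit 7,nat_lit 13,nat_lit 3,nat_lit 5,nat_lit 5,nat_lit 15,nat_lit 8,nat_lit 8,nat_lit 0,nat_lit 0,nat_lit 13,nat_lit 13,nat_lit 0,nat_lit 4,nat_lit 3,nat_lit 3,nat_lit 0,nat_lit 15,nat_lit 5,nat_lit 7,nat_lit 6,nat_lit 6,nat_lit 3,nat_lit 8,nat_lit 6,nat_lit 6,nat_lit 4,nat_lit 4,nat_lit 6,nat_lit 6,nat_lit 13,nat_lit 3,nat_lit 13,nat_lit 4,nat_lit 7,nat_lit 7,nat_lit 13,nat_lit 4,nat_lit 4,nat_lit 8,nat_lit 8,nat_lit 15,nat_lit 0,nat_lit 0]))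
 (.node (.leaf [nat_lit 0,nat_lit 9,nat_lit 2,nat_lit 4,nat_lit 2,nat_lit 2,nat_lit 15,nat_lit 15,nat_lit 11,nat_lit 15,nat_lit 3,nat_lit 3,nat_lit 4,nat_lit 7,nat_lit 13,nat_lit 8,nat_lit 8,nat_lit 3,nat_lit 3,nat_lit 6,nat_lit 7,nat_lit 7,nat_lit 12,nat_lit 12,nat_lit 0,nat_lit 14,nat_lit 14,nat_lit 7,nat_lit 7,nat_lit 14,nat_lit 8,nat_lit 14,nat_lit 8,nat_lit 13,nat_lit 6,nat_lit 7,nat_lit 7,nat_lit 15,nat_lit 14,nat_lit 15,nat_lit 3,nat_lit 3,nat_lit 0,nat_lit 13,nat_lit 12,nat_lit 13,nat_lit 7,nat_lit 6,nat_lit 4,nat_lit 4,nat_lit 7,nat_lit 15,nat_lit 2,nat_lit 2,nat_lit 12,nat_lit 4,nat_lit 4,nat_lit 14,nat_lit 2,nat_lit 12,nat_lit 13,nat_lit 0,nat_lit 0,nat_lit 1,nat_lit 15,nat_lit 14])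
 (.leaf [nat_lit 10,nat_lit 1,nat_lit 2,nat_lit 12,nat_lit 12,nat_lit 13,nat_lit 4,nat_lit 4,nat_lit 15,nat_lit 14,nat_lit 15,nat_lit 6,nat_lit 6,nat_lit 3,nat_lit 3,nat_lit 8,nat_lit 5,nat_lit 8,nat_lit 8,nat_lit 13,nat_lit 7,nat_lit 7,nat_lit 15,nat_lit 5,nat_lit 5,nat_lit 3,nat_lit 13,nat_lit 7,nat_lit 7,nat_lit 5,nat_lit 5,nat_lit 13,nat_lit 3,nat_lit 3,nat_lit 0,nat_lit 15,nat_lit 5,nat_lit 12,nat_lit 13,nat_lit 1,nat_lit 1,nat_lit 0,nat_lit 15,nat_lit 14,nat_lit 2,nat_lit 2,nat_lit 12,nat_lit 4,nat_lit 14,nat_lit 2,nat_lit 13,nat_lit 7,nat_lit 7,nat_lit 4,nat_lit 6,nat_lit 15])))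
 (.node (.node (.leaf [nat_lit 9,nat_lit 0,nat_lit 4,nat_lit 2,nat_lit 2,nat_lit 14,nat_lit 4,nat_lit 12,nat_lit 2,nat_lit 7,nat_lit 7,nat_lit 15,nat_lit 5,nat_lit 5,nat_lit 6,nat_lit 6,nat_lit 0,nat_lit 0,nat_lit 3,nat_lit 13,nat_lit 5,nat_lit 13,nat_lit 3,nat_lit 5,nat_lit 13,nat_lit 3,nat_lit 5,nat_lit 5,nat_lit 15,nat_lit 7,nat_lit 7,nat_lit 3,nat_lit 3,nat_lit 6,nat_lit 13,nat_lit 13,nat_lit 0,nat_lit 0,nat_lit 3,nat_lit 15,nat_lit 5])
 (.leaf [nat_lit 1,nat_lit 0,nat_lit 5,nat_lit 14,nat_lit 1,nat_lit 1,nat_lit 12,nat_lit 9,nat_lit 10,nat_lit 12,nat_lit 2,nat_lit 2,nat_lit 1,nat_lit 1,nat_lit 14,nat_lit 8,nat_lit 4,nat_lit 4,nat_lit 1,nat_lit 3,nat_lit 10,nat_lit 14,nat_lit 0,nat_lit 0,nat_lit 15,nat_lit 15,nat_lit 0,nat_lit 13,nat_lit 12,nat_lit 3,nat_lit 3,nat_lit 14,nat_lit 15,nat_lit 8,nat_lit 8,nat_lit 13,nat_lit 2,nat_lit 2,nat_lit 10,nat_lit 10,nat_lit 11]))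
 (.node (.leaf [nat_lit 9,nat_lit 3,nat_lit 10,nat_lit 15,nat_lit 1,nat_lit 1,nat_lit 15,nat_lit 5,nat_lit 10,nat_lit 13,nat_lit 8,nat_lit 8,nat_lit 0,nat_lit 0,nat_lit 5,nat_lit 15,nat_lit 5,nat_lit 1,nat_lit 1,nat_lit 15,nat_lit 12,nat_lit 0,nat_lit 3,nat_lit 12,nat_lit 12,nat_lit 0,nat_lit 14,nat_lit 14,nat_lit 0,nat_lit 0,nat_lit 14,nat_lit 3,nat_lit 13,nat_lit 1,nat_lit 6,nat_lit 6,nat_lit 3,nat_lit 7,nat_lit 8,nat_lit 5,nat_lit 5,nat_lit 13,nat_lit 0,nat_lit 0,nat_lit 3,nat_lit 0,nat_lit 0,nat_lit 3,nat_lit 15,nat_lit 5])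
 (.leaf [nat_lit 9,nat_lit 0,nat_lit 11,nat_lit 2,nat_lit 13,nat_lit 2,nat_lit 2,nat_lit 15,nat_lit 10,nat_lit 11,nat_lit 6,nat_lit 5,nat_lit 6,nat_lit 3,nat_lit 0,nat_lit 0,nat_lit 15,nat_lit 15,nat_lit 0,nat_lit 7,nat_lit 7,nat_lit 14,nat_lit 4,nat_lit 4,nat_lit 14,nat_lit 13,nat_lit 4,nat_lit 13,nat_lit 14,nat_lit 9,nat_lit 3,nat_lit 7,nat_lit 3,nat_lit 3,nat_lit 6,nat_lit 7,nat_lit 7,nat_lit 5,nat_lit 5,nat_lit 13,nat_lit 3,nat_lit 3,nat_lit 0,nat_lit 15,nat_lit 5,nat_lit 6,nat_lit 6,nat_lit 3,nat_lit 7,nat_lit 8])))))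
 (.node (.node (.node (.node (.leaf [nat_lit 8,nat_lit 10,nat_lit 13,nat_lit 1,nat_lit 0,nat_lit 0,nat_lit 12,nat_lit 0,nat_lit 4,nat_lit 14,nat_lit 0,nat_lit 13,nat_lit 7,nat_lit 7,nat_lit 0,nat_lit 6,nat_lit 15,nat_lit 7,nat_lit 7,nat_lit 15,nat_lit 15,nat_lit 7,nat_lit 15,nat_lit 5,nat_lit 5,nat_lit 0,nat_lit 0,nat_lit 13,nat_lit 6,nat_lit 13,nat_lit 3,nat_lit 3,nat_lit 0,nat_lit 15,nat_lit 5,nat_lit 6,nat_lit 6,nat_lit 3,nat_lit 7,nat_lit 8,nat_lit 5,nat_lit 5,nat_lit 13,nat_lit 0,nat_lit 0,nat_lit 3,nat_lit 15,nat_lit 5,nat_lit 0,nat_lit 13,nat_lit 8,nat_lit 4,nat_lit 15,nat_lit 7,nat_lit 4,nat_lit 4,nat_lit 15,nat_lit 3,nat_lit 3,nat_lit 15,nat_lit 6,nat_lit 4,nat_lit 6,nat_lit 8,nat_lit 8,nat_lit 3,nat_lit 3,nat_lit 6,nat_lit 7,nat_lit 7])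
 (.leaf [nat_lit 9,nat_lit 15,nat_lit 2,nat_lit 2,nat_lit 12,nat_lit 5,nat_lit 6,nat_lit 15,nat_lit 11,nat_lit 13,nat_lit 7,nat_lit 6,nat_lit 6,nat_lit 15,nat_lit 14,nat_lit 15,nat_lit 3,nat_lit 3,nat_lit 0,nat_lit 13,nat_lit 12,nat_lit 2,nat_lit 2,nat_lit 7,nat_lit 7,nat_lit 1,nat_lit 1,nat_lit 3,nat_lit 14,nat_lit 0,nat_lit 0,nat_lit 14,nat_lit 7,nat_lit 5,nat_lit 13,nat_lit 6,nat_lit 7,nat_lit 7,nat_lit 15,nat_lit 14,nat_lit 15,nat_lit 3,nat_lit 3,nat_lit 0,nat_lit 13,nat_lit 12,nat_lit 13,nat_lit 7,nat_lit 6,nat_lit 6,nat_lit 15]))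
 (.node (.leaf [nat_lit 9,nat_lit 0,nat_lit 4,nat_lit 12,nat_lit 0,nat_lit 15,nat_lit 2,nat_lit 15,nat_lit 7,nat_lit 3,nat_lit 8,nat_lit 15,nat_lit 15,nat_lit 7,nat_lit 7,nat_lit 3,nat_lit 15,nat_lit 0,nat_lit 0,nat_lit 8,nat_lit 8,nat_lit 15,nat_lit 5,nat_lit 5,nat_lit 13,nat_lit 0,nat_lit 4,nat_lit 15,nat_lit 5,nat_lit 13,nat_lit 6,nat_lit 7,nat_lit 7,nat_lit 15,nat_lit 14,nat_lit 15,nat_lit 3,nat_lit 3,nat_lit 0,nat_lit 13,nat_lit 12,nat_lit 13,nat_lit 7,nat_lit 6,nat_lit 6,nat_lit 15,nat_lit 5,nat_lit 5,nat_lit 13,nat_lit 0,nat_lit 0,nat_lit 3,nat_lit 15,nat_lit 5])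
 (.leaf [nat_lit 7,nat_lit 9,nat_lit 3,nat_lit 9,nat_lit 1,nat_lit 1,nat_lit 15,nat_lit 1,nat_lit 1,nat_lit 6,nat_lit 8,nat_lit 11,nat_lit 13,nat_lit 13,nat_lit 1,nat_lit 1,nat_lit 4,nat_lit 6,nat_lit 8,nat_lit 1,nat_lit 13,nat_lit 13,nat_lit 4,nat_lit 4,nat_lit 12,nat_lit 8,nat_lit 8,nat_lit 0,nat_lit 6,nat_lit 15,nat_lit 5,nat_lit 1,nat_lit 14,nat_lit 9,nat_lit 13,nat_lit 7,nat_lit 7,nat_lit 0,nat_lit 6,nat_lit 15,nat_lit 5,nat_lit 5,nat_lit 13,nat_lit 0,nat_lit 0,nat_lit 3,nat_lit 15,nat_lit 5])))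
 (.node (.node (.leaf [nat_lit 9,nat_lit 1,nat_lit 4,nat_lit 13,nat_lit 13,nat_lit 2,nat_lit 2,nat_lit 14,nat_lit 15,nat_lit 10,nat_lit 1,nat_lit 10,nat_lit 10,nat_lit 10,nat_lit 10,nat_lit 10,nat_lit 10,nat_lit 10,nat_lit 10,nat_lit 14,nat_lit 8,nat_lit 8,nat_lit 12,nat_lit 10,nat_lit 14,nat_lit 7,nat_lit 7,nat_lit 0,nat_lit 12,nat_lit 8,nat_lit 6,nat_lit 4,nat_lit 6,nat_lit 12,nat_lit 13,nat_lit 1,nat_lit 1,nat_lit 0,nat_lit 15,nat_lit 14,nat_lit 2,nat_lit 2,nat_lit 12,nat_lit 4,nat_lit 14,nat_lit 2,nat_lit 13,nat_lit 7,nat_lit 7,nat_lit 4,nat_lit 6,nat_lit 15])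
 (.leaf [nat_lit 5,nat_lit 14,nat_lit 13,nat_lit 9,nat_lit 15,nat_lit 12,nat_lit 1,nat_lit 5,nat_lit 5,nat_lit 4,nat_lit 4,nat_lit 1,nat_lit 1,nat_lit 12,nat_lit 0,nat_lit 3,nat_lit 3,nat_lit 15,nat_lit 5,nat_lit 7,nat_lit 13,nat_lit 3,nat_lit 14,nat_lit 15,nat_lit 0,nat_lit 0,nat_lit 3,nat_lit 13,nat_lit 12,nat_lit 6,nat_lit 6,nat_lit 3,nat_lit 7,nat_lit 3,nat_lit 3,nat_lit 6,nat_lit 7,nat_lit 7,nat_lit 5,nat_lit 5,nat_lit 13,nat_lit 3,nat_lit 3,nat_lit 0,nat_lit 15,nat_lit 5,nat_lit 6,nat_lit 6,nat_lit 3,nat_lit 7,nat_lit 8]))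
 (.node (.leaf [nat_lit 11,nat_lit 1,nat_lit 8,nat_lit 5,nat_lit 12,nat_lit 5,nat_lit 5,nat_lit 14,nat_lit 13,nat_lit 1,nat_lit 7,nat_lit 14,nat_lit 13,nat_lit 0,nat_lit 0,nat_lit 14,nat_lit 15,nat_lit 12,nat_lit 13,nat_lit 7,nat_lit 7,nat_lit 13,nat_lit 13,nat_lit 7,nat_lit 3,nat_lit 3,nat_lit 15,nat_lit 0,nat_lit 0,nat_lit 13,nat_lit 3,nat_lit 7,nat_lit 7,nat_lit 15,nat_lit 15,nat_lit 7,nat_lit 15,nat_lit 5,nat_lit 5,nat_lit 13,nat_lit 3,nat_lit 3,nat_lit 0,nat_lit 15,nat_lit 5,nat_lit 6,nat_lit 6,nat_lit 3,nat_lit 7,nat_lit 8,nat_lit 5,nat_lit 5,nat_lit 13,nat_lit 0,nat_lit 0,nat_lit 3,nat_lit 15,nat_lit 5])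
 (.leaf [nat_lit 3,nat_lit 0,nat_lit 11,nat_lit 14,nat_lit 6,nat_lit 6,nat_lit 14,nat_lit 13,nat_lit 11,nat_lit 5,nat_lit 15,nat_lit 8,nat_lit 8,nat_lit 13,nat_lit 7,nat_lit 7,nat_lit 15,nat_lit 15,nat_lit 7,nat_lit 15,nat_lit 5,nat_lit 5,nat_lit 0,nat_lit 0,nat_lit 13,nat_lit 6,nat_lit 5,nat_lit 8,nat_lit 8,nat_lit 3,nat_lit 3,nat_lit 6,nat_lit 7,nat_lit 7]))))
 (.node (.node (.node (.leaf [nat_lit 0,nat_lit 1,nat_lit 11,nat_lit 14,nat_lit 7,nat_lit 7,nat_lit 12,nat_lit 2,nat_lit 2,nat_lit 12,nat_lit 11,nat_lit 6,nat_lit 4,nat_lit 4,nat_lit 7,nat_lit 7,nat_lit 3,nat_lit 10,nat_lit 11,nat_lit 2,nat_lit 13,nat_lit 13,nat_lit 3,nat_lit 3,nat_lit 15,nat_lit 3,nat_lit 3,nat_lit 0,nat_lit 15,nat_lit 0,nat_lit 15,nat_lit 6,nat_lit 6,nat_lit 3,nat_lit 7,nat_lit 8,nat_lit 0,nat_lit 13,nat_lit 8,nat_lit 4,nat_lit 15,nat_lit 7,nat_lit 4,nat_lit 4,nat_lit 15,nat_lit 3,nat_lit 3,nat_lit 15,nat_lit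 6,nat_lit 4,nat_lit 6,nat_lit 8,nat_lit 8,nat_lit 3,nat_lit 3,nat_lit 6,nat_lit 7,nat_lit 7])
 (.leaf [nat_lit 12,nat_lit 9,nat_lit 12,nat_lit 1,nat_lit 15,nat_lit 9,nat_lit 15,nat_lit 5,nat_lit 5,nat_lit 6,nat_lit 3,nat_lit 5,nat_lit 5,nat_lit 0,nat_lit 0,nat_lit 15,nat_lit 6,nat_lit 13,nat_lit 5,nat_lit 5,nat_lit 13,nat_lit 0,nat_lit 0,nat_lit 3,nat_lit 15,nat_lit 5,nat_lit 8,nat_lit 8,nat_lit 3,nat_lit 3,nat_lit 6,nat_lit 7,nat_lit 7,nat_lit 5,nat_lit 5,nat_lit 13,nat_lit 3,nat_lit 3,nat_lit 0,nat_lit 15,nat_lit 5,nat_lit 13,nat_lit 6,nat_lit 6,nat_lit 4,nat_lit 4,nat_lit 7,nat_lit 15,nat_lit 2,nat_lit 2,nat_lit 12,nat_lit 4,nat_lit 4,nat_lit 14,nat_lit 2,nat_lit 12,nat_lit 13,nat_lit 0,nat_lit 0,nat_lit 1,nat_lit 15,nat_lit 14]))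
 (.node (.leaf [nat_lit 0,nat_lit 2,nat_lit 12,nat_lit 5,nat_lit 12,nat_lit 12,nat_lit 1,nat_lit 1,nat_lit 14,nat_lit 6,nat_lit 10,nat_lit 15,nat_lit 15,nat_lit 6,nat_lit 15,nat_lit 3,nat_lit 3,nat_lit 15,nat_lit 3,nat_lit 3,nat_lit 0,nat_lit 15,nat_lit 0,nat_lit 15,nat_lit 8,nat_lit 8,nat_lit 3,nat_lit 3,nat_lit 6,nat_lit 7,nat_lit 7,nat_lit 5,nat_lit 5,nat_lit 13,nat_lit 0,nat_lit 0,nat_lit 3,nat_lit 15,nat_lit 5,nat_lit 0,nat_lit 13,nat_lit 8,nat_lit 4,nat_lit 15,nat_lit 7,nat_lit 4,nat_lit 4,nat_lit 15,nat_lit 3,nat_lit 3,nat_lit 15,nat_lit 6,nat_lit 4,nat_lit 6,nat_lit 8,nat_lit 8,nat_lit 3,nat_lit 3,nat_lit 6,nat_lit 7,nat_lit 7])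
 (.leaf [nat_lit 11,nat_lit 2,nat_lit 12,nat_lit 6,nat_lit 5,nat_lit 5,nat_lit 15,nat_lit 1,nat_lit 1,nat_lit 2,nat_lit 12,nat_lit 12,nat_lit 12,nat_lit 12,nat_lit 0,nat_lit 14,nat_lit 14,nat_lit 13,nat_lit 14,nat_lit 2,nat_lit 2,nat_lit 5,nat_lit 12,nat_lit 15,nat_lit 0,nat_lit 0,nat_lit 15,nat_lit 0,nat_lit 1,nat_lit 15,nat_lit 6,nat_lit 15,nat_lit 9,nat_lit 9,nat_lit 9,nat_lit 9,nat_lit 9,nat_lit 9,nat_lit 9,nat_lit 9,nat_lit 6,nat_lit 12,nat_lit 8,nat_lit 6,nat_lit 6,nat_lit 3,nat_lit 7,nat_lit 8,nat_lit 5,nat_lit 5,nat_lit 13,nat_lit 0,nat_lit 0,nat_lit 3,nat_lit 0,nat_lit 0,nat_lit 3,nat_lit 15,nat_lit 5])))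
 (.node (.node (.leaf [nat_lit 0,nat_lit 12,nat_lit 6,nat_lit 11,nat_lit 7,nat_lit 7,nat_lit 12,nat_lit 5,nat_lit 5,nat_lit 11,nat_lit 15,nat_lit 10,nat_lit 4,nat_lit 4,nat_lit 7,nat_lit 7,nat_lit 3,nat_lit 10,nat_lit 11,nat_lit 2,nat_lit 13,nat_lit 5,nat_lit 5,nat_lit 15,nat_lit 8,nat_lit 8,nat_lit 0,nat_lit 0,nat_lit 13,nat_lit 13,nat_lit 0,nat_lit 4,nat_lit 0,nat_lit 0,nat_lit 3,nat_lit 15,nat_lit 5,nat_lit 6,nat_lit 6,nat_lit 3,nat_lit 7,nat_lit 8,nat_lit 5,nat_lit 5,nat_lit 13,nat_lit 0,nat_lit 0,nat_lit 3,nat_lit 15,nat_lit 5])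
 (.leaf [nat_lit 10,nat_lit 0,nat_lit 3,nat_lit 8,nat_lit 0,nat_lit 13,nat_lit 0,nat_lit 2,nat_lit 14,nat_lit 9,nat_lit 3,nat_lit 3,nat_lit 15,nat_lit 5,nat_lit 5,nat_lit 14,nat_lit 7,nat_lit 12,nat_lit 7,nat_lit 7,nat_lit 5,nat_lit 15,nat_lit 8,nat_lit 15,nat_lit 5,nat_lit 5,nat_lit 6,nat_lit 3,nat_lit 5,nat_lit 5,nat_lit 0,nat_lit 0,nat_lit 15,nat_lit 6,nat_lit 13,nat_lit 5,nat_lit 5,nat_lit 13,nat_lit 3,nat_lit 3,nat_lit 0,nat_lit 15,nat_lit 5]))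
 (.leaf [nat_lit 9,nat_lit 0,nat_lit 15,nat_lit 6,nat_lit 13,nat_lit 2,nat_lit 8,nat_lit 8,nat_lit 3,nat_lit 12,nat_lit 0,nat_lit 6,nat_lit 7,nat_lit 15,nat_lit 6,nat_lit 13,nat_lit 7,nat_lit 14,nat_lit 15,nat_lit 0,nat_lit 0,nat_lit 3,nat_lit 13,nat_lit 12,nat_lit 12,nat_lit 13,nat_lit 1,nat_lit 1,nat_lit 0,nat_lit 15,nat_lit 14,nat_lit 2,nat_lit 2,nat_lit 12,nat_lit 4,nat_lit 14,nat_lit 2,nat_lit 13,nat_lit 7,nat_lit 7,nat_lit 4,nat_lit 6,nat_lit 15])))))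
 (.node (.node (.node (.node (.node (.leaf [nat_lit 5,nat_lit 1,nat_lit 3,nat_lit 3,nat_lit 8,nat_lit 8,nat_lit 13,nat_lit 6,nat_lit 6,nat_lit 0,nat_lit 11,nat_lit 5,nat_lit 1,nat_lit 14,nat_lit 9,nat_lit 1,nat_lit 14,nat_lit 4,nat_lit 10,nat_lit 6,nat_lit 0,nat_lit 0,nat_lit 15,nat_lit 15,nat_lit 0,nat_lit 13,nat_lit 12,nat_lit 3,nat_lit 3,nat_lit 14,nat_lit 15,nat_lit 8,nat_lit 8,nat_lit 13,nat_lit 2,nat_lit 2,nat_lit 10,nat_lit 10,nat_lit 11,nat_lit 6,nat_lit 6,nat_lit 3,nat_lit 7,nat_lit 8,nat_lit 4,nat_lit 6,nat_lit 6,nat_lit 8,nat_lit 4,nat_lit 4,nat_lit 5,nat_lit 5,nat_lit 1,nat_lit 1,nat_lit 14,nat_lit 0,nat_lit 0,nat_lit 8,nat_lit 12,nat_lit 1,nat_lit 5,nat_lit 6])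
 (.leaf [nat_lit 2,nat_lit 15,nat_lit 12,nat_lit 8,nat_lit 8,nat_lit 0,nat_lit 9,nat_lit 14,nat_lit 8,nat_lit 8,nat_lit 14,nat_lit 4,nat_lit 4,nat_lit 6,nat_lit 15,nat_lit 0,nat_lit 6,nat_lit 12,nat_lit 0,nat_lit 15,nat_lit 6,nat_lit 8,nat_lit 5,nat_lit 5,nat_lit 13,nat_lit 3,nat_lit 3,nat_lit 0,nat_lit 3,nat_lit 3,nat_lit 0,nat_lit 15,nat_lit 5,nat_lit 6,nat_lit 6,nat_lit 13,nat_lit 13,nat_lit 3,nat_lit 3,nat_lit 5,nat_lit 13,nat_lit 4,nat_lit 6,nat_lit 15,nat_lit 8,nat_lit 8,nat_lit 13,nat_lit 5,nat_lit 5,nat_lit 15,nat_lit 8,nat_lit 8,nat_lit 0,nat_lit 0,nat_lit 13,nat_lit 5]))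
 (.node (.leaf [nat_lit 9,nat_lit 8,nat_lit 1,nat_lit 2,nat_lit 2,nat_lit 7,nat_lit 3,nat_lit 13,nat_lit 14,nat_lit 15,nat_lit 0,nat_lit 0,nat_lit 13,nat_lit 12,nat_lit 15,nat_lit 0,nat_lit 0,nat_lit 2,nat_lit 10,nat_lit 0,nat_lit 1,nat_lit 10,nat_lit 8,nat_lit 4,nat_lit 8,nat_lit 0,nat_lit 0,nat_lit 15,nat_lit 15,nat_lit 0,nat_lit 13,nat_lit 12,nat_lit 3,nat_lit 3,nat_lit 14,nat_lit 15,nat_lit 8,nat_lit 8,nat_lit 13,nat_lit 2,nat_lit 2,nat_lit 10,nat_lit 10,nat_lit 11,nat_lit 5,nat_lit 5,nat_lit 13,nat_lit 3,nat_lit 3,nat_lit 0,nat_lit 15,nat_lit 5])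
 (.leaf [nat_lit 8,nat_lit 0,nat_lit 4,nat_lit 4,nat_lit 3,nat_lit 3,nat_lit 15,nat_lit 12,nat_lit 12,nat_lit 15,nat_lit 7,nat_lit 5,nat_lit 5,nat_lit 15,nat_lit 7,nat_lit 7,nat_lit 3,nat_lit 3,nat_lit 6,nat_lit 13,nat_lit 13,nat_lit 0,nat_lit 0,nat_lit 3,nat_lit 15,nat_lit 5,nat_lit 6,nat_lit 6,nat_lit 3,nat_lit 7,nat_lit 8,nat_lit 5,nat_lit 5,nat_lit 13,nat_lit 0,nat_lit 0,nat_lit 3,nat_lit 15,nat_lit 5,nat_lit 13,nat_lit 6,nat_lit 6,nat_lit 4,nat_lit 4,nat_lit 7,nat_lit 15,nat_lit 2,nat_lit 2,nat_lit 12,nat_lit 4,nat_lit 4,nat_lit 14,nat_lit 2,nat_lit 12,nat_lit 13,nat_lit 0,nat_lit 0,nat_lit 1,nat_lit 15,nat_lit 14])))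
 (.node (.node (.leaf [nat_lit 11,nat_lit 6,nat_lit 12,nat_lit 7,nat_lit 13,nat_lit 7,nat_lit 7,nat_lit 2,nat_lit 2,nat_lit 0,nat_lit 4,nat_lit 9,nat_lit 15,nat_lit 5,nat_lit 15,nat_lit 0,nat_lit 5,nat_lit 6,nat_lit 8,nat_lit 8,nat_lit 3,nat_lit 3,nat_lit 6,nat_lit 7,nat_lit 7,nat_lit 13,nat_lit 6,nat_lit 7,nat_lit 7,nat_lit 15,nat_lit 14,nat_lit 15,nat_lit 3,nat_lit 3,nat_lit 0,nat_lit 13,nat_lit 12,nat_lit 13,nat_lit 7,nat_lit 6,nat_lit 6,nat_lit 15,nat_lit 0,nat_lit 13,nat_lit 8,nat_lit 4,nat_lit 15,nat_lit 7,nat_lit 4,nat_lit 4,nat_lit 15,nat_lit 3,nat_lit 3,nat_lit 15,nat_lit 6,nat_lit 4,nat_lit 6,nat_lit 8,nat_lit 8,nat_lit 3,nat_lit 3,nat_lit 6,nat_lit 7,nat_lit 7])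
 (.leaf [nat_lit 1,nat_lit 5,nat_lit 5,nat_lit 13,nat_lit 4,nat_lit 4,nat_lit 12,nat_lit 4,nat_lit 5,nat_lit 5,nat_lit 15,nat_lit 7,nat_lit 7,nat_lit 12,nat_lit 12,nat_lit 5,nat_lit 5,nat_lit 8,nat_lit 8,nat_lit 2,nat_lit 2,nat_lit 9,nat_lit 7,nat_lit 14,nat_lit 14,nat_lit 15,nat_lit 0,nat_lit 0,nat_lit 3,nat_lit 13,nat_lit 12,nat_lit 7,nat_lit 6,nat_lit 6,nat_lit 3,nat_lit 8,nat_lit 6,nat_lit 6,nat_lit 4,nat_lit 4,nat_lit 6,nat_lit 6,nat_lit 13,nat_lit 3,nat_lit 13,nat_lit 4,nat_lit 7,nat_lit 7,nat_lit 13,nat_lit 4,nat_lit 4,nat_lit 8,nat_lit 8,nat_lit 15,nat_lit 0,nat_lit 0]))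
 (.node (.leaf [nat_lit 11,nat_lit 0,nat_lit 10,nat_lit 13,nat_lit 12,nat_lit 4,nat_lit 4,nat_lit 9,nat_lit 9,nat_lit 9,nat_lit 9,nat_lit 9,nat_lit 9,nat_lit 9,nat_lit 9,nat_lit 7,nat_lit 10,nat_lit 13,nat_lit 7,nat_lit 7,nat_lit 0,nat_lit 0,nat_lit 15,nat_lit 6,nat_lit 7,nat_lit 15,nat_lit 5,nat_lit 5,nat_lit 6,nat_lit 3,nat_lit 5,nat_lit 5,nat_lit 0,nat_lit 0,nat_lit 15,nat_lit 6,nat_lit 13,nat_lit 8,nat_lit 8,nat_lit 3,nat_lit 3,nat_lit 6,nat_lit 7,nat_lit 7,nat_lit 5,nat_lit 5,nat_lit 13,nat_lit 3,nat_lit 3,nat_lit 0,nat_lit 15,nat_lit 5,nat_lit 6,nat_lit 6,nat_lit 13,nat_lit 13,nat_lit 3,nat_lit 3,nat_lit 5,nat_lit 13,nat_lit 4,nat_lit 6,nat_lit 15,nat_lit 8,nat_lit 8,nat_lit 13,nat_lit 5,nat_lit 5,nat_lit 15,nat_lit 8,nat_lit 8,nat_lit 0,nat_lit 0,nat_lit 13,nat_lit 5])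
 (.leaf [nat_lit 9,nat_lit 2,nat_lit 7,nat_lit 2,nat_lit 1,nat_lit 1,nat_lit 13,nat_lit 2,nat_lit 2,nat_lit 14,nat_lit 14,nat_lit 0,nat_lit 14,nat_lit 0,nat_lit 0,nat_lit 7,nat_lit 3,nat_lit 3,nat_lit 5,nat_lit 8,nat_lit 12,nat_lit 5,nat_lit 5,nat_lit 15,nat_lit 8,nat_lit 8,nat_lit 0,nat_lit 0,nat_lit 13,nat_lit 5,nat_lit 6,nat_lit 6,nat_lit 3,nat_lit 7,nat_lit 8,nat_lit 12,nat_lit 13,nat_lit 1,nat_lit 1,nat_lit 0,nat_lit 15,nat_lit 14,nat_lit 2,nat_lit 2,nat_lit 12,nat_lit 4,nat_lit 14,nat_lit 2,nat_lit 13,nat_lit 7,nat_lit 7,nat_lit 4,nat_lit 6,nat_lit 15]))))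
 (.node (.node (.node (.leaf [nat_lit 5,nat_lit 1,nat_lit 7,nat_lit 7,nat_lit 2,nat_lit 12,nat_lit 10,nat_lit 3,nat_lit 9,nat_lit 14,nat_lit 6,nat_lit 6,nat_lit 0,nat_lit 0,nat_lit 5,nat_lit 0,nat_lit 0,nat_lit 7,nat_lit 12,nat_lit 6,nat_lit 6,nat_lit 3,nat_lit 7,nat_lit 8,nat_lit 5,nat_lit 5,nat_lit 13,nat_lit 0,nat_lit 4,nat_lit 15,nat_lit 5,nat_lit 6,nat_lit 6,nat_lit 13,nat_lit 13,nat_lit 3,nat_lit 3,nat_lit 5,nat_lit 13,nat_lit 4,nat_lit 6,nat_lit 15,nat_lit 8,nat_lit 8,nat_lit 13,nat_lit 5,nat_lit 5,nat_lit 15,nat_lit 8,nat_lit 8,nat_lit 0,nat_lit 0,nat_lit 13,nat_lit 5])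
 (.leaf [nat_lit 1,nat_lit 0,nat_lit 1,nat_lit 7,nat_lit 10,nat_lit 10,nat_lit 10,nat_lit 10,nat_lit 10,nat_lit 10,nat_lit 10,nat_lit 10,nat_lit 15,nat_lit 15,nat_lit 12,nat_lit 15,nat_lit 14,nat_lit 13,nat_lit 0,nat_lit 0,nat_lit 14,nat_lit 15,nat_lit 12,nat_lit 5,nat_lit 5,nat_lit 13,nat_lit 3,nat_lit 3,nat_lit 0,nat_lit 15,nat_lit 5,nat_lit 8,nat_lit 8,nat_lit 3,nat_lit 3,nat_lit 6,nat_lit 7,nat_lit 7,nat_lit 5,nat_lit 5,nat_lit 13,nat_lit 3,nat_lit 3,nat_lit 0,nat_lit 15,nat_lit 5]))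
 (.node (.leaf [nat_lit 9,nat_lit 7,nat_lit 15,nat_lit 12,nat_lit 8,nat_lit 8,nat_lit 0,nat_lit 14,nat_lit 11,nat_lit 15,nat_lit 15,nat_lit 12,nat_lit 5,nat_lit 5,nat_lit 6,nat_lit 6,nat_lit 13,nat_lit 13,nat_lit 13,nat_lit 0,nat_lit 4,nat_lit 9,nat_lit 13,nat_lit 7,nat_lit 7,nat_lit 15,nat_lit 15,nat_lit 7,nat_lit 15,nat_lit 5,nat_lit 5,nat_lit 0,nat_lit 0,nat_lit 13,nat_lit 6,nat_lit 5,nat_lit 6,nat_lit 6,nat_lit 3,nat_lit 7,nat_lit 8])
 (.leaf [nat_lit 12,nat_lit 8,nat_lit 3,nat_lit 10,nat_lit 2,nat_lit 2,nat_lit 1,nat_lit 1,nat_lit 15,nat_lit 0,nat_lit 11,nat_lit 6,nat_lit 6,nat_lit 15,nat_lit 3,nat_lit 14,nat_lit 15,nat_lit 0,nat_lit 0,nat_lit 3,nat_lit 13,nat_lit 12,nat_lit 13,nat_lit 13,nat_lit 6,nat_lit 6,nat_lit 13,nat_lit 13,nat_lit 4,nat_lit 4,nat_lit 5,nat_lit 5,nat_lit 13,nat_lit 0,nat_lit 7,nat_lit 5,nat_lit 5,nat_lit 13,nat_lit 3,nat_lit 3,nat_lit 0,nat_lit 15,nat_lit 5])))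
 (.node (.node (.leaf [nat_lit 10,nat_lit 5,nat_lit 7,nat_lit 15,nat_lit 14,nat_lit 15,nat_lit 7,nat_lit 7,nat_lit 14,nat_lit 4,nat_lit 15,nat_lit 14,nat_lit 15,nat_lit 0,nat_lit 13,nat_lit 12,nat_lit 11,nat_lit 11,nat_lit 11,nat_lit 11,nat_lit 11,nat_lit 11,nat_lit 11,nat_lit 11,nat_lit 13,nat_lit 13,nat_lit 13,nat_lit 1,nat_lit 15,nat_lit 2,nat_lit 6,nat_lit 6,nat_lit 15,nat_lit 3,nat_lit 7,nat_lit 15,nat_lit 6,nat_lit 13,nat_lit 7,nat_lit 8,nat_lit 8,nat_lit 3,nat_lit 3,nat_lit 6,nat_lit 7,nat_lit 7,nat_lit 5,nat_lit 5,nat_lit 13,nat_lit 0,nat_lit 0,nat_lit 3,nat_lit 15,nat_lit 5,nat_lit 6,nat_lit 6,nat_lit 3,nat_lit 7,nat_lit 8])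
 (.leaf [nat_lit 6,nat_lit 7,nat_lit 13,nat_lit 2,nat_lit 11,nat_lit 3,nat_lit 8,nat_lit 15,nat_lit 5,nat_lit 1,nat_lit 14,nat_lit 9,nat_lit 1,nat_lit 14,nat_lit 4,nat_lit 10,nat_lit 6,nat_lit 13,nat_lit 3,nat_lit 3,nat_lit 15,nat_lit 3,nat_lit 3,nat_lit 0,nat_lit 15,nat_lit 0,nat_lit 15,nat_lit 8,nat_lit 8,nat_lit 3,nat_lit 3,nat_lit 6,nat_lit 7,nat_lit 7,nat_lit 13,nat_lit 6,nat_lit 6,nat_lit 4,nat_lit 4,nat_lit 7,nat_lit 15,nat_lit 2,nat_lit 2,nat_lit 12,nat_lit 4,nat_lit 4,nat_lit 14,nat_lit 2,nat_lit 12,nat_lit 13,nat_lit 0,nat_lit 0,nat_lit 1,nat_lit 15,nat_lit 14]))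
 (.leaf [nat_lit 9,nat_lit 1,nat_lit 11,nat_lit 12,nat_lit 15,nat_lit 3,nat_lit 3,nat_lit 4,nat_lit 13,nat_lit 14,nat_lit 15,nat_lit 3,nat_lit 3,nat_lit 4,nat_lit 7,nat_lit 13,nat_lit 4,nat_lit 7,nat_lit 3,nat_lit 4,nat_lit 8,nat_lit 8,nat_lit 3,nat_lit 3,nat_lit 6,nat_lit 7,nat_lit 7]))))
 (.node (.node (.node (.node (.leaf [nat_lit 0,nat_lit 1,nat_lit 1,nat_lit 2,nat_lit 12,nat_lit 7,nat_lit 12,nat_lit 11,nat_lit 14,nat_lit 8,nat_lit 8,nat_lit 15,nat_lit 6,nat_lit 6,nat_lit 7,nat_lit 4,nat_lit 4,nat_lit 0,nat_lit 13,nat_lit 8,nat_lit 15,nat_lit 3,nat_lit 3,nat_lit 4,nat_lit 7,nat_lit 13,nat_lit 8,nat_lit 8,nat_lit 3,nat_lit 3,nat_lit 6,nat_lit 7,nat_lit 7,nat_lit 5,nat_lit 5,nat_lit 13,nat_lit 3,nat_lit 3,nat_lit 0,nat_lit 15,nat_lit 5])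
 (.leaf [nat_lit 9,nat_lit 0,nat_lit 0,nat_lit 3,nat_lit 13,nat_lit 8,nat_lit 15,nat_lit 4,nat_lit 14,nat_lit 15,nat_lit 3,nat_lit 3,nat_lit 0,nat_lit 13,nat_lit 12,nat_lit 5,nat_lit 5,nat_lit 13,nat_lit 0,nat_lit 0,nat_lit 3,nat_lit 15,nat_lit 5]))
 (.node (.leaf [nat_lit 9,nat_lit 6,nat_lit 11,nat_lit 11,nat_lit 11,nat_lit 11,nat_lit 11,nat_lit 11,nat_lit 11,nat_lit 11,nat_lit 0,nat_lit 0,nat_lit 6,nat_lit 15,nat_lit 8,nat_lit 5,nat_lit 5,nat_lit 15,nat_lit 8,nat_lit 13,nat_lit 5,nat_lit 6,nat_lit 6,nat_lit 3,nat_lit 7,nat_lit 8])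
 (.leaf [nat_lit 9,nat_lit 0,nat_lit 1,nat_lit 3,nat_lit 13,nat_lit 5,nat_lit 5,nat_lit 8,nat_lit 8,nat_lit 10,nat_lit 15,nat_lit 14,nat_lit 2,nat_lit 2,nat_lit 13,nat_lit 2,nat_lit 2,nat_lit 15,nat_lit 14,nat_lit 5,nat_lit 5,nat_lit 12,nat_lit 13,nat_lit 0,nat_lit 0,nat_lit 8,nat_lit 13,nat_lit 3,nat_lit 13,nat_lit 3,nat_lit 3,nat_lit 15,nat_lit 4,nat_lit 4,nat_lit 0,nat_lit 0,nat_lit 15,nat_lit 15,nat_lit 5,nat_lit 5,nat_lit 13,nat_lit 0,nat_lit 0,nat_lit 3,nat_lit 15,nat_lit 5,nat_lit 8,nat_lit 8,nat_lit 3,nat_lit 3,nat_lit 6,nat_lit 7,nat_lit 7,nat_lit 5,nat_lit 5,nat_lit 13,nat_lit 3,nat_lit 3,nat_lit 0,nat_lit 15,nat_lit 5])))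
 (.node (.node (.leaf [nat_lit 12,nat_lit 13,nat_lit 1,nat_lit 8,nat_lit 6,nat_lit 3,nat_lit 13,nat_lit 14,nat_lit 1,nat_lit 1,nat_lit 4,nat_lit 0,nat_lit 12,nat_lit 15,nat_lit 12,nat_lit 15,nat_lit 3,nat_lit 3,nat_lit 15,nat_lit 12,nat_lit 2,nat_lit 6,nat_lit 9,nat_lit 9,nat_lit 8,nat_lit 8,nat_lit 3,nat_lit 3,nat_lit 6,nat_lit 7,nat_lit 7,nat_lit 12,nat_lit 12,nat_lit 0,nat_lit 14,nat_lit 14,nat_lit 7,nat_lit 7,nat_lit 14,nat_lit 8,nat_lit 14,nat_lit 3,nat_lit 3,nat_lit 6,nat_lit 7,nat_lit 7,nat_lit 5,nat_lit 5,nat_lit 13,nat_lit 0,nat_lit 0,nat_lit 3,nat_lit 15,nat_lit 5,nat_lit 6,nat_lit 6,nat_lit 3,nat_lit 7,nat_lit 8])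
 (.leaf [nat_lit 0,nat_lit 7,nat_lit 15,nat_lit 5,nat_lit 15,nat_lit 14,nat_lit 5,nat_lit 13,nat_lit 14,nat_lit 6,nat_lit 6,nat_lit 5,nat_lit 14,nat_lit 13,nat_lit 6,nat_lit 12,nat_lit 15,nat_lit 10,nat_lit 8,nat_lit 6,nat_lit 4,nat_lit 14,nat_lit 15,nat_lit 3,nat_lit 3,nat_lit 0,nat_lit 13,nat_lit 12,nat_lit 5,nat_lit 5,nat_lit 13,nat_lit 3,nat_lit 3,nat_lit 0,nat_lit 15,nat_lit 5,nat_lit 8,nat_lit 8,nat_lit 3,nat_lit 3,nat_lit 6,nat_lit 7,nat_lit 7,nat_lit 5,nat_lit 5,nat_lit 13,nat_lit 3,nat_lit 3,nat_lit 0,nat_lit 15,nat_lit 5,nat_lit 6,nat_lit 6,nat_lit 3,nat_lit 7,nat_lit 8]))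
 (.node (.leaf [nat_lit 0,nat_lit 1,nat_lit 5,nat_lit 11,nat_lit 15,nat_lit 9,nat_lit 9,nat_lit 9,nat_lit 9,nat_lit 9,nat_lit 9,nat_lit 9,nat_lit 9,nat_lit 12,nat_lit 10,nat_lit 14,nat_lit 15,nat_lit 4,nat_lit 4,nat_lit 12,nat_lit 4,nat_lit 14,nat_lit 7,nat_lit 7,nat_lit 3,nat_lit 3,nat_lit 11,nat_lit 9,nat_lit 9,nat_lit 2,nat_lit 2,nat_lit 13,nat_lit 5,nat_lit 5,nat_lit 3,nat_lit 15,nat_lit 2,nat_lit 4,nat_lit 4,nat_lit 14,nat_lit 4,nat_lit 13,nat_lit 13,nat_lit 1,nat_lit 1,nat_lit 4,nat_lit 6,nat_lit 8,nat_lit 1,nat_lit 13,nat_lit 13,nat_lit 6,nat_lit 6,nat_lit 3,nat_lit 7,nat_lit 8])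
 (.leaf [nat_lit 9,nat_lit 0,nat_lit 9,nat_lit 8,nat_lit 2,nat_lit 2,nat_lit 13,nat_lit 2,nat_lit 15,nat_lit 2,nat_lit 5,nat_lit 13,nat_lit 8,nat_lit 13,nat_lit 3,nat_lit 8,nat_lit 8,nat_lit 3,nat_lit 3,nat_lit 6,nat_lit 7,nat_lit 7,nat_lit 5,nat_lit 5,nat_lit 13,nat_lit 3,nat_lit 3,nat_lit 0,nat_lit 15,nat_lit 5,nat_lit 6,nat_lit 6,nat_lit 3,nat_lit 7,nat_lit 8]))))
 (.node (.node (.node (.leaf [nat_lit 0,nat_lit 11,nat_lit 7,nat_lit 12,nat_lit 6,nat_lit 6,nat_lit 5,nat_lit 5,nat_lit 11,nat_lit 13,nat_lit 2,nat_lit 3,nat_lit 3,nat_lit 8,nat_lit 8,nat_lit 15,nat_lit 15,nat_lit 4,nat_lit 7,nat_lit 13,nat_lit 3,nat_lit 15,nat_lit 1,nat_lit 1,nat_lit 14,nat_lit 5,nat_lit 12,nat_lit 1,nat_lit 5,nat_lit 5,nat_lit 15,nat_lit 1,nat_lit 1,nat_lit 7,nat_lit 14,nat_lit 13,nat_lit 1,nat_lit 1,nat_lit 0,nat_lit 15,nat_lit 14,nat_lit 2,nat_lit 2,nat_lit 12,nat_lit 4,nat_lit 14,nat_lit 2,nat_lit 13,nat_lit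 7,nat_lit 7,nat_lit 4,nat_lit 6,nat_lit 15])
 (.leaf [nat_lit 11,nat_lit 2,nat_lit 11,nat_lit 4,nat_lit 8,nat_lit 8,nat_lit 3,nat_lit 3,nat_lit 14,nat_lit 6,nat_lit 12,nat_lit 13,nat_lit 4,nat_lit 4,nat_lit 1,nat_lit 1,nat_lit 7,nat_lit 7,nat_lit 1,nat_lit 6,nat_lit 0,nat_lit 4,nat_lit 15,nat_lit 7,nat_lit 7,nat_lit 13,nat_lit 2,nat_lit 2,nat_lit 0,nat_lit 0,nat_lit 6,nat_lit 13,nat_lit 3,nat_lit 3,nat_lit 15,nat_lit 2,nat_lit 13,nat_lit 3,nat_lit 5,nat_lit 5,nat_lit 13,nat_lit 3,nat_lit 3,nat_lit 0,nat_lit 15,nat_lit 5,nat_lit 13,nat_lit 6,nat_lit 6,nat_lit 4,nat_lit 4,nat_lit 7,nat_lit 15,nat_lit 2,nat_lit 2,nat_lit 12,nat_lit 4,nat_lit 4,nat_lit 14,nat_lit 2,nat_lit 12,nat_lit 13,nat_lit 0,nat_lit 0,nat_lit 1,nat_lit 15,nat_lit 14]))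
 (.node (.leaf [nat_lit 12,nat_lit 10,nat_lit 4,nat_lit 4,nat_lit 1,nat_lit 1,nat_lit 10,nat_lit 14,nat_lit 3,nat_lit 0,nat_lit 0,nat_lit 15,nat_lit 0,nat_lit 8,nat_lit 8,nat_lit 15,nat_lit 4,nat_lit 4,nat_lit 0,nat_lit 13,nat_lit 8,nat_lit 15,nat_lit 3,nat_lit 3,nat_lit 4,nat_lit 7,nat_lit 13,nat_lit 5,nat_lit 5,nat_lit 13,nat_lit 3,nat_lit 3,nat_lit 0,nat_lit 15,nat_lit 5,nat_lit 12,nat_lit 13,nat_lit 1,nat_lit 1,nat_lit 0,nat_lit 15,nat_lit 14,nat_lit 2,nat_lit 2,nat_lit 12,nat_lit 4,nat_lit 14,nat_lit 2,nat_lit 13,nat_lit 7,nat_lit 7,nat_lit 4,nat_lit 6,nat_lit 15])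
 (.leaf [nat_lit 9,nat_lit 0,nat_lit 1,nat_lit 14,nat_lit 8,nat_lit 6,nat_lit 6,nat_lit 12,nat_lit 6,nat_lit 6,nat_lit 1,nat_lit 7,nat_lit 11,nat_lit 15,nat_lit 12,nat_lit 13,nat_lit 12,nat_lit 1,nat_lit 1,nat_lit 3,nat_lit 3,nat_lit 1,nat_lit 1,nat_lit 0,nat_lit 0,nat_lit 12,nat_lit 13,nat_lit 5,nat_lit 15,nat_lit 3,nat_lit 3,nat_lit 0,nat_lit 6,nat_lit 5,nat_lit 13,nat_lit 7,nat_lit 15,nat_lit 14,nat_lit 2,nat_lit 2,nat_lit 0,nat_lit 9,nat_lit 9,nat_lit 5,nat_lit 12,nat_lit 1,nat_lit 15,nat_lit 8,nat_lit 5,nat_lit 5,nat_lit 13,nat_lit 0,nat_lit 0,nat_lit 3,nat_lit 15,nat_lit 5])))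
 (.node (.node (.leaf [nat_lit 3,nat_lit 6,nat_lit 10,nat_lit 10,nat_lit 7,nat_lit 7,nat_lit 15,nat_lit 0,nat_lit 3,nat_lit 14,nat_lit 13,nat_lit 12,nat_lit 5,nat_lit 5,nat_lit 7,nat_lit 7,nat_lit 14,nat_lit 2,nat_lit 2,nat_lit 15,nat_lit 15,nat_lit 2,nat_lit 11,nat_lit 1,nat_lit 5,nat_lit 5,nat_lit 13,nat_lit 0,nat_lit 0,nat_lit 3,nat_lit 15,nat_lit 5])
 (.leaf [nat_lit 9,nat_lit 8,nat_lit 12,nat_lit 0,nat_lit 12,nat_lit 2,nat_lit 1,nat_lit 1,nat_lit 8,nat_lit 5,nat_lit 5,nat_lit 3,nat_lit 3,nat_lit 14,nat_lit 6,nat_lit 3,nat_lit 3,nat_lit 0,nat_lit 0,nat_lit 13,nat_lit 0,nat_lit 14,nat_lit 0,nat_lit 0,nat_lit 15,nat_lit 0,nat_lit 13,nat_lit 14,nat_lit 0,nat_lit 12,nat_lit 15,nat_lit 6,nat_lit 6,nat_lit 4,nat_lit 4,nat_lit 1,nat_lit 1,nat_lit 0,nat_lit 3,nat_lit 12,nat_lit 0,nat_lit 6,nat_lit 6,nat_lit 3,nat_lit 7,nat_lit 8]))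
 (.leaf [nat_lit 9,nat_lit 0,nat_lit 11,nat_lit 12,nat_lit 15,nat_lit 10,nat_lit 10,nat_lit 10,nat_lit 10,nat_lit 10,nat_lit 10,nat_lit 10,nat_lit 10,nat_lit 13,nat_lit 6,nat_lit 12,nat_lit 13,nat_lit 0,nat_lit 3,nat_lit 4,nat_lit 0,nat_lit 4,nat_lit 15,nat_lit 4,nat_lit 4,nat_lit 12,nat_lit 4,nat_lit 4,nat_lit 12,nat_lit 0,nat_lit 5,nat_lit 5,nat_lit 15,nat_lit 3,nat_lit 3,nat_lit 0,nat_lit 13,nat_lit 12,nat_lit 3,nat_lit 3,nat_lit 15,nat_lit 4,nat_lit 4,nat_lit 13,nat_lit 3,nat_lit 5,nat_lit 5,nat_lit 2,nat_lit 2,nat_lit 0,nat_lit 0,nat_lit 11,nat_lit 10,nat_lit 13]))))))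
 (.node (.node (.node (.node (.node (.node (.leaf [nat_lit 12,nat_lit 2,nat_lit 4,nat_lit 5,nat_lit 3,nat_lit 12,nat_lit 8,nat_lit 14,nat_lit 14,nat_lit 5,nat_lit 3,nat_lit 6,nat_lit 12,nat_lit 6,nat_lit 6,nat_lit 15,nat_lit 3,nat_lit 8,nat_lit 8,nat_lit 5,nat_lit 7,nat_lit 7,nat_lit 6,nat_lit 6,nat_lit 4,nat_lit 4,nat_lit 15,nat_lit 5,nat_lit 5,nat_lit 6,nat_lit 15,nat_lit 7,nat_lit 13,nat_lit 0,nat_lit 0,nat_lit 3,nat_lit 15,nat_lit 5,nat_lit 12,nat_lit 13,nat_lit 1,nat_lit 1,nat_lit 0,nat_lit 15,nat_lit 14,nat_lit 2,nat_lit 2,nat_lit 12,nat_lit 4,nat_lit 14,nat_lit 2,nat_lit 13,nat_lit 7,nat_lit 7,nat_lit 4,nat_lit 6,nat_lit 15])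
 (.leaf [nat_lit 9,nat_lit 5,nat_lit 8,nat_lit 5,nat_lit 15,nat_lit 14,nat_lit 6,nat_lit 9,nat_lit 3,nat_lit 3,nat_lit 13,nat_lit 6,nat_lit 2,nat_lit 2,nat_lit 7,nat_lit 7,nat_lit 1,nat_lit 1,nat_lit 3,nat_lit 14,nat_lit 0,nat_lit 0,nat_lit 14,nat_lit 7,nat_lit 13,nat_lit 3,nat_lit 3,nat_lit 0,nat_lit 15,nat_lit 5,nat_lit 0,nat_lit 13,nat_lit 8,nat_lit 4,nat_lit 15,nat_lit 7,nat_lit 4,nat_lit 4,nat_lit 15,nat_lit 3,nat_lit 3,nat_lit 15,nat_lit 6,nat_lit 4,nat_lit 6,nat_lit 8,nat_lit 8,nat_lit 3,nat_lit 3,nat_lit 6,nat_lit 7,nat_lit 7]))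
 (.node (.leaf [nat_lit 9,nat_lit 7,nat_lit 4,nat_lit 12,nat_lit 0,nat_lit 14,nat_lit 14,nat_lit 13,nat_lit 7,nat_lit 7,nat_lit 12,nat_lit 13,nat_lit 12,nat_lit 12,nat_lit 1,nat_lit 1,nat_lit 2,nat_lit 9,nat_lit 6,nat_lit 6,nat_lit 4,nat_lit 9,nat_lit 12,nat_lit 1,nat_lit 1,nat_lit 0,nat_lit 0,nat_lit 6,nat_lit 13,nat_lit 5,nat_lit 5,nat_lit 13,nat_lit 3,nat_lit 3,nat_lit 0,nat_lit 15,nat_lit 5,nat_lit 8,nat_lit 8,nat_lit 3,nat_lit 3,nat_lit 6,nat_lit 7,nat_lit 7,nat_lit 5,nat_lit 5,nat_lit 13,nat_lit 0,nat_lit 0,nat_lit 3,nat_lit 15,nat_lit 5,nat_lit 6,nat_lit 6,nat_lit 3,nat_lit 7,nat_lit 8])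
 (.leaf [nat_lit 9,nat_lit 13,nat_lit 11,nat_lit 12,nat_lit 15,nat_lit 3,nat_lit 3,nat_lit 10,nat_lit 12,nat_lit 2,nat_lit 5,nat_lit 15,nat_lit 7,nat_lit 6,nat_lit 8,nat_lit 3,nat_lit 3,nat_lit 13,nat_lit 7,nat_lit 7,nat_lit 4,nat_lit 5,nat_lit 6,nat_lit 6,nat_lit 4,nat_lit 4,nat_lit 15,nat_lit 5,nat_lit 5,nat_lit 13,nat_lit 13,nat_lit 4,nat_lit 8,nat_lit 3,nat_lit 0,nat_lit 13,nat_lit 8,nat_lit 4,nat_lit 15,nat_lit 7,nat_lit 4,nat_lit 4,nat_lit 15,nat_lit 3,nat_lit 3,nat_lit 15,nat_lit 6,nat_lit 4,nat_lit 6,nat_lit 8,nat_lit 8,nat_lit 3,nat_lit 3,nat_lit 6,nat_lit 7,nat_lit 7])))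
 (.node (.node (.leaf [nat_lit 4,nat_lit 8,nat_lit 3,nat_lit 3,nat_lit 7,nat_lit 14,nat_lit 11,nat_lit 14,nat_lit 13,nat_lit 12,nat_lit 0,nat_lit 0,nat_lit 15,nat_lit 15,nat_lit 0,nat_lit 12,nat_lit 12,nat_lit 0,nat_lit 14,nat_lit 14,nat_lit 7,nat_lit 7,nat_lit 14,nat_lit 8,nat_lit 14,nat_lit 8,nat_lit 5,nat_lit 5,nat_lit 15,nat_lit 0,nat_lit 8,nat_lit 13,nat_lit 13,nat_lit 0,nat_lit 4,nat_lit 15,nat_lit 5,nat_lit 14,nat_lit 15,nat_lit 0,nat_lit 0,nat_lit 3,nat_lit 13,nat_lit 12,nat_lit 8,nat_lit 6,nat_lit 4,nat_lit 6,nat_lit 0,nat_lit 13,nat_lit 8,nat_lit 4,nat_lit 15,nat_lit 7,nat_lit 4,nat_lit 4,nat_lit 15,nat_lit 3,nat_lit 3,nat_lit 15,nat_lit 6,nat_lit 4,nat_lit 6,nat_lit 8,nat_lit 8,nat_lit 3,nat_lit 3,nat_lit 6,nat_lit 7,nat_lit 7])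
 (.leaf [nat_lit 9,nat_lit 4,nat_lit 15,nat_lit 2,nat_lit 2,nat_lit 14,nat_lit 0,nat_lit 3,nat_lit 12,nat_lit 2,nat_lit 14,nat_lit 0,nat_lit 0,nat_lit 7,nat_lit 3,nat_lit 3,nat_lit 5,nat_lit 8,nat_lit 12,nat_lit 15,nat_lit 8,nat_lit 8,nat_lit 13,nat_lit 7,nat_lit 7,nat_lit 15,nat_lit 5,nat_lit 5,nat_lit 3,nat_lit 13,nat_lit 7,nat_lit 7,nat_lit 6,nat_lit 6,nat_lit 4,nat_lit 4,nat_lit 6,nat_lit 6,nat_lit 13,nat_lit 3,nat_lit 13,nat_lit 4,nat_lit 7,nat_lit 7,nat_lit 13,nat_lit 4,nat_lit 4,nat_lit 8,nat_lit 8,nat_lit 15,nat_lit 0,nat_lit 0]))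
 (.node (.leaf [nat_lit 9,nat_lit 4,nat_lit 15,nat_lit 6,nat_lit 15,nat_lit 6,nat_lit 12,nat_lit 11,nat_lit 3,nat_lit 12,nat_lit 13,nat_lit 4,nat_lit 4,nat_lit 15,nat_lit 14,nat_lit 5,nat_lit 5,nat_lit 2,nat_lit 2,nat_lit 14,nat_lit 9,nat_lit 12,nat_lit 3,nat_lit 3,nat_lit 15,nat_lit 7,nat_lit 7,nat_lit 5,nat_lit 5,nat_lit 13,nat_lit 3,nat_lit 7,nat_lit 7,nat_lit 0,nat_lit 0,nat_lit 15,nat_lit 5,nat_lit 4])
 (.leaf [nat_lit 12,nat_lit 11,nat_lit 2,nat_lit 8,nat_lit 15,nat_lit 0,nat_lit 2,nat_lit 2,nat_lit 13,nat_lit 13,nat_lit 7,nat_lit 7,nat_lit 4,nat_lit 6,nat_lit 15,nat_lit 6,nat_lit 6,nat_lit 15,nat_lit 15,nat_lit 8,nat_lit 8,nat_lit 15,nat_lit 5,nat_lit 5,nat_lit 13,nat_lit 8,nat_lit 8,nat_lit 15,nat_lit 3,nat_lit 4,nat_lit 12,nat_lit 13,nat_lit 1,nat_lit 1,nat_lit 0,nat_lit 15,nat_lit 14,nat_lit 2,nat_lit 2,nat_lit 12,nat_lit 4,nat_lit 14,nat_lit 2,nat_lit 13,nat_lit 7,nat_lit 7,nat_lit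 4,nat_lit 6,nat_lit 15]))))
 (.node (.node (.node (.leaf [nat_lit 10,nat_lit 9,nat_lit 4,nat_lit 5,nat_lit 8,nat_lit 8,nat_lit 12,nat_lit 0,nat_lit 0,nat_lit 2,nat_lit 9,nat_lit 10,nat_lit 7,nat_lit 13,nat_lit 4,nat_lit 4,nat_lit 8,nat_lit 15,nat_lit 3,nat_lit 4,nat_lit 13,nat_lit 7,nat_lit 7,nat_lit 15,nat_lit 4,nat_lit 4,nat_lit 3,nat_lit 3,nat_lit 4,nat_lit 5,nat_lit 13,nat_lit 8,nat_lit 8,nat_lit 3,nat_lit 3,nat_lit 6,nat_lit 7,nat_lit 7,nat_lit 5,nat_lit 5,nat_lit 13,nat_lit 3,nat_lit 3,nat_lit 0,nat_lit 15,nat_lit 5])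
 (.leaf [nat_lit 9,nat_lit 2,nat_lit 5,nat_lit 12,nat_lit 7,nat_lit 7,nat_lit 14,nat_lit 7,nat_lit 6,nat_lit 3,nat_lit 13,nat_lit 7,nat_lit 13,nat_lit 4,nat_lit 4,nat_lit 3,nat_lit 3,nat_lit 13,nat_lit 6,nat_lit 4,nat_lit 4,nat_lit 13,nat_lit 0,nat_lit 0,nat_lit 13,nat_lit 4,nat_lit 13,nat_lit 0,nat_lit 13,nat_lit 8,nat_lit 4,nat_lit 15,nat_lit 7,nat_lit 4,nat_lit 4,nat_lit 15,nat_lit 3,nat_lit 3,nat_lit 15,nat_lit 6,nat_lit 4,nat_lit 6,nat_lit 8,nat_lit 8,nat_lit 3,nat_lit 3,nat_lit 6,nat_lit 7,nat_lit 7]))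
 (.node (.leaf [nat_lit 9,nat_lit 0,nat_lit 3,nat_lit 14,nat_lit 5,nat_lit 5,nat_lit 6,nat_lit 6,nat_lit 12,nat_lit 2,nat_lit 11,nat_lit 0,nat_lit 0,nat_lit 15,nat_lit 15,nat_lit 0,nat_lit 2,nat_lit 2,nat_lit 13,nat_lit 5,nat_lit 5,nat_lit 3,nat_lit 15,nat_lit 2,nat_lit 4,nat_lit 4,nat_lit 14,nat_lit 4,nat_lit 13,nat_lit 13,nat_lit 1,nat_lit 1,nat_lit 4,nat_lit 6,nat_lit 8,nat_lit 1,nat_lit 13,nat_lit 13,nat_lit 8,nat_lit 8,nat_lit 3,nat_lit 3,nat_lit 6,nat_lit 7,nat_lit 7,nat_lit 5,nat_lit 5,nat_lit 13,nat_lit 3,nat_lit 3,nat_lit 0,nat_lit 15,nat_lit 5])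
 (.leaf [nat_lit 9,nat_lit 12,nat_lit 2,nat_lit 15,nat_lit 5,nat_lit 13,nat_lit 12,nat_lit 2,nat_lit 12,nat_lit 6,nat_lit 6,nat_lit 12,nat_lit 0,nat_lit 0,nat_lit 6,nat_lit 4,nat_lit 4,nat_lit 5,nat_lit 5,nat_lit 7,nat_lit 14,nat_lit 6,nat_lit 4,nat_lit 4,nat_lit 12,nat_lit 8,nat_lit 8,nat_lit 0,nat_lit 6,nat_lit 15,nat_lit 5,nat_lit 1,nat_lit 14,nat_lit 9,nat_lit 13,nat_lit 7,nat_lit 7,nat_lit 0,nat_lit 6,nat_lit 15,nat_lit 6,nat_lit 6,nat_lit 3,nat_lit 7,nat_lit 8,nat_lit 5,nat_lit 5,nat_lit 13,nat_lit 0,nat_lit 0,nat_lit 3,nat_lit 0,nat_lit 0,nat_lit 3,nat_lit 15,nat_lit 5])))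
 (.node (.node (.leaf [nat_lit 2,nat_lit 5,nat_lit 9,nat_lit 7,nat_lit 0,nat_lit 0,nat_lit 8,nat_lit 2,nat_lit 10,nat_lit 13,nat_lit 13,nat_lit 7,nat_lit 6,nat_lit 6,nat_lit 3,nat_lit 3,nat_lit 0,nat_lit 4,nat_lit 15,nat_lit 6,nat_lit 6,nat_lit 13,nat_lit 7,nat_lit 7,nat_lit 0,nat_lit 0,nat_lit 15,nat_lit 6,nat_lit 8,nat_lit 8,nat_lit 3,nat_lit 3,nat_lit 6,nat_lit 7,nat_lit 7,nat_lit 5,nat_lit 5,nat_lit 13,nat_lit 0,nat_lit 0,nat_lit 3,nat_lit 15,nat_lit 5,nat_lit 6,nat_lit 6,nat_lit 3,nat_lit 7,nat_lit 8])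
 (.leaf [nat_lit 9,nat_lit 9,nat_lit 15,nat_lit 1,nat_lit 12,nat_lit 6,nat_lit 6,nat_lit 12,nat_lit 15,nat_lit 2,nat_lit 12,nat_lit 1,nat_lit 10,nat_lit 10,nat_lit 8,nat_lit 8,nat_lit 12,nat_lit 1,nat_lit 2,nat_lit 14,nat_lit 5,nat_lit 5,nat_lit 15,nat_lit 8,nat_lit 8,nat_lit 0,nat_lit 0,nat_lit 13,nat_lit 5,nat_lit 7,nat_lit 6,nat_lit 6,nat_lit 3,nat_lit 8,nat_lit 6,nat_lit 6,nat_lit 4,nat_lit 4,nat_lit 6,nat_lit 6,nat_lit 13,nat_lit 3,nat_lit 13,nat_lit 4,nat_lit 7,nat_lit 7,nat_lit 13,nat_lit 4,nat_lit 4,nat_lit 8,nat_lit 8,nat_lit 15,nat_lit 0,nat_lit 0]))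
 (.leaf [nat_lit 9,nat_lit 6,nat_lit 13,nat_lit 1,nat_lit 12,nat_lit 12,nat_lit 1,nat_lit 1,nat_lit 4,nat_lit 14,nat_lit 14,nat_lit 7,nat_lit 1,nat_lit 1,nat_lit 14,nat_lit 3,nat_lit 8,nat_lit 13,nat_lit 14,nat_lit 3,nat_lit 3,nat_lit 12,nat_lit 15,nat_lit 14,nat_lit 15,nat_lit 5,nat_lit 13,nat_lit 3,nat_lit 3,nat_lit 0,nat_lit 15,nat_lit 5,nat_lit 5,nat_lit 13,nat_lit 12,nat_lit 4,nat_lit 7,nat_lit 3,nat_lit 4,nat_lit 12,nat_lit 13,nat_lit 1,nat_lit 1,nat_lit 0,nat_lit 15,nat_lit 14,nat_lit 2,nat_lit 2,nat_lit 12,nat_lit 4,nat_lit 14,nat_lit 2,nat_lit 13,nat_lit 7,nat_lit 7,nat_lit 4,nat_lit 6,nat_lit 15]))))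
 (.node (.node (.node (.node (.leaf [nat_lit 1,nat_lit 0,nat_lit 10,nat_lit 3,nat_lit 14,nat_lit 1,nat_lit 1,nat_lit 12,nat_lit 9,nat_lit 10,nat_lit 7,nat_lit 5,nat_lit 5,nat_lit 8,nat_lit 8,nat_lit 6,nat_lit 4,nat_lit 6])
 (.leaf [nat_lit 10,nat_lit 12,nat_lit 2,nat_lit 7,nat_lit 7,nat_lit 13,nat_lit 11,nat_lit 14,nat_lit 13,nat_lit 13,nat_lit 1,nat_lit 1,nat_lit 4,nat_lit 6,nat_lit 8,nat_lit 1,nat_lit 13,nat_lit 13,nat_lit 13,nat_lit 7,nat_lit 7,nat_lit 13,nat_lit 13,nat_lit 7,nat_lit 3,nat_lit 3,nat_lit 15,nat_lit 0,nat_lit 0,nat_lit 13,nat_lit 3,nat_lit 7,nat_lit 7,nat_lit 15,nat_lit 15,nat_lit 7,nat_lit 15,nat_lit 5,nat_lit 5,nat_lit 13,nat_lit 0,nat_lit 0,nat_lit 3,nat_lit 15,nat_lit 5]))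
 (.node (.leaf [nat_lit 9,nat_lit 14,nat_lit 0,nat_lit 0,nat_lit 7,nat_lit 7,nat_lit 15,nat_lit 9,nat_lit 5,nat_lit 4,nat_lit 5,nat_lit 10,nat_lit 5,nat_lit 5,nat_lit 13,nat_lit 8,nat_lit 13,nat_lit 3,nat_lit 0,nat_lit 0,nat_lit 15,nat_lit 0,nat_lit 13,nat_lit 14,nat_lit 0,nat_lit 12,nat_lit 15,nat_lit 6,nat_lit 6,nat_lit 4,nat_lit 4,nat_lit 1,nat_lit 1,nat_lit 0,nat_lit 3,nat_lit 12,nat_lit 0,nat_lit 6,nat_lit 6,nat_lit 3,nat_lit 7,nat_lit 8])
 (.leaf [nat_lit 9,nat_lit 12,nat_lit 8,nat_lit 10,nat_lit 6,nat_lit 13,nat_lit 9,nat_lit 5,nat_lit 4,nat_lit 3,nat_lit 3,nat_lit 15,nat_lit 5,nat_lit 5,nat_lit 3,nat_lit 3,nat_lit 15,nat_lit 5,nat_lit 5,nat_lit 13,nat_lit 0,nat_lit 0,nat_lit 1,nat_lit 15,nat_lit 14,nat_lit 0,nat_lit 4,nat_lit 10,nat_lit 14,nat_lit 15,nat_lit 3,nat_lit 3,nat_lit 0,nat_lit 13,nat_lit 12,nat_lit 5,nat_lit 5,nat_lit 13,nat_lit 0,nat_lit 0,nat_lit 3,nat_lit 15,nat_lit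 5,nat_lit 12,nat_lit 13,nat_lit 1,nat_lit 1,nat_lit 0,nat_lit 15,nat_lit 14,nat_lit 2,nat_lit 2,nat_lit 12,nat_lit 4,nat_lit 14,nat_lit 2,nat_lit 13,nat_lit 7,nat_lit 7,nat_lit 4,nat_lit 6,nat_lit 15])))
 (.node (.node (.leaf [nat_lit 7,nat_lit 7,nat_lit 13,nat_lit 9,nat_lit 13,nat_lit 8,nat_lit 10,nat_lit 15,nat_lit 12,nat_lit 3,nat_lit 0,nat_lit 0,nat_lit 15,nat_lit 15,nat_lit 0,nat_lit 15,nat_lit 5,nat_lit 5,nat_lit 6,nat_lit 3,nat_lit 5,nat_lit 5,nat_lit 0,nat_lit 0,nat_lit 15,nat_lit 6,nat_lit 13,nat_lit 5,nat_lit 5,nat_lit 13,nat_lit 0,nat_lit 0,nat_lit 3,nat_lit 15,nat_lit 5])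
 (.leaf [nat_lit 9,nat_lit 4,nat_lit 8,nat_lit 12,nat_lit 12,nat_lit 0,nat_lit 13,nat_lit 1,nat_lit 12,nat_lit 1,nat_lit 13,nat_lit 7,nat_lit 7,nat_lit 0,nat_lit 0,nat_lit 3,nat_lit 6,nat_lit 15,nat_lit 6,nat_lit 6,nat_lit 3,nat_lit 7,nat_lit 8]))
 (.node (.leaf [nat_lit 9,nat_lit 1,nat_lit 7,nat_lit 2,nat_lit 2,nat_lit 15,nat_lit 14,nat_lit 1,nat_lit 1,nat_lit 13,nat_lit 0,nat_lit 0,nat_lit 13,nat_lit 8,nat_lit 0,nat_lit 13,nat_lit 11,nat_lit 7,nat_lit 13,nat_lit 4,nat_lit 4,nat_lit 5,nat_lit 5,nat_lit 13,nat_lit 0,nat_lit 0,nat_lit 3,nat_lit 15,nat_lit 5,nat_lit 8,nat_lit 8,nat_lit 3,nat_lit 3,nat_lit 6,nat_lit 7,nat_lit 7])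
 (.leaf [nat_lit 9,nat_lit 13,nat_lit 8,nat_lit 8,nat_lit 12,nat_lit 6,nat_lit 6,nat_lit 0,nat_lit 3,nat_lit 14,nat_lit 9,nat_lit 8,nat_lit 8,nat_lit 15,nat_lit 0,nat_lit 3,nat_lit 13,nat_lit 8,nat_lit 13,nat_lit 6,nat_lit 7,nat_lit 7,nat_lit 15,nat_lit 14,nat_lit 15,nat_lit 3,nat_lit 3,nat_lit 0,nat_lit 13,nat_lit 12,nat_lit 13,nat_lit 7,nat_lit 6,nat_lit 6,nat_lit 15,nat_lit 5,nat_lit 5,nat_lit 13,nat_lit 0,nat_lit 0,nat_lit 3,nat_lit 15,nat_lit 5]))))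
 (.node (.node (.node (.leaf [nat_lit 9,nat_lit 0,nat_lit 8,nat_lit 8,nat_lit 1,nat_lit 13,nat_lit 13,nat_lit 3,nat_lit 3,nat_lit 15,nat_lit 0,nat_lit 13,nat_lit 3,nat_lit 6,nat_lit 6,nat_lit 3,nat_lit 7,nat_lit 8,nat_lit 5,nat_lit 5,nat_lit 13,nat_lit 0,nat_lit 0,nat_lit 3,nat_lit 0,nat_lit 0,nat_lit 3,nat_lit 15,nat_lit 5])
 (.leaf [nat_lit 11,nat_lit 6,nat_lit 12,nat_lit 7,nat_lit 8,nat_lit 8,nat_lit 12,nat_lit 1,nat_lit 2,nat_lit 14,nat_lit 9,nat_lit 9,nat_lit 9,nat_lit 9,nat_lit 9,nat_lit 9,nat_lit 9,nat_lit 9,nat_lit 3,nat_lit 3,nat_lit 4,nat_lit 12,nat_lit 5,nat_lit 15,nat_lit 14,nat_lit 3,nat_lit 4,nat_lit 1,nat_lit 14,nat_lit 8,nat_lit 7,nat_lit 6,nat_lit 6,nat_lit 3,nat_lit 7,nat_lit 8,nat_lit 5,nat_lit 5,nat_lit 13,nat_lit 0,nat_lit 4,nat_lit 15,nat_lit 5,nat_lit 6,nat_lit 6,nat_lit 3,nat_lit 7,nat_lit 8,nat_lit 5,nat_lit 5,nat_lit 13,nat_lit 0,nat_lit 0,nat_lit 3,nat_lit 15,nat_lit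 5]))
 (.node (.leaf [nat_lit 9,nat_lit 12,nat_lit 2,nat_lit 2,nat_lit 12,nat_lit 5,nat_lit 5,nat_lit 14,nat_lit 13,nat_lit 1,nat_lit 7,nat_lit 6,nat_lit 6,nat_lit 12,nat_lit 0,nat_lit 0,nat_lit 6,nat_lit 5,nat_lit 5,nat_lit 15,nat_lit 6,nat_lit 14,nat_lit 14,nat_lit 4,nat_lit 7,nat_lit 3,nat_lit 4,nat_lit 5,nat_lit 5,nat_lit 13,nat_lit 3,nat_lit 3,nat_lit 0,nat_lit 15,nat_lit 5,nat_lit 6,nat_lit 6,nat_lit 3,nat_lit 7,nat_lit 8,nat_lit 5,nat_lit 5,nat_lit 13,nat_lit 0,nat_lit 0,nat_lit 3,nat_lit 15,nat_lit 5])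
 (.leaf [nat_lit 0,nat_lit 0,nat_lit 10,nat_lit 14,nat_lit 0,nat_lit 13,nat_lit 9,nat_lit 3,nat_lit 10,nat_lit 7,nat_lit 5,nat_lit 3,nat_lit 15,nat_lit 8,nat_lit 13,nat_lit 14,nat_lit 15,nat_lit 3,nat_lit 3,nat_lit 0,nat_lit 13,nat_lit 12,nat_lit 2,nat_lit 2,nat_lit 7,nat_lit 7,nat_lit 1,nat_lit 1,nat_lit 3,nat_lit 14,nat_lit 0,nat_lit 0,nat_lit 14,nat_lit 7,nat_lit 13,nat_lit 0,nat_lit 0,nat_lit 3,nat_lit 15,nat_lit 5,nat_lit 8,nat_lit 8,nat_lit 3,nat_lit 3,nat_lit 6,nat_lit 7,nat_lit 7])))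
 (.node (.node (.leaf [nat_lit 0,nat_lit 7,nat_lit 2,nat_lit 7,nat_lit 1,nat_lit 1,nat_lit 12,nat_lit 2,nat_lit 2,nat_lit 13,nat_lit 2,nat_lit 14,nat_lit 4,nat_lit 4,nat_lit 15,nat_lit 3,nat_lit 3,nat_lit 15,nat_lit 8,nat_lit 8,nat_lit 5,nat_lit 5,nat_lit 13,nat_lit 0,nat_lit 4,nat_lit 3,nat_lit 3,nat_lit 0,nat_lit 15,nat_lit 5,nat_lit 12,nat_lit 13,nat_lit 1,nat_lit 1,nat_lit 0,nat_lit 15,nat_lit 14,nat_lit 2,nat_lit 2,nat_lit 12,nat_lit 4,nat_lit 14,nat_lit 2,nat_lit 13,nat_lit 7,nat_lit 7,nat_lit 4,nat_lit 6,nat_lit 15])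
 (.leaf [nat_lit 11,nat_lit 9,nat_lit 14,nat_lit 5,nat_lit 12,nat_lit 7,nat_lit 12,nat_lit 11,nat_lit 14,nat_lit 8,nat_lit 15,nat_lit 3,nat_lit 4,nat_lit 13,nat_lit 7,nat_lit 7,nat_lit 15,nat_lit 0,nat_lit 6,nat_lit 13,nat_lit 5,nat_lit 5,nat_lit 13,nat_lit 0,nat_lit 0,nat_lit 3,nat_lit 15,nat_lit 4,nat_lit 4,nat_lit 0,nat_lit 0,nat_lit 15,nat_lit 15,nat_lit 7,nat_lit 4,nat_lit 6,nat_lit 6,nat_lit 8,nat_lit 4,nat_lit 4,nat_lit 5,nat_lit 5,nat_lit 1,nat_lit 1,nat_lit 14,nat_lit 0,nat_lit 0,nat_lit 8,nat_lit 12,nat_lit 1,nat_lit 5,nat_lit 6]))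
 (.leaf [nat_lit 10,nat_lit 10,nat_lit 8,nat_lit 10,nat_lit 0,nat_lit 0,nat_lit 7,nat_lit 9,nat_lit 15,nat_lit 7,nat_lit 0,nat_lit 0,nat_lit 15,nat_lit 0,nat_lit 14,nat_lit 6,nat_lit 6,nat_lit 4,nat_lit 9,nat_lit 12,nat_lit 1,nat_lit 1,nat_lit 0,nat_lit 0,nat_lit 6,nat_lit 13,nat_lit 13,nat_lit 6,nat_lit 7,nat_lit 7,nat_lit 15,nat_lit 14,nat_lit 15,nat_lit 3,nat_lit 3,nat_lit 0,nat_lit 13,nat_lit 12,nat_lit 13,nat_lit 7,nat_lit 6,nat_lit 6,nat_lit 15,nat_lit 8,nat_lit 8,nat_lit 3,nat_lit 3,nat_lit 6,nat_lit 7,nat_lit 7,nat_lit 5,nat_lit 5,nat_lit 13,nat_lit 0,nat_lit 0,nat_lit 3,nat_lit 15,nat_lit 5,nat_lit 6,nat_lit 6,nat_lit 3,nat_lit 7,nat_lit 8])))))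
 (.node (.node (.node (.node (.node (.leaf [nat_lit 5,nat_lit 10,nat_lit 15,nat_lit 4,nat_lit 2,nat_lit 2,nat_lit 15,nat_lit 14,nat_lit 1,nat_lit 1,nat_lit 13,nat_lit 0,nat_lit 0,nat_lit 12,nat_lit 8,nat_lit 8,nat_lit 0,nat_lit 14,nat_lit 13,nat_lit 12,nat_lit 0,nat_lit 5,nat_lit 5,nat_lit 15,nat_lit 8,nat_lit 6,nat_lit 4,nat_lit 15,nat_lit 3,nat_lit 15,nat_lit 6,nat_lit 6,nat_lit 14,nat_lit 1,nat_lit 12,nat_lit 15,nat_lit 7,nat_lit 13,nat_lit 10,nat_lit 6,nat_lit 5,nat_lit 6,nat_lit 6,nat_lit 3,nat_lit 7,nat_lit 8,nat_lit 5,nat_lit 5,nat_lit 13,nat_lit 0,nat_lit 0,nat_lit 3,nat_lit 15,nat_lit 5])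
 (.leaf [nat_lit 9,nat_lit 9,nat_lit 10,nat_lit 14,nat_lit 9,nat_lit 2,nat_lit 10,nat_lit 13,nat_lit 4,nat_lit 4,nat_lit 0,nat_lit 0,nat_lit 3,nat_lit 15,nat_lit 5,nat_lit 5,nat_lit 15,nat_lit 8,nat_lit 8,nat_lit 13,nat_lit 13,nat_lit 7,nat_lit 7,nat_lit 14,nat_lit 8,nat_lit 8,nat_lit 1,nat_lit 1,nat_lit 12,nat_lit 3,nat_lit 13,nat_lit 12,nat_lit 10,nat_lit 15,nat_lit 3,nat_lit 11,nat_lit 14,nat_lit 8,nat_lit 8,nat_lit 3,nat_lit 3,nat_lit 6,nat_lit 7,nat_lit 7]))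
 (.node (.leaf [nat_lit 9,nat_lit 7,nat_lit 14,nat_lit 13,nat_lit 3,nat_lit 14,nat_lit 2,nat_lit 2,nat_lit 7,nat_lit 7,nat_lit 10,nat_lit 14,nat_lit 8,nat_lit 7,nat_lit 7,nat_lit 0,nat_lit 13,nat_lit 7,nat_lit 3,nat_lit 5,nat_lit 5,nat_lit 13,nat_lit 0,nat_lit 4,nat_lit 15,nat_lit 5,nat_lit 6,nat_lit 6,nat_lit 3,nat_lit 7,nat_lit 8,nat_lit 5,nat_lit 5,nat_lit 13,nat_lit 0,nat_lit 0,nat_lit 3,nat_lit 0,nat_lit 0,nat_lit 3,nat_lit 15,nat_lit 5])
 (.leaf [nat_lit 9,nat_lit 3,nat_lit 4,nat_lit 13,nat_lit 4,nat_lit 15,nat_lit 14,nat_lit 14,nat_lit 15,nat_lit 0,nat_lit 13,nat_lit 12,nat_lit 11,nat_lit 11,nat_lit 11,nat_lit 11,nat_lit 11,nat_lit 11,nat_lit 11,nat_lit 11,nat_lit 13,nat_lit 13,nat_lit 2,nat_lit 13,nat_lit 13,nat_lit 6,nat_lit 6,nat_lit 13,nat_lit 13,nat_lit 4,nat_lit 4,nat_lit 5,nat_lit 5,nat_lit 13,nat_lit 0,nat_lit 7,nat_lit 5,nat_lit 5,nat_lit 13,nat_lit 3,nat_lit 3,nat_lit 0,nat_lit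 15,nat_lit 5])))
 (.node (.node (.leaf [nat_lit 9,nat_lit 12,nat_lit 6,nat_lit 4,nat_lit 5,nat_lit 2,nat_lit 2,nat_lit 4,nat_lit 13,nat_lit 13,nat_lit 13,nat_lit 8,nat_lit 8,nat_lit 0,nat_lit 0,nat_lit 5,nat_lit 15,nat_lit 5,nat_lit 15,nat_lit 7,nat_lit 7,nat_lit 4,nat_lit 4,nat_lit 3,nat_lit 13,nat_lit 5,nat_lit 5,nat_lit 15,nat_lit 3,nat_lit 3,nat_lit 5,nat_lit 13,nat_lit 5,nat_lit 13,nat_lit 6,nat_lit 7,nat_lit 7,nat_lit 15,nat_lit 14,nat_lit 15,nat_lit 3,nat_lit 3,nat_lit 0,nat_lit 13,nat_lit 12,nat_lit 13,nat_lit 7,nat_lit 6,nat_lit 6,nat_lit 15,nat_lit 5,nat_lit 5,nat_lit 13,nat_lit 0,nat_lit 0,nat_lit 3,nat_lit 15,nat_lit 5])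
 (.leaf [nat_lit 9,nat_lit 1,nat_lit 1,nat_lit 10,nat_lit 14,nat_lit 15,nat_lit 1,nat_lit 1,nat_lit 10,nat_lit 12,nat_lit 12,nat_lit 5,nat_lit 5,nat_lit 4,nat_lit 4,nat_lit 7,nat_lit 15,nat_lit 3,nat_lit 5,nat_lit 13,nat_lit 3,nat_lit 5,nat_lit 13,nat_lit 3,nat_lit 5,nat_lit 5,nat_lit 15,nat_lit 7,nat_lit 7,nat_lit 3,nat_lit 3,nat_lit 6,nat_lit 13,nat_lit 5,nat_lit 6,nat_lit 6,nat_lit 3,nat_lit 7,nat_lit 8,nat_lit 5,nat_lit 5,nat_lit 13,nat_lit 0,nat_lit 0,nat_lit 3,nat_lit 15,nat_lit 5]))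
 (.node (.leaf [nat_lit 9,nat_lit 8,nat_lit 10,nat_lit 13,nat_lit 14,nat_lit 0,nat_lit 5,nat_lit 9,nat_lit 8,nat_lit 3,nat_lit 3,nat_lit 13,nat_lit 6,nat_lit 8,nat_lit 8,nat_lit 5,nat_lit 7,nat_lit 7,nat_lit 6,nat_lit 6,nat_lit 4,nat_lit 4,nat_lit 15,nat_lit 5,nat_lit 5,nat_lit 6,nat_lit 15,nat_lit 7,nat_lit 13,nat_lit 0,nat_lit 0,nat_lit 3,nat_lit 15,nat_lit 5,nat_lit 8,nat_lit 8,nat_lit 3,nat_lit 3,nat_lit 6,nat_lit 7,nat_lit 7,nat_lit 5,nat_lit 5,nat_lit 13,nat_lit 3,nat_lit 3,nat_lit 0,nat_lit 15,nat_lit 5,nat_lit 6,nat_lit 6,nat_lit 3,nat_lit 7,nat_lit 8])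
 (.leaf [nat_lit 9,nat_lit 9,nat_lit 2,nat_lit 15,nat_lit 12,nat_lit 12,nat_lit 1,nat_lit 1,nat_lit 14,nat_lit 0,nat_lit 9,nat_lit 15,nat_lit 15,nat_lit 6,nat_lit 15,nat_lit 15,nat_lit 5,nat_lit 5,nat_lit 13,nat_lit 0,nat_lit 4,nat_lit 15,nat_lit 5,nat_lit 14,nat_lit 15,nat_lit 0,nat_lit 0,nat_lit 3,nat_lit 13,nat_lit 12,nat_lit 7,nat_lit 6,nat_lit 6,nat_lit 3,nat_lit 8,nat_lit 6,nat_lit 6,nat_lit 4,nat_lit 4,nat_lit 6,nat_lit 6,nat_lit 13,nat_lit 3,nat_lit 13,nat_lit 4,nat_lit 7,nat_lit 7,nat_lit 13,nat_lit 4,nat_lit 4,nat_lit 8,nat_lit 8,nat_lit 15,nat_lit 0,nat_lit 0]))))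
 (.node (.node (.node (.leaf [nat_lit 1,nat_lit 0,nat_lit 9,nat_lit 9,nat_lit 9,nat_lit 9,nat_lit 9,nat_lit 9,nat_lit 9,nat_lit 9,nat_lit 12,nat_lit 10,nat_lit 14,nat_lit 6,nat_lit 6,nat_lit 15,nat_lit 3,nat_lit 8,nat_lit 8,nat_lit 3,nat_lit 3,nat_lit 6,nat_lit 7,nat_lit 7,nat_lit 12,nat_lit 12,nat_lit 0,nat_lit 14,nat_lit 14,nat_lit 7,nat_lit 7,nat_lit 14,nat_lit 8,nat_lit 14,nat_lit 8,nat_lit 4,nat_lit 6,nat_lit 6,nat_lit 8,nat_lit 4,nat_lit 4,nat_lit 5,nat_lit 5,nat_lit 1,nat_lit 1,nat_lit 14,nat_lit 0,nat_lit 0,nat_lit 8,nat_lit 12,nat_lit 1,nat_lit 5,nat_lit 6])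
 (.leaf [nat_lit 10,nat_lit 5,nat_lit 13,nat_lit 4,nat_lit 12,nat_lit 15,nat_lit 3,nat_lit 3,nat_lit 5,nat_lit 13,nat_lit 11,nat_lit 8,nat_lit 15,nat_lit 3,nat_lit 4,nat_lit 8,nat_lit 15,nat_lit 4,nat_lit 4,nat_lit 2,nat_lit 5,nat_lit 5,nat_lit 7,nat_lit 7,nat_lit 14,nat_lit 2,nat_lit 2,nat_lit 0,nat_lit 4,nat_lit 5,nat_lit 13,nat_lit 8,nat_lit 8,nat_lit 3,nat_lit 3,nat_lit 6,nat_lit 7,nat_lit 7,nat_lit 5,nat_lit 5,nat_lit 13,nat_lit 3,nat_lit 3,nat_lit 0,nat_lit 15,nat_lit 5]))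
 (.node (.leaf [nat_lit 9,nat_lit 11,nat_lit 6,nat_lit 6,nat_lit 14,nat_lit 3,nat_lit 3,nat_lit 11,nat_lit 0,nat_lit 0,nat_lit 7,nat_lit 12,nat_lit 2,nat_lit 2,nat_lit 0,nat_lit 0,nat_lit 9,nat_lit 13,nat_lit 9,nat_lit 8,nat_lit 8,nat_lit 7,nat_lit 7,nat_lit 13,nat_lit 6,nat_lit 5,nat_lit 15,nat_lit 12,nat_lit 5,nat_lit 5,nat_lit 6,nat_lit 6,nat_lit 13,nat_lit 8,nat_lit 8,nat_lit 1,nat_lit 14,nat_lit 0,nat_lit 2])
 (.leaf [nat_lit 9,nat_lit 12,nat_lit 6,nat_lit 11,nat_lit 14,nat_lit 0,nat_lit 4,nat_lit 10,nat_lit 13,nat_lit 8,nat_lit 8,nat_lit 0,nat_lit 0,nat_lit 5,nat_lit 15,nat_lit 5,nat_lit 0,nat_lit 0,nat_lit 15,nat_lit 15,nat_lit 0,nat_lit 13,nat_lit 12,nat_lit 3,nat_lit 3,nat_lit 14,nat_lit 15,nat_lit 8,nat_lit 8,nat_lit 13,nat_lit 2,nat_lit 2,nat_lit 10,nat_lit 10,nat_lit 11,nat_lit 8,nat_lit 8,nat_lit 3,nat_lit 3,nat_lit 6,nat_lit 7,nat_lit 7])))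
 (.node (.node (.leaf [nat_lit 4,nat_lit 0,nat_lit 7,nat_lit 15,nat_lit 14,nat_lit 7,nat_lit 7,nat_lit 0,nat_lit 12,nat_lit 15,nat_lit 8,nat_lit 8,nat_lit 13,nat_lit 13,nat_lit 0,nat_lit 4,nat_lit 15,nat_lit 7,nat_lit 7,nat_lit 13,nat_lit 2,nat_lit 2,nat_lit 0,nat_lit 0,nat_lit 6,nat_lit 13,nat_lit 3,nat_lit 3,nat_lit 15,nat_lit 2,nat_lit 13,nat_lit 3,nat_lit 8,nat_lit 8,nat_lit 3,nat_lit 3,nat_lit 6,nat_lit 7,nat_lit 7,nat_lit 5,nat_lit 5,nat_lit 13,nat_lit 3,nat_lit 3,nat_lit 0,nat_lit 15,nat_lit 5,nat_lit 6,nat_lit 6,nat_lit 3,nat_lit 7,nat_lit 8])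
 (.leaf [nat_lit 9,nat_lit 1,nat_lit 3,nat_lit 10,nat_lit 5,nat_lit 13,nat_lit 2,nat_lit 11,nat_lit 15,nat_lit 10,nat_lit 13,nat_lit 1,nat_lit 1,nat_lit 13,nat_lit 0,nat_lit 0,nat_lit 3,nat_lit 1,nat_lit 1,nat_lit 14,nat_lit 0,nat_lit 0,nat_lit 12,nat_lit 1,nat_lit 4,nat_lit 7,nat_lit 3,nat_lit 4,nat_lit 8,nat_lit 8,nat_lit 3,nat_lit 3,nat_lit 6,nat_lit 7,nat_lit 7,nat_lit 5,nat_lit 5,nat_lit 13,nat_lit 3,nat_lit 3,nat_lit 0,nat_lit 15,nat_lit 5]))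
 (.leaf [nat_lit 10,nat_lit 0,nat_lit 0,nat_lit 13,nat_lit 13,nat_lit 4,nat_lit 4,nat_lit 8,nat_lit 13,nat_lit 11,nat_lit 7,nat_lit 7,nat_lit 15,nat_lit 5,nat_lit 5,nat_lit 6,nat_lit 6,nat_lit 13,nat_lit 4,nat_lit 8,nat_lit 2,nat_lit 2,nat_lit 13,nat_lit 1,nat_lit 15,nat_lit 2,nat_lit 6,nat_lit 6,nat_lit 15,nat_lit 3,nat_lit 7,nat_lit 15,nat_lit 6,nat_lit 13,nat_lit 7,nat_lit 5,nat_lit 5,nat_lit 13,nat_lit 0,nat_lit 0,nat_lit 3,nat_lit 15,nat_lit 5,nat_lit 8,nat_lit 8,nat_lit 3,nat_lit 3,nat_lit 6,nat_lit 7,nat_lit 7]))))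
 (.node (.node (.node (.node (.leaf [nat_lit 8,nat_lit 1,nat_lit 6,nat_lit 9,nat_lit 7,nat_lit 12,nat_lit 6,nat_lit 4,nat_lit 4,nat_lit 12,nat_lit 12,nat_lit 4,nat_lit 3,nat_lit 3,nat_lit 12,nat_lit 8,nat_lit 8,nat_lit 3,nat_lit 12,nat_lit 0,nat_lit 14,nat_lit 14,nat_lit 0,nat_lit 0,nat_lit 14,nat_lit 3,nat_lit 13,nat_lit 1,nat_lit 8,nat_lit 8,nat_lit 3,nat_lit 3,nat_lit 6,nat_lit 7,nat_lit 7,nat_lit 5,nat_lit 5,nat_lit 13,nat_lit 0,nat_lit 0,nat_lit 3,nat_lit 15,nat_lit 5,nat_lit 6,nat_lit 6,nat_lit 3,nat_lit 7,nat_lit 8,nat_lit 6,nat_lit 6,nat_lit 3,nat_lit 7,nat_lit 8])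
 (.leaf [nat_lit 9,nat_lit 3,nat_lit 9,nat_lit 12,nat_lit 0,nat_lit 0,nat_lit 2,nat_lit 9,nat_lit 10,nat_lit 7,nat_lit 13,nat_lit 4,nat_lit 4,nat_lit 13,nat_lit 0,nat_lit 4,nat_lit 15,nat_lit 4,nat_lit 4,nat_lit 12,nat_lit 4,nat_lit 4,nat_lit 12,nat_lit 0,nat_lit 5,nat_lit 5,nat_lit 12,nat_lit 5,nat_lit 5,nat_lit 13,nat_lit 0,nat_lit 0,nat_lit 3,nat_lit 15,nat_lit 5,nat_lit 4,nat_lit 6,nat_lit 6,nat_lit 8,nat_lit 4,nat_lit 4,nat_lit 5,nat_lit 5,nat_lit 1,nat_lit 1,nat_lit 14,nat_lit 0,nat_lit 0,nat_lit 8,nat_lit 12,nat_lit 1,nat_lit 5,nat_lit 6]))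
 (.node (.leaf [nat_lit 9,nat_lit 10,nat_lit 12,nat_lit 2,nat_lit 15,nat_lit 2,nat_lit 4,nat_lit 15,nat_lit 0,nat_lit 1,nat_lit 5,nat_lit 6,nat_lit 10,nat_lit 10,nat_lit 10,nat_lit 10,nat_lit 10,nat_lit 10,nat_lit 10,nat_lit 10,nat_lit 14,nat_lit 4,nat_lit 4,nat_lit 0,nat_lit 2,nat_lit 3,nat_lit 3,nat_lit 2,nat_lit 12,nat_lit 10,nat_lit 8,nat_lit 6,nat_lit 4,nat_lit 6,nat_lit 15,nat_lit 7,nat_lit 7,nat_lit 4,nat_lit 4,nat_lit 3,nat_lit 13,nat_lit 5,nat_lit 5,nat_lit 15,nat_lit 3,nat_lit 3,nat_lit 5,nat_lit 13,nat_lit 5,nat_lit 12,nat_lit 13,nat_lit 1,nat_lit 1,nat_lit 0,nat_lit 15,nat_lit 14,nat_lit 2,nat_lit 2,nat_lit 12,nat_lit 4,nat_lit 14,nat_lit 2,nat_lit 13,nat_lit 7,nat_lit 7,nat_lit 4,nat_lit 6,nat_lit 15])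
 (.leaf [nat_lit 12,nat_lit 6,nat_lit 6,nat_lit 14,nat_lit 14,nat_lit 0,nat_lit 4,nat_lit 10,nat_lit 15,nat_lit 12,nat_lit 5,nat_lit 5,nat_lit 6,nat_lit 6,nat_lit 13,nat_lit 8,nat_lit 8,nat_lit 1,nat_lit 14,nat_lit 0,nat_lit 2,nat_lit 6,nat_lit 6,nat_lit 13,nat_lit 13,nat_lit 3,nat_lit 3,nat_lit 5,nat_lit 13,nat_lit 4,nat_lit 6,nat_lit 15,nat_lit 8,nat_lit 8,nat_lit 13,nat_lit 5,nat_lit 5,nat_lit 15,nat_lit 8,nat_lit 8,nat_lit 0,nat_lit 0,nat_lit 13,nat_lit 5])))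
 (.node (.node (.leaf [nat_lit 9,nat_lit 9,nat_lit 2,nat_lit 15,nat_lit 15,nat_lit 6,nat_lit 4,nat_lit 9,nat_lit 9,nat_lit 0,nat_lit 10,nat_lit 3,nat_lit 2,nat_lit 5,nat_lit 13,nat_lit 14,nat_lit 15,nat_lit 0,nat_lit 13,nat_lit 12,nat_lit 8,nat_lit 15,nat_lit 3,nat_lit 4,nat_lit 13,nat_lit 6,nat_lit 6,nat_lit 3,nat_lit 7,nat_lit 8,nat_lit 6,nat_lit 7,nat_lit 7,nat_lit 13,nat_lit 6,nat_lit 13,nat_lit 5,nat_lit 5,nat_lit 15,nat_lit 0,nat_lit 8,nat_lit 13,nat_lit 13,nat_lit 0,nat_lit 4,nat_lit 15,nat_lit 5,nat_lit 14,nat_lit 15,nat_lit 0,nat_lit 0,nat_lit 3,nat_lit 13,nat_lit 12,nat_lit 8,nat_lit 6,nat_lit 4,nat_lit 6])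
 (.leaf [nat_lit 9,nat_lit 1,nat_lit 0,nat_lit 10,nat_lit 9,nat_lit 10,nat_lit 5,nat_lit 5,nat_lit 13,nat_lit 8,nat_lit 8,nat_lit 15,nat_lit 8,nat_lit 3,nat_lit 15,nat_lit 1,nat_lit 1,nat_lit 14,nat_lit 5,nat_lit 12,nat_lit 1,nat_lit 5,nat_lit 5,nat_lit 15,nat_lit 1,nat_lit 1,nat_lit 7,nat_lit 14,nat_lit 14,nat_lit 6,nat_lit 6,nat_lit 3,nat_lit 7,nat_lit 3,nat_lit 3,nat_lit 6,nat_lit 7,nat_lit 7,nat_lit 5,nat_lit 5,nat_lit 13,nat_lit 3,nat_lit 3,nat_lit 0,nat_lit 15,nat_lit 5,nat_lit 6,nat_lit 6,nat_lit 3,nat_lit 7,nat_lit 8]))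
 (.node (.leaf [nat_lit 9,nat_lit 0,nat_lit 1,nat_lit 2,nat_lit 13,nat_lit 2,nat_lit 2,nat_lit 12,nat_lit 1,nat_lit 1,nat_lit 14,nat_lit 2,nat_lit 3,nat_lit 3,nat_lit 15,nat_lit 5,nat_lit 6,nat_lit 13,nat_lit 3,nat_lit 15,nat_lit 8,nat_lit 15,nat_lit 4,nat_lit 4,nat_lit 2,nat_lit 5,nat_lit 5,nat_lit 7,nat_lit 7,nat_lit 14,nat_lit 2,nat_lit 2,nat_lit 0,nat_lit 4,nat_lit 5,nat_lit 13,nat_lit 6,nat_lit 6,nat_lit 3,nat_lit 7,nat_lit 8,nat_lit 12,nat_lit 13,nat_lit 1,nat_lit 1,nat_lit 0,nat_lit 15,nat_lit 14,nat_lit 2,nat_lit 2,nat_lit 12,nat_lit 4,nat_lit 14,nat_lit 2,nat_lit 13,nat_lit 7,nat_lit 7,nat_lit 4,nat_lit 6,nat_lit 15])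
 (.leaf [nat_lit 2,nat_lit 2,nat_lit 2,nat_lit 9,nat_lit 12,nat_lit 13,nat_lit 3,nat_lit 3,nat_lit 7,nat_lit 14,nat_lit 15,nat_lit 2,nat_lit 3,nat_lit 14,nat_lit 5,nat_lit 7,nat_lit 7,nat_lit 12,nat_lit 2,nat_lit 2,nat_lit 3,nat_lit 13,nat_lit 3,nat_lit 6,nat_lit 6,nat_lit 3,nat_lit 7,nat_lit 8,nat_lit 5,nat_lit 5,nat_lit 13,nat_lit 0,nat_lit 4,nat_lit 15,nat_lit 5,nat_lit 6,nat_lit 6,nat_lit 4,nat_lit 4,nat_lit 6,nat_lit 6,nat_lit 13,nat_lit 3,nat_lit 13,nat_lit 4,nat_lit 7,nat_lit 7,nat_lit 13,nat_lit 4,nat_lit 4,nat_lit 8,nat_lit 8,nat_lit 15,nat_lit 0,nat_lit 0]))))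
 (.node (.node (.node (.leaf [nat_lit 9,nat_lit 0,nat_lit 10,nat_lit 9,nat_lit 13,nat_lit 8,nat_lit 4,nat_lit 13,nat_lit 11,nat_lit 7,nat_lit 7,nat_lit 14,nat_lit 4,nat_lit 4,nat_lit 14,nat_lit 6,nat_lit 12,nat_lit 8,nat_lit 5,nat_lit 0,nat_lit 0,nat_lit 15,nat_lit 15,nat_lit 0,nat_lit 7,nat_lit 7,nat_lit 14,nat_lit 4,nat_lit 4,nat_lit 14,nat_lit 13,nat_lit 4,nat_lit 13,nat_lit 14,nat_lit 9,nat_lit 4,nat_lit 4,nat_lit 6,nat_lit 6,nat_lit 13,nat_lit 3,nat_lit 13,nat_lit 4,nat_lit 7,nat_lit 7,nat_lit 13,nat_lit 4,nat_lit 4,nat_lit 8,nat_lit 8,nat_lit 15,nat_lit 0,nat_lit 0])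
 (.leaf [nat_lit 9,nat_lit 13,nat_lit 1,nat_lit 14,nat_lit 7,nat_lit 7,nat_lit 0,nat_lit 12,nat_lit 13,nat_lit 4,nat_lit 4,nat_lit 1,nat_lit 1,nat_lit 7,nat_lit 7,nat_lit 1,nat_lit 6,nat_lit 15,nat_lit 15,nat_lit 8,nat_lit 8,nat_lit 13,nat_lit 7,nat_lit 7,nat_lit 15,nat_lit 5,nat_lit 5,nat_lit 3,nat_lit 13,nat_lit 7,nat_lit 7,nat_lit 13,nat_lit 6,nat_lit 7,nat_lit 7,nat_lit 15,nat_lit 14,nat_lit 15,nat_lit 3,nat_lit 3,nat_lit 0,nat_lit 13,nat_lit 12,nat_lit 13,nat_lit 7,nat_lit 6,nat_lit 6,nat_lit 15,nat_lit 5,nat_lit 5,nat_lit 13,nat_lit 0,nat_lit 0,nat_lit 3,nat_lit 15,nat_lit 5]))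
 (.node (.leaf [nat_lit 10,nat_lit 5,nat_lit 10,nat_lit 5,nat_lit 13,nat_lit 4,nat_lit 6,nat_lit 14,nat_lit 15,nat_lit 0,nat_lit 0,nat_lit 3,nat_lit 13,nat_lit 6,nat_lit 6,nat_lit 0,nat_lit 0,nat_lit 5,nat_lit 0,nat_lit 0,nat_lit 7,nat_lit 12,nat_lit 5,nat_lit 13,nat_lit 3,nat_lit 5,nat_lit 13,nat_lit 3,nat_lit 5,nat_lit 5,nat_lit 15,nat_lit 7,nat_lit 7,nat_lit 3,nat_lit 3,nat_lit 6,nat_lit 13,nat_lit 13,nat_lit 0,nat_lit 0,nat_lit 3,nat_lit 15,nat_lit 5])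
 (.leaf [nat_lit 7,nat_lit 1,nat_lit 11,nat_lit 14,nat_lit 0,nat_lit 0,nat_lit 11,nat_lit 10,nat_lit 12,nat_lit 1,nat_lit 1,nat_lit 14,nat_lit 1,nat_lit 12,nat_lit 1,nat_lit 6,nat_lit 6,nat_lit 5,nat_lit 5,nat_lit 4,nat_lit 4,nat_lit 9,nat_lit 12,nat_lit 7,nat_lit 13,nat_lit 0,nat_lit 4,nat_lit 15,nat_lit 4,nat_lit 4,nat_lit 12,nat_lit 4,nat_lit 4,nat_lit 12,nat_lit 0,nat_lit 5,nat_lit 5,nat_lit 12,nat_lit 5,nat_lit 5,nat_lit 13,nat_lit 0,nat_lit 0,nat_lit 3,nat_lit 15,nat_lit 5])))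
 (.node (.node (.leaf [nat_lit 2,nat_lit 1,nat_lit 14,nat_lit 7,nat_lit 13,nat_lit 13,nat_lit 14,nat_lit 5,nat_lit 15,nat_lit 5,nat_lit 5,nat_lit 3,nat_lit 3,nat_lit 14,nat_lit 6,nat_lit 3,nat_lit 1,nat_lit 1,nat_lit 15,nat_lit 10,nat_lit 7,nat_lit 5,nat_lit 5,nat_lit 13,nat_lit 3,nat_lit 3,nat_lit 0,nat_lit 15,nat_lit 5,nat_lit 6,nat_lit 6,nat_lit 3,nat_lit 7,nat_lit 8,nat_lit 5,nat_lit 5,nat_lit 13,nat_lit 0,nat_lit 0,nat_lit 3,nat_lit 15,nat_lit 5,nat_lit 4,nat_lit 6,nat_lit 6,nat_lit 8,nat_lit 4,nat_lit 4,nat_lit 5,nat_lit 5,nat_lit 1,nat_lit 1,nat_lit 14,nat_lit 0,nat_lit 0,nat_lit 8,nat_lit 12,nat_lit 1,nat_lit 5,nat_lit 6])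
 (.leaf [nat_lit 9,nat_lit 12,nat_lit 2,nat_lit 3,nat_lit 14,nat_lit 3,nat_lit 3,nat_lit 12,nat_lit 3,nat_lit 14,nat_lit 0,nat_lit 0,nat_lit 11,nat_lit 10,nat_lit 4,nat_lit 4,nat_lit 7,nat_lit 7,nat_lit 3,nat_lit 10,nat_lit 11,nat_lit 2,nat_lit 13,nat_lit 14,nat_lit 15,nat_lit 3,nat_lit 3,nat_lit 0,nat_lit 13,nat_lit 12,nat_lit 0,nat_lit 13,nat_lit 8,nat_lit 4,nat_lit 15,nat_lit 7,nat_lit 4,nat_lit 4,nat_lit 15,nat_lit 3,nat_lit 3,nat_lit 15,nat_lit 6,nat_lit 4,nat_lit 6,nat_lit 8,nat_lit 8,nat_lit 3,nat_lit 3,nat_lit 6,nat_lit 7,nat_lit 7]))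
 (.leaf [nat_lit 6,nat_lit 2,nat_lit 8,nat_lit 12,nat_lit 3,nat_lit 3,nat_lit 8,nat_lit 14,nat_lit 15,nat_lit 0,nat_lit 4,nat_lit 13,nat_lit 3,nat_lit 6,nat_lit 6,nat_lit 3,nat_lit 7,nat_lit 8,nat_lit 7,nat_lit 7,nat_lit 6,nat_lit 6,nat_lit 13,nat_lit 0,nat_lit 1,nat_lit 1,nat_lit 14,nat_lit 15,nat_lit 12,nat_lit 15,nat_lit 4,nat_lit 4,nat_lit 0,nat_lit 0,nat_lit 2,nat_lit 7,nat_lit 13])))))))
 (.node (.node (.node (.node (.node (.node (.node (.leaf [nat_lit 12,nat_lit 10,nat_lit 10,nat_lit 5,nat_lit 8,nat_lit 1,nat_lit 13,nat_lit 13,nat_lit 7,nat_lit 7,nat_lit 14,nat_lit 4,nat_lit 4,nat_lit 14,nat_lit 13,nat_lit 3,nat_lit 3,nat_lit 8,nat_lit 8,nat_lit 11,nat_lit 12,nat_lit 11,nat_lit 5,nat_lit 5,nat_lit 13,nat_lit 0,nat_lit 4,nat_lit 15,nat_lit 5,nat_lit 13,nat_lit 6,nat_lit 6,nat_lit 4,nat_lit 4,nat_lit 7,nat_lit 15,nat_lit 2,nat_lit 2,nat_lit 12,nat_lit 4,nat_lit 4,nat_lit 14,nat_lit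 2,nat_lit 12,nat_lit 13,nat_lit 0,nat_lit 0,nat_lit 1,nat_lit 15,nat_lit 14])
 (.leaf [nat_lit 1,nat_lit 13,nat_lit 1,nat_lit 11,nat_lit 0,nat_lit 0,nat_lit 8,nat_lit 2,nat_lit 10,nat_lit 13,nat_lit 7,nat_lit 7,nat_lit 14,nat_lit 4,nat_lit 4,nat_lit 14,nat_lit 13,nat_lit 3,nat_lit 3,nat_lit 8,nat_lit 8,nat_lit 11,nat_lit 12,nat_lit 11,nat_lit 5,nat_lit 5,nat_lit 15,nat_lit 8,nat_lit 8,nat_lit 0,nat_lit 0,nat_lit 13,nat_lit 13,nat_lit 0,nat_lit 0,nat_lit 3,nat_lit 15,nat_lit 5,nat_lit 8,nat_lit 8,nat_lit 3,nat_lit 3,nat_lit 6,nat_lit 7,nat_lit 7,nat_lit 5,nat_lit 5,nat_lit 13,nat_lit 3,nat_lit 3,nat_lit 0,nat_lit 15,nat_lit 5]))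
 (.node (.leaf [nat_lit 9,nat_lit 9,nat_lit 6,nat_lit 15,nat_lit 15,nat_lit 9,nat_lit 9,nat_lit 9,nat_lit 9,nat_lit 9,nat_lit 9,nat_lit 9,nat_lit 9,nat_lit 12,nat_lit 10,nat_lit 14,nat_lit 4,nat_lit 4,nat_lit 15,nat_lit 1,nat_lit 1,nat_lit 10,nat_lit 5,nat_lit 11,nat_lit 8,nat_lit 6,nat_lit 4,nat_lit 6])
 (.leaf [nat_lit 9,nat_lit 6,nat_lit 13,nat_lit 1,nat_lit 14,nat_lit 8,nat_lit 8,nat_lit 14,nat_lit 6,nat_lit 9,nat_lit 9,nat_lit 10,nat_lit 15,nat_lit 15,nat_lit 2,nat_lit 3,nat_lit 3,nat_lit 13,nat_lit 6,nat_lit 0,nat_lit 0,nat_lit 15,nat_lit 0,nat_lit 13,nat_lit 14,nat_lit 0,nat_lit 12,nat_lit 15,nat_lit 6,nat_lit 6,nat_lit 4,nat_lit 4,nat_lit 1,nat_lit 1,nat_lit 0,nat_lit 3,nat_lit 12,nat_lit 0,nat_lit 8,nat_lit 8,nat_lit 3,nat_lit 3,nat_lit 6,nat_lit 7,nat_lit 7,nat_lit 0,nat_lit 13,nat_lit 8,nat_lit 4,nat_lit 15,nat_lit 7,nat_lit 4,nat_lit 4,nat_lit 15,nat_lit 3,nat_lit 3,nat_lit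 15,nat_lit 6,nat_lit 4,nat_lit 6,nat_lit 8,nat_lit 8,nat_lit 3,nat_lit 3,nat_lit 6,nat_lit 7,nat_lit 7])))
 (.node (.node (.leaf [nat_lit 9,nat_lit 12,nat_lit 5,nat_lit 5,nat_lit 7,nat_lit 7,nat_lit 12,nat_lit 5,nat_lit 5,nat_lit 9,nat_lit 13,nat_lit 5,nat_lit 4,nat_lit 4,nat_lit 13,nat_lit 3,nat_lit 3,nat_lit 0,nat_lit 0,nat_lit 15,nat_lit 4,nat_lit 8,nat_lit 8,nat_lit 3,nat_lit 3,nat_lit 6,nat_lit 7,nat_lit 7,nat_lit 5,nat_lit 5,nat_lit 13,nat_lit 0,nat_lit 0,nat_lit 3,nat_lit 15,nat_lit 5,nat_lit 6,nat_lit 6,nat_lit 3,nat_lit 7,nat_lit 8,nat_lit 6,nat_lit 6,nat_lit 3,nat_lit 7,nat_lit 8])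
 (.leaf [nat_lit 4,nat_lit 8,nat_lit 12,nat_lit 13,nat_lit 2,nat_lit 13,nat_lit 2,nat_lit 14,nat_lit 14,nat_lit 3,nat_lit 3,nat_lit 0,nat_lit 0,nat_lit 2,nat_lit 14,nat_lit 14,nat_lit 6,nat_lit 6,nat_lit 3,nat_lit 3,nat_lit 1,nat_lit 1,nat_lit 13,nat_lit 10,nat_lit 14,nat_lit 2,nat_lit 14,nat_lit 6,nat_lit 6,nat_lit 4,nat_lit 9,nat_lit 12,nat_lit 1,nat_lit 1,nat_lit 0,nat_lit 0,nat_lit 6,nat_lit 13,nat_lit 6,nat_lit 6,nat_lit 3,nat_lit 7,nat_lit 3,nat_lit 3,nat_lit 6,nat_lit 7,nat_lit 7,nat_lit 5,nat_lit 5,nat_lit 13,nat_lit 0,nat_lit 0,nat_lit 3,nat_lit 15,nat_lit 5,nat_lit 6,nat_lit 6,nat_lit 3,nat_lit 7,nat_lit 8]))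
 (.node (.leaf [nat_lit 9,nat_lit 6,nat_lit 10,nat_lit 6,nat_lit 14,nat_lit 2,nat_lit 2,nat_lit 7,nat_lit 12,nat_lit 12,nat_lit 8,nat_lit 13,nat_lit 0,nat_lit 4,nat_lit 0,nat_lit 4,nat_lit 15,nat_lit 4,nat_lit 4,nat_lit 12,nat_lit 4,nat_lit 4,nat_lit 12,nat_lit 0,nat_lit 5,nat_lit 5,nat_lit 12,nat_lit 5,nat_lit 5,nat_lit 13,nat_lit 0,nat_lit 0,nat_lit 3,nat_lit 15,nat_lit 5,nat_lit 6,nat_lit 6,nat_lit 3,nat_lit 7,nat_lit 8,nat_lit 5,nat_lit 5,nat_lit 13,nat_lit 0,nat_lit 0,nat_lit 3,nat_lit 15,nat_lit 5])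
 (.leaf [nat_lit 9,nat_lit 1,nat_lit 12,nat_lit 10,nat_lit 14,nat_lit 15,nat_lit 5,nat_lit 5,nat_lit 6,nat_lit 13,nat_lit 12,nat_lit 13,nat_lit 8,nat_lit 8,nat_lit 0,nat_lit 0,nat_lit 5,nat_lit 0,nat_lit 4,nat_lit 0,nat_lit 0,nat_lit 3,nat_lit 15,nat_lit 5]))))
 (.node (.node (.node (.leaf [nat_lit 11,nat_lit 0,nat_lit 5,nat_lit 14,nat_lit 13,nat_lit 6,nat_lit 6,nat_lit 7,nat_lit 7,nat_lit 10,nat_lit 13,nat_lit 7,nat_lit 1,nat_lit 4,nat_lit 5,nat_lit 15,nat_lit 7,nat_lit 6,nat_lit 8,nat_lit 8,nat_lit 6,nat_lit 4,nat_lit 3,nat_lit 7,nat_lit 8,nat_lit 13,nat_lit 6,nat_lit 6,nat_lit 4,nat_lit 4,nat_lit 7,nat_lit 15,nat_lit 2,nat_lit 2,nat_lit 12,nat_lit 4,nat_lit 4,nat_lit 14,nat_lit 2,nat_lit 12,nat_lit 13,nat_lit 0,nat_lit 0,nat_lit 1,nat_lit 15,nat_lit 14])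
 (.leaf [nat_lit 9,nat_lit 6,nat_lit 11,nat_lit 14,nat_lit 15,nat_lit 12,nat_lit 1,nat_lit 1,nat_lit 2,nat_lit 13,nat_lit 10,nat_lit 13,nat_lit 4,nat_lit 4,nat_lit 1,nat_lit 1,nat_lit 6,nat_lit 6,nat_lit 0,nat_lit 1,nat_lit 7,nat_lit 15,nat_lit 5,nat_lit 5,nat_lit 6,nat_lit 6,nat_lit 15,nat_lit 0,nat_lit 5,nat_lit 12,nat_lit 12,nat_lit 4,nat_lit 4,nat_lit 1,nat_lit 14,nat_lit 14,nat_lit 5,nat_lit 5,nat_lit 15,nat_lit 4,nat_lit 4,nat_lit 1,nat_lit 13,nat_lit 5,nat_lit 8,nat_lit 8,nat_lit 3,nat_lit 3,nat_lit 6,nat_lit 7,nat_lit 7]))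
 (.node (.leaf [nat_lit 9,nat_lit 8,nat_lit 12,nat_lit 5,nat_lit 5,nat_lit 13,nat_lit 3,nat_lit 14,nat_lit 15,nat_lit 4,nat_lit 4,nat_lit 3,nat_lit 3,nat_lit 15,nat_lit 3,nat_lit 8,nat_lit 12,nat_lit 12,nat_lit 0,nat_lit 14,nat_lit 14,nat_lit 7,nat_lit 7,nat_lit 14,nat_lit 8,nat_lit 14,nat_lit 8,nat_lit 5,nat_lit 5,nat_lit 15,nat_lit 0,nat_lit 8,nat_lit 13,nat_lit 5,nat_lit 15,nat_lit 8,nat_lit 13,nat_lit 6,nat_lit 6,nat_lit 4,nat_lit 4,nat_lit 15,nat_lit 5,nat_lit 5,nat_lit 3,nat_lit 15,nat_lit 15,nat_lit 6])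
 (.leaf [nat_lit 9,nat_lit 3,nat_lit 4,nat_lit 12,nat_lit 12,nat_lit 1,nat_lit 1,nat_lit 0,nat_lit 5,nat_lit 5,nat_lit 6,nat_lit 6,nat_lit 0,nat_lit 0,nat_lit 3,nat_lit 13,nat_lit 8,nat_lit 6,nat_lit 4,nat_lit 6,nat_lit 8,nat_lit 8,nat_lit 3,nat_lit 3,nat_lit 6,nat_lit 7,nat_lit 7,nat_lit 5,nat_lit 5,nat_lit 13,nat_lit 3,nat_lit 3,nat_lit 0,nat_lit 15,nat_lit 5,nat_lit 6,nat_lit 6,nat_lit 3,nat_lit 7,nat_lit 8])))
 (.node (.node (.leaf [nat_lit 8,nat_lit 9,nat_lit 13,nat_lit 5,nat_lit 5,nat_lit 15,nat_lit 1,nat_lit 1,nat_lit 13,nat_lit 10,nat_lit 14,nat_lit 5,nat_lit 5,nat_lit 4,nat_lit 4,nat_lit 0,nat_lit 0,nat_lit 13,nat_lit 7,nat_lit 6,nat_lit 7,nat_lit 7,nat_lit 15,nat_lit 14,nat_lit 15,nat_lit 3,nat_lit 3,nat_lit 0,nat_lit 13,nat_lit 12,nat_lit 13,nat_lit 7,nat_lit 6,nat_lit 6,nat_lit 15,nat_lit 7,nat_lit 6,nat_lit 6,nat_lit 3,nat_lit 8,nat_lit 6,nat_lit 6,nat_lit 4,nat_lit 4,nat_lit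 6,nat_lit 6,nat_lit 13,nat_lit 3,nat_lit 13,nat_lit 4,nat_lit 7,nat_lit 7,nat_lit 13,nat_lit 4,nat_lit 4,nat_lit 8,nat_lit 8,nat_lit 15,nat_lit 0,nat_lit 0])
 (.leaf [nat_lit 9,nat_lit 15,nat_lit 3,nat_lit 12,nat_lit 0,nat_lit 0,nat_lit 14,nat_lit 14,nat_lit 15,nat_lit 3,nat_lit 3,nat_lit 6,nat_lit 6,nat_lit 5,nat_lit 13,nat_lit 8,nat_lit 13,nat_lit 3,nat_lit 13,nat_lit 3,nat_lit 3,nat_lit 15,nat_lit 4,nat_lit 4,nat_lit 0,nat_lit 0,nat_lit 15,nat_lit 15,nat_lit 6,nat_lit 6,nat_lit 3,nat_lit 7,nat_lit 8,nat_lit 6,nat_lit 6,nat_lit 13,nat_lit 13,nat_lit 3,nat_lit 3,nat_lit 5,nat_lit 13,nat_lit 4,nat_lit 6,nat_lit 15,nat_lit 8,nat_lit 8,nat_lit 13,nat_lit 5,nat_lit 5,nat_lit 15,nat_lit 8,nat_lit 8,nat_lit 0,nat_lit 0,nat_lit 13,nat_lit 5]))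
 (.leaf [nat_lit 8,nat_lit 14,nat_lit 5,nat_lit 1,nat_lit 5,nat_lit 1,nat_lit 12,nat_lit 3,nat_lit 3,nat_lit 0,nat_lit 0,nat_lit 14,nat_lit 6,nat_lit 13,nat_lit 3,nat_lit 3,nat_lit 7,nat_lit 7,nat_lit 0,nat_lit 4,nat_lit 13,nat_lit 0,nat_lit 1,nat_lit 1,nat_lit 15,nat_lit 12,nat_lit 0,nat_lit 3,nat_lit 12,nat_lit 12,nat_lit 0,nat_lit 14,nat_lit 14,nat_lit 0,nat_lit 0,nat_lit 14,nat_lit 3,nat_lit 13,nat_lit 1,nat_lit 8,nat_lit 8,nat_lit 3,nat_lit 3,nat_lit 6,nat_lit 7,nat_lit 7]))))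
 (.node (.node (.node (.node (.leaf [nat_lit 2,nat_lit 12,nat_lit 2,nat_lit 2,nat_lit 6,nat_lit 6,nat_lit 12,nat_lit 8,nat_lit 8,nat_lit 0,nat_lit 9,nat_lit 14,nat_lit 5,nat_lit 5,nat_lit 15,nat_lit 1,nat_lit 1,nat_lit 4,nat_lit 13,nat_lit 5,nat_lit 12,nat_lit 12,nat_lit 1,nat_lit 1,nat_lit 4,nat_lit 14,nat_lit 14,nat_lit 1,nat_lit 1,nat_lit 15,nat_lit 12,nat_lit 0,nat_lit 3,nat_lit 12,nat_lit 12,nat_lit 0,nat_lit 14,nat_lit 14,nat_lit 0,nat_lit 0,nat_lit 14,nat_lit 3,nat_lit 13,nat_lit 1,nat_lit 5,nat_lit 5,nat_lit 13,nat_lit 3,nat_lit 3,nat_lit 0,nat_lit 15,nat_lit 5])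
 (.leaf [nat_lit 0,nat_lit 15,nat_lit 14,nat_lit 9,nat_lit 12,nat_lit 8,nat_lit 15,nat_lit 14,nat_lit 13,nat_lit 12,nat_lit 6,nat_lit 6,nat_lit 15,nat_lit 14,nat_lit 8,nat_lit 8,nat_lit 12,nat_lit 1,nat_lit 1,nat_lit 2,nat_lit 15,nat_lit 9,nat_lit 8,nat_lit 15,nat_lit 3,nat_lit 4,nat_lit 13,nat_lit 6,nat_lit 6,nat_lit 3,nat_lit 7,nat_lit 8,nat_lit 6,nat_lit 7,nat_lit 7,nat_lit 13,nat_lit 6,nat_lit 13,nat_lit 8,nat_lit 8,nat_lit 3,nat_lit 3,nat_lit 6,nat_lit 7,nat_lit 7,nat_lit 5,nat_lit 5,nat_lit 13,nat_lit 0,nat_lit 0,nat_lit 3,nat_lit 15,nat_lit 5]))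
 (.node (.leaf [nat_lit 9,nat_lit 4,nat_lit 6,nat_lit 7,nat_lit 7,nat_lit 14,nat_lit 9,nat_lit 2,nat_lit 10,nat_lit 3,nat_lit 3,nat_lit 15,nat_lit 0,nat_lit 4,nat_lit 13,nat_lit 3,nat_lit 5,nat_lit 5,nat_lit 15,nat_lit 8,nat_lit 8,nat_lit 0,nat_lit 0,nat_lit 13,nat_lit 13,nat_lit 0,nat_lit 4,nat_lit 0,nat_lit 0,nat_lit 3,nat_lit 15,nat_lit 5,nat_lit 6,nat_lit 6,nat_lit 3,nat_lit 7,nat_lit 8,nat_lit 5,nat_lit 5,nat_lit 13,nat_lit 0,nat_lit 0,nat_lit 3,nat_lit 15,nat_lit 5])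
 (.leaf [nat_lit 11,nat_lit 2,nat_lit 11,nat_lit 4,nat_lit 2,nat_lit 12,nat_lit 10,nat_lit 6,nat_lit 9,nat_lit 11,nat_lit 15,nat_lit 5,nat_lit 5,nat_lit 6,nat_lit 3,nat_lit 13,nat_lit 1,nat_lit 1,nat_lit 15,nat_lit 12,nat_lit 0,nat_lit 3,nat_lit 12,nat_lit 12,nat_lit 0,nat_lit 14,nat_lit 14,nat_lit 0,nat_lit 0,nat_lit 14,nat_lit 3,nat_lit 13,nat_lit 1,nat_lit 5,nat_lit 5,nat_lit 13,nat_lit 3,nat_lit 3,nat_lit 0,nat_lit 15,nat_lit 5])))
 (.node (.node (.leaf [nat_lit 11,nat_lit 0,nat_lit 4,nat_lit 11,nat_lit 5,nat_lit 5,nat_lit 0,nat_lit 0,nat_lit 15,nat_lit 15,nat_lit 8,nat_lit 11,nat_lit 5,nat_lit 15,nat_lit 7,nat_lit 6,nat_lit 3,nat_lit 3,nat_lit 6,nat_lit 7,nat_lit 7,nat_lit 12,nat_lit 12,nat_lit 0,nat_lit 14,nat_lit 14,nat_lit 7,nat_lit 7,nat_lit 14,nat_lit 8,nat_lit 14,nat_lit 8,nat_lit 14,nat_lit 15,nat_lit 3,nat_lit 3,nat_lit 0,nat_lit 13,nat_lit 12,nat_lit 3,nat_lit 3,nat_lit 15,nat_lit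 4,nat_lit 4,nat_lit 13,nat_lit 3,nat_lit 5,nat_lit 5,nat_lit 2,nat_lit 2,nat_lit 0,nat_lit 0,nat_lit 11,nat_lit 10,nat_lit 13])
 (.leaf [nat_lit 2,nat_lit 2,nat_lit 13,nat_lit 1,nat_lit 11,nat_lit 2,nat_lit 5,nat_lit 12,nat_lit 0,nat_lit 0,nat_lit 8,nat_lit 3,nat_lit 5,nat_lit 12,nat_lit 13,nat_lit 9,nat_lit 13,nat_lit 8,nat_lit 4,nat_lit 5,nat_lit 5,nat_lit 13,nat_lit 0,nat_lit 4,nat_lit 3,nat_lit 3,nat_lit 0,nat_lit 15,nat_lit 5,nat_lit 8,nat_lit 8,nat_lit 3,nat_lit 3,nat_lit 6,nat_lit 7,nat_lit 7,nat_lit 5,nat_lit 5,nat_lit 13,nat_lit 3,nat_lit 3,nat_lit 0,nat_lit 15,nat_lit 5]))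
 (.node (.leaf [nat_lit 9,nat_lit 12,nat_lit 9,nat_lit 7,nat_lit 13,nat_lit 7,nat_lit 15,nat_lit 1,nat_lit 11,nat_lit 5,nat_lit 15,nat_lit 7,nat_lit 6,nat_lit 8,nat_lit 1,nat_lit 1,nat_lit 15,nat_lit 12,nat_lit 0,nat_lit 3,nat_lit 12,nat_lit 12,nat_lit 0,nat_lit 14,nat_lit 14,nat_lit 0,nat_lit 0,nat_lit 14,nat_lit 3,nat_lit 13,nat_lit 1,nat_lit 8,nat_lit 8,nat_lit 3,nat_lit 3,nat_lit 6,nat_lit 7,nat_lit 7,nat_lit 12,nat_lit 13,nat_lit 1,nat_lit 1,nat_lit 0,nat_lit 15,nat_lit 14,nat_lit 2,nat_lit 2,nat_lit 12,nat_lit 4,nat_lit 14,nat_lit 2,nat_lit 13,nat_lit 7,nat_lit 7,nat_lit 4,nat_lit 6,nat_lit 15])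
 (.leaf [nat_lit 12,nat_lit 0,nat_lit 2,nat_lit 14,nat_lit 15,nat_lit 3,nat_lit 3,nat_lit 12,nat_lit 0,nat_lit 1,nat_lit 3,nat_lit 3,nat_lit 15,nat_lit 5,nat_lit 5,nat_lit 3,nat_lit 3,nat_lit 15,nat_lit 5,nat_lit 13,nat_lit 0,nat_lit 4,nat_lit 15,nat_lit 5,nat_lit 14,nat_lit 15,nat_lit 3,nat_lit 3,nat_lit 0,nat_lit 13,nat_lit 12,nat_lit 5,nat_lit 5,nat_lit 13,nat_lit 0,nat_lit 0,nat_lit 3,nat_lit 15,nat_lit 5,nat_lit 4,nat_lit 6,nat_lit 6,nat_lit 8,nat_lit 4,nat_lit 4,nat_lit 5,nat_lit 5,nat_lit 1,nat_lit 1,nat_lit 14,nat_lit 0,nat_lit 0,nat_lit 8,nat_lit 12,nat_lit 1,nat_lit 5,nat_lit 6]))))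
 (.node (.node (.node (.leaf [nat_lit 9,nat_lit 3,nat_lit 13,nat_lit 14,nat_lit 5,nat_lit 13,nat_lit 0,nat_lit 6,nat_lit 6,nat_lit 2,nat_lit 14,nat_lit 7,nat_lit 13,nat_lit 7,nat_lit 7,nat_lit 0,nat_lit 0,nat_lit 3,nat_lit 6,nat_lit 15,nat_lit 6,nat_lit 6,nat_lit 3,nat_lit 7,nat_lit 8,nat_lit 5,nat_lit 5,nat_lit 13,nat_lit 0,nat_lit 4,nat_lit 3,nat_lit 3,nat_lit 0,nat_lit 15,nat_lit 5,nat_lit 8,nat_lit 8,nat_lit 3,nat_lit 3,nat_lit 6,nat_lit 7,nat_lit 7,nat_lit 5,nat_lit 5,nat_lit 13,nat_lit 3,nat_lit 3,nat_lit 0,nat_lit 15,nat_lit 5])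
 (.leaf [nat_lit 9,nat_lit 2,nat_lit 4,nat_lit 10,nat_lit 1,nat_lit 1,nat_lit 14,nat_lit 5,nat_lit 12,nat_lit 1,nat_lit 14,nat_lit 0,nat_lit 0,nat_lit 7,nat_lit 12,nat_lit 2,nat_lit 2,nat_lit 0,nat_lit 0,nat_lit 9,nat_lit 13,nat_lit 9,nat_lit 7,nat_lit 7,nat_lit 6,nat_lit 6,nat_lit 13,nat_lit 0,nat_lit 1,nat_lit 1,nat_lit 14,nat_lit 15,nat_lit 12,nat_lit 15,nat_lit 4,nat_lit 4,nat_lit 0,nat_lit 0,nat_lit 2,nat_lit 7,nat_lit 13,nat_lit 6,nat_lit 6,nat_lit 3,nat_lit 7,nat_lit 8]))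
 (.node (.leaf [nat_lit 1,nat_lit 0,nat_lit 9,nat_lit 3,nat_lit 1,nat_lit 1,nat_lit 14,nat_lit 5,nat_lit 5,nat_lit 12,nat_lit 1,nat_lit 2,nat_lit 2,nat_lit 13,nat_lit 1,nat_lit 15,nat_lit 2,nat_lit 0,nat_lit 0,nat_lit 15,nat_lit 15,nat_lit 0,nat_lit 7,nat_lit 7,nat_lit 14,nat_lit 4,nat_lit 4,nat_lit 14,nat_lit 13,nat_lit 4,nat_lit 13,nat_lit 14,nat_lit 9,nat_lit 6,nat_lit 14,nat_lit 15,nat_lit 3,nat_lit 3,nat_lit 0,nat_lit 13,nat_lit 12,nat_lit 3,nat_lit 3,nat_lit 15,nat_lit 4,nat_lit 4,nat_lit 13,nat_lit 3,nat_lit 5,nat_lit 5,nat_lit 2,nat_lit 2,nat_lit 0,nat_lit 0,nat_lit 11,nat_lit 10,nat_lit 13])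
 (.leaf [nat_lit 6,nat_lit 0,nat_lit 1,nat_lit 7,nat_lit 7,nat_lit 1,nat_lit 1,nat_lit 14,nat_lit 4,nat_lit 4,nat_lit 13,nat_lit 4,nat_lit 2,nat_lit 3,nat_lit 9,nat_lit 6,nat_lit 4,nat_lit 5,nat_lit 13,nat_lit 1,nat_lit 1,nat_lit 13,nat_lit 0,nat_lit 0,nat_lit 3,nat_lit 1,nat_lit 1,nat_lit 14,nat_lit 0,nat_lit 0,nat_lit 12,nat_lit 1,nat_lit 13,nat_lit 3,nat_lit 3,nat_lit 15,nat_lit 3,nat_lit 3,nat_lit 0,nat_lit 15,nat_lit 0,nat_lit 15,nat_lit 5,nat_lit 5,nat_lit 13,nat_lit 0,nat_lit 0,nat_lit 3,nat_lit 15,nat_lit 5,nat_lit 6,nat_lit 6,nat_lit 3,nat_lit 7,nat_lit 8,nat_lit 5,nat_lit 5,nat_lit 13,nat_lit 0,nat_lit 0,nat_lit 3,nat_lit 15,nat_lit 5])))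
 (.node (.node (.leaf [nat_lit 11,nat_lit 8,nat_lit 5,nat_lit 2,nat_lit 2,nat_lit 15,nat_lit 14,nat_lit 1,nat_lit 1,nat_lit 13,nat_lit 0,nat_lit 0,nat_lit 13,nat_lit 8,nat_lit 0,nat_lit 13,nat_lit 11,nat_lit 6,nat_lit 5,nat_lit 6,nat_lit 3,nat_lit 13,nat_lit 7,nat_lit 7,nat_lit 13,nat_lit 13,nat_lit 7,nat_lit 3,nat_lit 3,nat_lit 15,nat_lit 0,nat_lit 0,nat_lit 13,nat_lit 3,nat_lit 7,nat_lit 7,nat_lit 15,nat_lit 15,nat_lit 7,nat_lit 15,nat_lit 6,nat_lit 6,nat_lit 3,nat_lit 7,nat_lit 8,nat_lit 5,nat_lit 5,nat_lit 13,nat_lit 0,nat_lit 0,nat_lit 3,nat_lit 15,nat_lit 5])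
 (.leaf [nat_lit 9,nat_lit 3,nat_lit 8,nat_lit 1,nat_lit 1,nat_lit 14,nat_lit 1,nat_lit 1,nat_lit 12,nat_lit 1,nat_lit 14,nat_lit 3,nat_lit 3,nat_lit 15,nat_lit 5,nat_lit 7,nat_lit 13,nat_lit 3,nat_lit 8,nat_lit 8,nat_lit 3,nat_lit 3,nat_lit 6,nat_lit 7,nat_lit 7,nat_lit 12,nat_lit 12,nat_lit 0,nat_lit 14,nat_lit 14,nat_lit 7,nat_lit 7,nat_lit 14,nat_lit 8,nat_lit 14,nat_lit 3,nat_lit 3,nat_lit 6,nat_lit 7,nat_lit 7,nat_lit 5,nat_lit 5,nat_lit 13,nat_lit 3,nat_lit 3,nat_lit 0,nat_lit 15,nat_lit 5,nat_lit 6,nat_lit 6,nat_lit 13,nat_lit 13,nat_lit 3,nat_lit 3,nat_lit 5,nat_lit 13,nat_lit 4,nat_lit 6,nat_lit 15,nat_lit 8,nat_lit 8,nat_lit 13,nat_lit 5,nat_lit 5,nat_lit 15,nat_lit 8,nat_lit 8,nat_lit 0,nat_lit 0,nat_lit 13,nat_lit 5]))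
 (.leaf [nat_lit 9,nat_lit 2,nat_lit 8,nat_lit 15,nat_lit 5,nat_lit 5,nat_lit 13,nat_lit 7,nat_lit 14,nat_lit 3,nat_lit 3,nat_lit 15,nat_lit 0,nat_lit 0,nat_lit 13,nat_lit 3,nat_lit 7,nat_lit 7,nat_lit 15,nat_lit 15,nat_lit 7,nat_lit 15,nat_lit 5,nat_lit 5,nat_lit 0,nat_lit 0,nat_lit 13,nat_lit 6,nat_lit 5,nat_lit 0,nat_lit 13,nat_lit 8,nat_lit 4,nat_lit 15,nat_lit 7,nat_lit 4,nat_lit 4,nat_lit 15,nat_lit 3,nat_lit 3,nat_lit 15,nat_lit 6,nat_lit 4,nat_lit 6,nat_lit 8,nat_lit 8,nat_lit 3,nat_lit 3,nat_lit 6,nat_lit 7,nat_lit 7])))))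
 (.node (.node (.node (.node (.node (.leaf [nat_lit 3,nat_lit 10,nat_lit 11,nat_lit 2,nat_lit 4,nat_lit 13,nat_lit 12,nat_lit 15,nat_lit 1,nat_lit 5,nat_lit 5,nat_lit 4,nat_lit 4,nat_lit 0,nat_lit 0,nat_lit 15,nat_lit 15,nat_lit 7,nat_lit 5,nat_lit 5,nat_lit 13,nat_lit 0,nat_lit 4,nat_lit 15,nat_lit 5,nat_lit 6,nat_lit 6,nat_lit 3,nat_lit 7,nat_lit 8,nat_lit 5,nat_lit 5,nat_lit 13,nat_lit 0,nat_lit 0,nat_lit 3,nat_lit 0,nat_lit 0,nat_lit 3,nat_lit 15,nat_lit 5])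
 (.leaf [nat_lit 9,nat_lit 2,nat_lit 5,nat_lit 9,nat_lit 12,nat_lit 5,nat_lit 5,nat_lit 14,nat_lit 13,nat_lit 1,nat_lit 7,nat_lit 13,nat_lit 14,nat_lit 7,nat_lit 7,nat_lit 2,nat_lit 12,nat_lit 15,nat_lit 2,nat_lit 2,nat_lit 13,nat_lit 12,nat_lit 12,nat_lit 13,nat_lit 7,nat_lit 8,nat_lit 8,nat_lit 5,nat_lit 7,nat_lit 7,nat_lit 6,nat_lit 6,nat_lit 4,nat_lit 4,nat_lit 15,nat_lit 5,nat_lit 5,nat_lit 6,nat_lit 15,nat_lit 7,nat_lit 5,nat_lit 6,nat_lit 6,nat_lit 3,nat_lit 7,nat_lit 8,nat_lit 5,nat_lit 5,nat_lit 13,nat_lit 0,nat_lit 0,nat_lit 3,nat_lit 0,nat_lit 0,nat_lit 3,nat_lit 15,nat_lit 5]))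
 (.node (.leaf [nat_lit 7,nat_lit 0,nat_lit 3,nat_lit 10,nat_lit 9,nat_lit 11,nat_lit 3,nat_lit 8,nat_lit 6,nat_lit 5,nat_lit 6,nat_lit 3,nat_lit 8,nat_lit 6,nat_lit 4,nat_lit 6,nat_lit 13,nat_lit 6,nat_lit 7,nat_lit 7,nat_lit 15,nat_lit 14,nat_lit 15,nat_lit 3,nat_lit 3,nat_lit 0,nat_lit 13,nat_lit 12,nat_lit 13,nat_lit 7,nat_lit 6,nat_lit 6,nat_lit 15])
 (.leaf [nat_lit 11,nat_lit 5,nat_lit 4,nat_lit 14,nat_lit 0,nat_lit 0,nat_lit 7,nat_lit 12,nat_lit 7,nat_lit 7,nat_lit 15,nat_lit 0,nat_lit 6,nat_lit 13,nat_lit 2,nat_lit 2,nat_lit 7,nat_lit 7,nat_lit 1,nat_lit 1,nat_lit 3,nat_lit 14,nat_lit 0,nat_lit 0,nat_lit 14,nat_lit 7,nat_lit 13,nat_lit 0,nat_lit 0,nat_lit 3,nat_lit 15,nat_lit 5,nat_lit 6,nat_lit 6,nat_lit 3,nat_lit 7,nat_lit 8,nat_lit 6,nat_lit 6,nat_lit 13,nat_lit 13,nat_lit 3,nat_lit 3,nat_lit 5,nat_lit 13,nat_lit 4,nat_lit 6,nat_lit 15,nat_lit 8,nat_lit 8,nat_lit 13,nat_lit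 5,nat_lit 5,nat_lit 15,nat_lit 8,nat_lit 8,nat_lit 0,nat_lit 0,nat_lit 13,nat_lit 5])))
 (.node (.node (.leaf [nat_lit 6,nat_lit 3,nat_lit 14,nat_lit 14,nat_lit 2,nat_lit 2,nat_lit 9,nat_lit 12,nat_lit 9,nat_lit 4,nat_lit 4,nat_lit 12,nat_lit 4,nat_lit 3,nat_lit 3,nat_lit 15,nat_lit 6,nat_lit 14,nat_lit 7,nat_lit 8,nat_lit 13,nat_lit 3,nat_lit 13,nat_lit 3,nat_lit 3,nat_lit 15,nat_lit 4,nat_lit 4,nat_lit 0,nat_lit 0,nat_lit 15,nat_lit 15,nat_lit 5,nat_lit 5,nat_lit 13,nat_lit 3,nat_lit 3,nat_lit 0,nat_lit 15,nat_lit 5])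
 (.leaf [nat_lit 9,nat_lit 10,nat_lit 5,nat_lit 9,nat_lit 2,nat_lit 2,nat_lit 12,nat_lit 1,nat_lit 1,nat_lit 14,nat_lit 2,nat_lit 7,nat_lit 7,nat_lit 15,nat_lit 8,nat_lit 13,nat_lit 7,nat_lit 5,nat_lit 5,nat_lit 15,nat_lit 8,nat_lit 8,nat_lit 0,nat_lit 0,nat_lit 13,nat_lit 5,nat_lit 6,nat_lit 6,nat_lit 3,nat_lit 7,nat_lit 8,nat_lit 0,nat_lit 13,nat_lit 8,nat_lit 4,nat_lit 15,nat_lit 7,nat_lit 4,nat_lit 4,nat_lit 15,nat_lit 3,nat_lit 3,nat_lit 15,nat_lit 6,nat_lit 4,nat_lit 6,nat_lit 8,nat_lit 8,nat_lit 3,nat_lit 3,nat_lit 6,nat_lit 7,nat_lit 7]))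
 (.node (.leaf [nat_lit 5,nat_lit 5,nat_lit 11,nat_lit 13,nat_lit 9,nat_lit 9,nat_lit 9,nat_lit 9,nat_lit 9,nat_lit 9,nat_lit 9,nat_lit 9,nat_lit 14,nat_lit 3,nat_lit 3,nat_lit 9,nat_lit 14,nat_lit 6,nat_lit 6,nat_lit 15,nat_lit 3,nat_lit 8,nat_lit 8,nat_lit 15,nat_lit 4,nat_lit 4,nat_lit 0,nat_lit 13,nat_lit 8,nat_lit 15,nat_lit 3,nat_lit 3,nat_lit 4,nat_lit 7,nat_lit 13,nat_lit 7,nat_lit 6,nat_lit 6,nat_lit 3,nat_lit 8,nat_lit 6,nat_lit 6,nat_lit 4,nat_lit 4,nat_lit 6,nat_lit 6,nat_lit 13,nat_lit 3,nat_lit 13,nat_lit 4,nat_lit 7,nat_lit 7,nat_lit 13,nat_lit 4,nat_lit 4,nat_lit 8,nat_lit 8,nat_lit 15,nat_lit 0,nat_lit 0])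
 (.leaf [nat_lit 9,nat_lit 9,nat_lit 14,nat_lit 7,nat_lit 8,nat_lit 8,nat_lit 12,nat_lit 1,nat_lit 2,nat_lit 14,nat_lit 13,nat_lit 12,nat_lit 3,nat_lit 3,nat_lit 14,nat_lit 15,nat_lit 4,nat_lit 4,nat_lit 7,nat_lit 7,nat_lit 12,nat_lit 2,nat_lit 10,nat_lit 13,nat_lit 7,nat_lit 7,nat_lit 13,nat_lit 13,nat_lit 7,nat_lit 3,nat_lit 3,nat_lit 15,nat_lit 0,nat_lit 0,nat_lit 13,nat_lit 3,nat_lit 7,nat_lit 7,nat_lit 15,nat_lit 15,nat_lit 7,nat_lit 15]))))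
 (.node (.node (.node (.leaf [nat_lit 2,nat_lit 8,nat_lit 13,nat_lit 9,nat_lit 1,nat_lit 1,nat_lit 13,nat_lit 0,nat_lit 0,nat_lit 2,nat_lit 15,nat_lit 5,nat_lit 15,nat_lit 15,nat_lit 7,nat_lit 7,nat_lit 3,nat_lit 15,nat_lit 0,nat_lit 0,nat_lit 8,nat_lit 8,nat_lit 15,nat_lit 5,nat_lit 5,nat_lit 15,nat_lit 8,nat_lit 8,nat_lit 0,nat_lit 0,nat_lit 13,nat_lit 5,nat_lit 6,nat_lit 6,nat_lit 3,nat_lit 7,nat_lit 8,nat_lit 12,nat_lit 13,nat_lit 1,nat_lit 1,nat_lit 0,nat_lit 15,nat_lit 14,nat_lit 2,nat_lit 2,nat_lit 12,nat_lit 4,nat_lit 14,nat_lit 2,nat_lit 13,nat_lit 7,nat_lit 7,nat_lit 4,nat_lit 6,nat_lit 15])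
 (.leaf [nat_lit 11,nat_lit 0,nat_lit 1,nat_lit 13,nat_lit 5,nat_lit 5,nat_lit 11,nat_lit 5,nat_lit 6,nat_lit 13,nat_lit 3,nat_lit 3,nat_lit 15,nat_lit 4,nat_lit 15,nat_lit 7,nat_lit 7,nat_lit 14,nat_lit 15,nat_lit 0,nat_lit 0,nat_lit 13,nat_lit 12,nat_lit 7,nat_lit 7,nat_lit 12,nat_lit 1,nat_lit 1,nat_lit 2,nat_lit 14,nat_lit 15,nat_lit 10,nat_lit 5,nat_lit 8,nat_lit 8,nat_lit 3,nat_lit 3,nat_lit 6,nat_lit 7,nat_lit 7,nat_lit 5,nat_lit 5,nat_lit 13,nat_lit 0,nat_lit 0,nat_lit 3,nat_lit 15,nat_lit 5,nat_lit 6,nat_lit 6,nat_lit 3,nat_lit 7,nat_lit 8]))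
 (.node (.leaf [nat_lit 9,nat_lit 2,nat_lit 10,nat_lit 4,nat_lit 0,nat_lit 0,nat_lit 8,nat_lit 2,nat_lit 10,nat_lit 13,nat_lit 3,nat_lit 3,nat_lit 13,nat_lit 5,nat_lit 0,nat_lit 13,nat_lit 7,nat_lit 7,nat_lit 4,nat_lit 5,nat_lit 6,nat_lit 6,nat_lit 4,nat_lit 4,nat_lit 15,nat_lit 5,nat_lit 5,nat_lit 13,nat_lit 13,nat_lit 4,nat_lit 8,nat_lit 3,nat_lit 6,nat_lit 6,nat_lit 3,nat_lit 7,nat_lit 3,nat_lit 3,nat_lit 6,nat_lit 7,nat_lit 7,nat_lit 5,nat_lit 5,nat_lit 13,nat_lit 0,nat_lit 0,nat_lit 3,nat_lit 15,nat_lit 5,nat_lit 6,nat_lit 6,nat_lit 3,nat_lit 7,nat_lit 8])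
 (.leaf [nat_lit 9,nat_lit 8,nat_lit 14,nat_lit 1,nat_lit 8,nat_lit 8,nat_lit 0,nat_lit 11,nat_lit 9,nat_lit 14,nat_lit 14,nat_lit 0,nat_lit 0,nat_lit 7,nat_lit 3,nat_lit 3,nat_lit 5,nat_lit 8,nat_lit 12,nat_lit 2,nat_lit 2,nat_lit 13,nat_lit 0,nat_lit 0,nat_lit 15,nat_lit 2,nat_lit 5,nat_lit 12,nat_lit 1,nat_lit 15,nat_lit 8,nat_lit 7,nat_lit 7,nat_lit 15,nat_lit 0,nat_lit 6,nat_lit 13,nat_lit 6,nat_lit 6,nat_lit 4,nat_lit 4,nat_lit 6,nat_lit 6,nat_lit 13,nat_lit 3,nat_lit 13,nat_lit 4,nat_lit 7,nat_lit 7,nat_lit 13,nat_lit 4,nat_lit 4,nat_lit 8,nat_lit 8,nat_lit 15,nat_lit 0,nat_lit 0])))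
 (.node (.node (.leaf [nat_lit 12,nat_lit 14,nat_lit 8,nat_lit 10,nat_lit 12,nat_lit 1,nat_lit 1,nat_lit 15,nat_lit 7,nat_lit 14,nat_lit 2,nat_lit 2,nat_lit 13,nat_lit 1,nat_lit 1,nat_lit 15,nat_lit 2,nat_lit 5,nat_lit 5,nat_lit 13,nat_lit 0,nat_lit 4,nat_lit 15,nat_lit 5,nat_lit 8,nat_lit 8,nat_lit 3,nat_lit 3,nat_lit 6,nat_lit 7,nat_lit 7,nat_lit 5,nat_lit 5,nat_lit 13,nat_lit 3,nat_lit 3,nat_lit 0,nat_lit 15,nat_lit 5,nat_lit 13,nat_lit 6,nat_lit 6,nat_lit 4,nat_lit 4,nat_lit 7,nat_lit 15,nat_lit 2,nat_lit 2,nat_lit 12,nat_lit 4,nat_lit 4,nat_lit 14,nat_lit 2,nat_lit 12,nat_lit 13,nat_lit 0,nat_lit 0,nat_lit 1,nat_lit 15,nat_lit 14])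
 (.leaf [nat_lit 9,nat_lit 2,nat_lit 14,nat_lit 13,nat_lit 2,nat_lit 15,nat_lit 11,nat_lit 13,nat_lit 13,nat_lit 7,nat_lit 7,nat_lit 4,nat_lit 6,nat_lit 15,nat_lit 3,nat_lit 3,nat_lit 15,nat_lit 7,nat_lit 7,nat_lit 5,nat_lit 5,nat_lit 13,nat_lit 3,nat_lit 7,nat_lit 7,nat_lit 15,nat_lit 0,nat_lit 6,nat_lit 13,nat_lit 13,nat_lit 0,nat_lit 4,nat_lit 15,nat_lit 5,nat_lit 5,nat_lit 13,nat_lit 0,nat_lit 0,nat_lit 3,nat_lit 15,nat_lit 5]))
 (.leaf [nat_lit 9,nat_lit 0,nat_lit 14,nat_lit 3,nat_lit 3,nat_lit 1,nat_lit 7,nat_lit 2,nat_lit 14,nat_lit 15,nat_lit 9,nat_lit 9,nat_lit 9,nat_lit 9,nat_lit 9,nat_lit 9,nat_lit 9,nat_lit 9,nat_lit 12,nat_lit 15,nat_lit 15,nat_lit 15,nat_lit 7,nat_lit 7,nat_lit 3,nat_lit 15,nat_lit 0,nat_lit 0,nat_lit 8,nat_lit 8,nat_lit 15,nat_lit 3,nat_lit 3,nat_lit 15,nat_lit 0,nat_lit 13,nat_lit 3,nat_lit 15,nat_lit 3,nat_lit 3,nat_lit 7,nat_lit 7,nat_lit 2,nat_lit 12,nat_lit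 2,nat_lit 2,nat_lit 7,nat_lit 13,nat_lit 7,nat_lit 6,nat_lit 6,nat_lit 3,nat_lit 7,nat_lit 8]))))
 (.node (.node (.node (.node (.leaf [nat_lit 7,nat_lit 0,nat_lit 13,nat_lit 4,nat_lit 11,nat_lit 3,nat_lit 8,nat_lit 14,nat_lit 7,nat_lit 7,nat_lit 0,nat_lit 12,nat_lit 6,nat_lit 7,nat_lit 7,nat_lit 13,nat_lit 6,nat_lit 13,nat_lit 2,nat_lit 2,nat_lit 13,nat_lit 1,nat_lit 15,nat_lit 2,nat_lit 8,nat_lit 8,nat_lit 15,nat_lit 3,nat_lit 3,nat_lit 0,nat_lit 4,nat_lit 13,nat_lit 3,nat_lit 3,nat_lit 6,nat_lit 7,nat_lit 7,nat_lit 5,nat_lit 5,nat_lit 13,nat_lit 3,nat_lit 3,nat_lit 0,nat_lit 15,nat_lit 5,nat_lit 6,nat_lit 6,nat_lit 3,nat_lit 7,nat_lit 8])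
 (.leaf [nat_lit 9,nat_lit 6,nat_lit 11,nat_lit 13,nat_lit 6,nat_lit 6,nat_lit 0,nat_lit 0,nat_lit 8,nat_lit 12,nat_lit 13,nat_lit 0,nat_lit 0,nat_lit 13,nat_lit 4,nat_lit 5,nat_lit 5,nat_lit 6,nat_lit 3,nat_lit 5,nat_lit 5,nat_lit 0,nat_lit 0,nat_lit 15,nat_lit 6,nat_lit 13,nat_lit 6,nat_lit 6,nat_lit 3,nat_lit 7,nat_lit 3,nat_lit 3,nat_lit 6,nat_lit 7,nat_lit 7,nat_lit 5,nat_lit 5,nat_lit 13,nat_lit 3,nat_lit 3,nat_lit 0,nat_lit 15,nat_lit 5,nat_lit 6,nat_lit 6,nat_lit 3,nat_lit 7,nat_lit 8]))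
 (.node (.leaf [nat_lit 10,nat_lit 6,nat_lit 15,nat_lit 4,nat_lit 12,nat_lit 3,nat_lit 11,nat_lit 12,nat_lit 10,nat_lit 15,nat_lit 8,nat_lit 13,nat_lit 8,nat_lit 8,nat_lit 5,nat_lit 7,nat_lit 7,nat_lit 6,nat_lit 6,nat_lit 4,nat_lit 4,nat_lit 15,nat_lit 5,nat_lit 5,nat_lit 6,nat_lit 15,nat_lit 7,nat_lit 13,nat_lit 0,nat_lit 0,nat_lit 3,nat_lit 15,nat_lit 5,nat_lit 6,nat_lit 6,nat_lit 4,nat_lit 4,nat_lit 6,nat_lit 6,nat_lit 13,nat_lit 3,nat_lit 13,nat_lit 4,nat_lit 7,nat_lit 7,nat_lit 13,nat_lit 4,nat_lit 4,nat_lit 8,nat_lit 8,nat_lit 15,nat_lit 0,nat_lit 0])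
 (.leaf [nat_lit 7,nat_lit 0,nat_lit 11,nat_lit 15,nat_lit 2,nat_lit 3,nat_lit 14,nat_lit 5,nat_lit 1,nat_lit 10,nat_lit 7,nat_lit 14,nat_lit 4,nat_lit 4,nat_lit 7,nat_lit 7,nat_lit 12,nat_lit 2,nat_lit 12,nat_lit 2,nat_lit 2,nat_lit 12,nat_lit 6,nat_lit 8,nat_lit 3,nat_lit 3,nat_lit 13,nat_lit 7,nat_lit 7,nat_lit 4,nat_lit 5,nat_lit 6,nat_lit 6,nat_lit 4,nat_lit 4,nat_lit 15,nat_lit 5,nat_lit 5,nat_lit 13,nat_lit 13,nat_lit 4,nat_lit 8,nat_lit 3,nat_lit 5,nat_lit 5,nat_lit 13,nat_lit 3,nat_lit 3,nat_lit 0,nat_lit 15,nat_lit 5,nat_lit 6,nat_lit 6,nat_lit 3,nat_lit 7,nat_lit 8,nat_lit 5,nat_lit 5,nat_lit 13,nat_lit 0,nat_lit 0,nat_lit 3,nat_lit 15,nat_lit 5])))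
 (.node (.node (.leaf [nat_lit 7,nat_lit 2,nat_lit 14,nat_lit 14,nat_lit 14,nat_lit 7,nat_lit 7,nat_lit 0,nat_lit 12,nat_lit 13,nat_lit 3,nat_lit 15,nat_lit 3,nat_lit 3,nat_lit 0,nat_lit 15,nat_lit 0,nat_lit 15,nat_lit 5,nat_lit 5,nat_lit 13,nat_lit 3,nat_lit 3,nat_lit 0,nat_lit 15,nat_lit 5,nat_lit 0,nat_lit 13,nat_lit 8,nat_lit 4,nat_lit 15,nat_lit 7,nat_lit 4,nat_lit 4,nat_lit 15,nat_lit 3,nat_lit 3,nat_lit 15,nat_lit 6,nat_lit 4,nat_lit 6,nat_lit 8,nat_lit 8,nat_lit 3,nat_lit 3,nat_lit 6,nat_lit 7,nat_lit 7])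
 (.leaf [nat_lit 9,nat_lit 15,nat_lit 1,nat_lit 1,nat_lit 14,nat_lit 0,nat_lit 4,nat_lit 10,nat_lit 13,nat_lit 14,nat_lit 7,nat_lit 7,nat_lit 2,nat_lit 12,nat_lit 15,nat_lit 2,nat_lit 2,nat_lit 13,nat_lit 12,nat_lit 12,nat_lit 13,nat_lit 7,nat_lit 5,nat_lit 13,nat_lit 3,nat_lit 5,nat_lit 13,nat_lit 3,nat_lit 5,nat_lit 5,nat_lit 15,nat_lit 7,nat_lit 7,nat_lit 3,nat_lit 3,nat_lit 6,nat_lit 0,nat_lit 8,nat_lit 13,nat_lit 5,nat_lit 15,nat_lit 8,nat_lit 13,nat_lit 6,nat_lit 6,nat_lit 4,nat_lit 4,nat_lit 15,nat_lit 5,nat_lit 5,nat_lit 3,nat_lit 15,nat_lit 15,nat_lit 6]))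
 (.node (.leaf [nat_lit 2,nat_lit 1,nat_lit 14,nat_lit 10,nat_lit 3,nat_lit 12,nat_lit 12,nat_lit 10,nat_lit 13,nat_lit 14,nat_lit 7,nat_lit 7,nat_lit 0,nat_lit 12,nat_lit 5,nat_lit 13,nat_lit 9,nat_lit 14,nat_lit 14,nat_lit 5,nat_lit 5,nat_lit 13,nat_lit 0,nat_lit 4,nat_lit 3,nat_lit 3,nat_lit 0,nat_lit 15,nat_lit 5])
 (.leaf [nat_lit 9,nat_lit 6,nat_lit 15,nat_lit 4,nat_lit 13,nat_lit 5,nat_lit 5,nat_lit 2,nat_lit 2,nat_lit 13,nat_lit 4,nat_lit 12,nat_lit 7,nat_lit 13,nat_lit 4,nat_lit 4,nat_lit 13,nat_lit 13,nat_lit 6,nat_lit 6,nat_lit 13,nat_lit 13,nat_lit 4,nat_lit 4,nat_lit 5,nat_lit 5,nat_lit 13,nat_lit 0,nat_lit 7,nat_lit 5,nat_lit 5,nat_lit 13,nat_lit 3,nat_lit 3,nat_lit 0,nat_lit 15,nat_lit 5,nat_lit 13,nat_lit 6,nat_lit 6,nat_lit 4,nat_lit 4,nat_lit 7,nat_lit 15,nat_lit 2,nat_lit 2,nat_lit 12,nat_lit 4,nat_lit 4,nat_lit 14,nat_lit 2,nat_lit 12,nat_lit 13,nat_lit 0,nat_lit 0,nat_lit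 1,nat_lit 15,nat_lit 14]))))
 (.node (.node (.node (.leaf [nat_lit 1,nat_lit 3,nat_lit 12,nat_lit 0,nat_lit 15,nat_lit 3,nat_lit 3,nat_lit 12,nat_lit 0,nat_lit 1,nat_lit 4,nat_lit 4,nat_lit 14,nat_lit 14,nat_lit 4,nat_lit 2,nat_lit 2,nat_lit 13,nat_lit 8,nat_lit 15,nat_lit 2,nat_lit 13,nat_lit 6,nat_lit 7,nat_lit 7,nat_lit 15,nat_lit 12,nat_lit 1,nat_lit 1,nat_lit 14,nat_lit 1,nat_lit 12,nat_lit 1,nat_lit 2,nat_lit 2,nat_lit 14,nat_lit 1,nat_lit 9,nat_lit 8,nat_lit 2,nat_lit 7,nat_lit 15,nat_lit 5,nat_lit 5,nat_lit 13,nat_lit 3,nat_lit 3,nat_lit 0,nat_lit 15,nat_lit 5])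
 (.leaf [nat_lit 9,nat_lit 1,nat_lit 14,nat_lit 10,nat_lit 12,nat_lit 12,nat_lit 8,nat_lit 14,nat_lit 14,nat_lit 6,nat_lit 6,nat_lit 15,nat_lit 3,nat_lit 1,nat_lit 1,nat_lit 15,nat_lit 12,nat_lit 0,nat_lit 3,nat_lit 12,nat_lit 12,nat_lit 0,nat_lit 14,nat_lit 14,nat_lit 0,nat_lit 0,nat_lit 14,nat_lit 3,nat_lit 13,nat_lit 1,nat_lit 5,nat_lit 5,nat_lit 13,nat_lit 3,nat_lit 3,nat_lit 0,nat_lit 15,nat_lit 5,nat_lit 8,nat_lit 8,nat_lit 3,nat_lit 3,nat_lit 6,nat_lit 7,nat_lit 7,nat_lit 5,nat_lit 5,nat_lit 13,nat_lit 3,nat_lit 3,nat_lit 0,nat_lit 15,nat_lit 5]))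
 (.node (.leaf [nat_lit 9,nat_lit 6,nat_lit 3,nat_lit 15,nat_lit 4,nat_lit 4,nat_lit 0,nat_lit 0,nat_lit 13,nat_lit 2,nat_lit 7,nat_lit 11,nat_lit 11,nat_lit 11,nat_lit 11,nat_lit 11,nat_lit 11,nat_lit 11,nat_lit 11,nat_lit 15,nat_lit 1,nat_lit 13,nat_lit 11,nat_lit 8,nat_lit 8,nat_lit 3,nat_lit 3,nat_lit 6,nat_lit 7,nat_lit 7,nat_lit 12,nat_lit 12,nat_lit 0,nat_lit 14,nat_lit 14,nat_lit 7,nat_lit 7,nat_lit 14,nat_lit 8,nat_lit 14,nat_lit 3,nat_lit 3,nat_lit 6,nat_lit 7,nat_lit 7])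
 (.leaf [nat_lit 11,nat_lit 2,nat_lit 14,nat_lit 9,nat_lit 13,nat_lit 13,nat_lit 3,nat_lit 3,nat_lit 15,nat_lit 10,nat_lit 14,nat_lit 6,nat_lit 6,nat_lit 4,nat_lit 4,nat_lit 15,nat_lit 5,nat_lit 5,nat_lit 0,nat_lit 0,nat_lit 15,nat_lit 0,nat_lit 3,nat_lit 2,nat_lit 2,nat_lit 13,nat_lit 1,nat_lit 15,nat_lit 2,nat_lit 8,nat_lit 8,nat_lit 15,nat_lit 3,nat_lit 3,nat_lit 0,nat_lit 4,nat_lit 13,nat_lit 8,nat_lit 13,nat_lit 6,nat_lit 7,nat_lit 7,nat_lit 15,nat_lit 14,nat_lit 15,nat_lit 3,nat_lit 3,nat_lit 0,nat_lit 13,nat_lit 12,nat_lit 13,nat_lit 7,nat_lit 6,nat_lit 6,nat_lit 15])))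
 (.node (.node (.leaf [nat_lit 9,nat_lit 0,nat_lit 5,nat_lit 11,nat_lit 1,nat_lit 1,nat_lit 14,nat_lit 5,nat_lit 5,nat_lit 12,nat_lit 1,nat_lit 2,nat_lit 2,nat_lit 13,nat_lit 1,nat_lit 15,nat_lit 2,nat_lit 8,nat_lit 8,nat_lit 3,nat_lit 3,nat_lit 6,nat_lit 7,nat_lit 7,nat_lit 5,nat_lit 5,nat_lit 13,nat_lit 0,nat_lit 0,nat_lit 3,nat_lit 15,nat_lit 5,nat_lit 6,nat_lit 6,nat_lit 3,nat_lit 7,nat_lit 8,nat_lit 6,nat_lit 6,nat_lit 3,nat_lit 7,nat_lit 8])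
 (.leaf [nat_lit 9,nat_lit 7,nat_lit 5,nat_lit 5,nat_lit 14,nat_lit 1,nat_lit 1,nat_lit 13,nat_lit 2,nat_lit 9,nat_lit 4,nat_lit 4,nat_lit 13,nat_lit 4,nat_lit 15,nat_lit 4,nat_lit 15,nat_lit 8,nat_lit 8,nat_lit 13,nat_lit 7,nat_lit 7,nat_lit 15,nat_lit 5,nat_lit 5,nat_lit 3,nat_lit 13,nat_lit 7,nat_lit 7,nat_lit 5,nat_lit 5,nat_lit 13,nat_lit 3,nat_lit 3,nat_lit 0,nat_lit 15,nat_lit 5,nat_lit 4,nat_lit 6,nat_lit 6,nat_lit 8,nat_lit 4,nat_lit 4,nat_lit 5,nat_lit 5,nat_lit 1,nat_lit 1,nat_lit 14,nat_lit 0,nat_lit 0,nat_lit 8,nat_lit 12,nat_lit 1,nat_lit 5,nat_lit 6]))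
 (.leaf [nat_lit 9,nat_lit 2,nat_lit 6,nat_lit 8,nat_lit 12,nat_lit 12,nat_lit 1,nat_lit 1,nat_lit 14,nat_lit 6,nat_lit 10,nat_lit 7,nat_lit 7,nat_lit 15,nat_lit 5,nat_lit 5,nat_lit 6,nat_lit 6,nat_lit 13,nat_lit 4,nat_lit 8,nat_lit 8,nat_lit 6,nat_lit 4,nat_lit 3,nat_lit 7,nat_lit 8,nat_lit 5,nat_lit 5,nat_lit 13,nat_lit 0,nat_lit 0,nat_lit 3,nat_lit 15,nat_lit 5,nat_lit 0,nat_lit 13,nat_lit 8,nat_lit 4,nat_lit 15,nat_lit 7,nat_lit 4,nat_lit 4,nat_lit 15,nat_lit 3,nat_lit 3,nat_lit 15,nat_lit 6,nat_lit 4,nat_lit 6,nat_lit 8,nat_lit 8,nat_lit 3,nat_lit 3,nat_lit 6,nat_lit 7,nat_lit 7]))))))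
 (.node (.node (.node (.node (.node (.node (.leaf [nat_lit 11,nat_lit 13,nat_lit 1,nat_lit 1,nat_lit 12,nat_lit 13,nat_lit 9,nat_lit 14,nat_lit 1,nat_lit 1,nat_lit 13,nat_lit 6,nat_lit 4,nat_lit 0,nat_lit 0,nat_lit 12,nat_lit 7,nat_lit 7,nat_lit 14,nat_lit 13,nat_lit 7,nat_lit 7,nat_lit 5,nat_lit 12,nat_lit 8,nat_lit 6,nat_lit 4,nat_lit 15,nat_lit 3,nat_lit 15,nat_lit 6,nat_lit 6,nat_lit 14,nat_lit 1,nat_lit 12,nat_lit 15,nat_lit 7,nat_lit 13,nat_lit 10,nat_lit 6,nat_lit 13,nat_lit 0,nat_lit 0,nat_lit 3,nat_lit 15,nat_lit 5,nat_lit 8,nat_lit 8,nat_lit 3,nat_lit 3,nat_lit 6,nat_lit 7,nat_lit 7])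
 (.leaf [nat_lit 2,nat_lit 12,nat_lit 12,nat_lit 2,nat_lit 12,nat_lit 10,nat_lit 3,nat_lit 9,nat_lit 4,nat_lit 4,nat_lit 14,nat_lit 14,nat_lit 4,nat_lit 2,nat_lit 2,nat_lit 13,nat_lit 8,nat_lit 15,nat_lit 2,nat_lit 8,nat_lit 8,nat_lit 15,nat_lit 3,nat_lit 3,nat_lit 0,nat_lit 0,nat_lit 13,nat_lit 8,nat_lit 4,nat_lit 4,nat_lit 13,nat_lit 3,nat_lit 3,nat_lit 0,nat_lit 0,nat_lit 15,nat_lit 4,nat_lit 5,nat_lit 5,nat_lit 13,nat_lit 0,nat_lit 0,nat_lit 3,nat_lit 15,nat_lit 5]))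
 (.node (.leaf [nat_lit 7,nat_lit 0,nat_lit 0,nat_lit 3,nat_lit 13,nat_lit 14,nat_lit 10,nat_lit 13,nat_lit 3,nat_lit 4,nat_lit 4,nat_lit 13,nat_lit 0,nat_lit 3,nat_lit 15,nat_lit 4,nat_lit 13,nat_lit 6,nat_lit 7,nat_lit 7,nat_lit 15,nat_lit 12,nat_lit 1,nat_lit 1,nat_lit 14,nat_lit 1,nat_lit 12,nat_lit 1,nat_lit 2,nat_lit 2,nat_lit 14,nat_lit 1,nat_lit 9,nat_lit 8,nat_lit 2,nat_lit 7,nat_lit 15,nat_lit 5,nat_lit 5,nat_lit 13,nat_lit 0,nat_lit 0,nat_lit 3,nat_lit 15,nat_lit 5])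
 (.leaf [nat_lit 9,nat_lit 15,nat_lit 0,nat_lit 0,nat_lit 2,nat_lit 3,nat_lit 14,nat_lit 4,nat_lit 4,nat_lit 1,nat_lit 1,nat_lit 12,nat_lit 1,nat_lit 12,nat_lit 7,nat_lit 15,nat_lit 15,nat_lit 5,nat_lit 5,nat_lit 6,nat_lit 3,nat_lit 5,nat_lit 5,nat_lit 0,nat_lit 0,nat_lit 15,nat_lit 6,nat_lit 13,nat_lit 6,nat_lit 6,nat_lit 3,nat_lit 7,nat_lit 8])))
 (.node (.node (.leaf [nat_lit 9,nat_lit 1,nat_lit 6,nat_lit 3,nat_lit 2,nat_lit 2,nat_lit 8,nat_lit 8,nat_lit 15,nat_lit 15,nat_lit 14,nat_lit 2,nat_lit 2,nat_lit 3,nat_lit 14,nat_lit 8,nat_lit 8,nat_lit 2,nat_lit 2,nat_lit 3,nat_lit 13,nat_lit 13,nat_lit 8,nat_lit 15,nat_lit 3,nat_lit 4,nat_lit 13,nat_lit 7,nat_lit 7,nat_lit 15,nat_lit 4,nat_lit 4,nat_lit 3,nat_lit 3,nat_lit 4,nat_lit 5,nat_lit 13,nat_lit 8,nat_lit 8,nat_lit 3,nat_lit 3,nat_lit 6,nat_lit 7,nat_lit 7])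
 (.leaf [nat_lit 9,nat_lit 0,nat_lit 0,nat_lit 11,nat_lit 11,nat_lit 3,nat_lit 8,nat_lit 3,nat_lit 3,nat_lit 15,nat_lit 5,nat_lit 7,nat_lit 13,nat_lit 3,nat_lit 2,nat_lit 2,nat_lit 13,nat_lit 1,nat_lit 15,nat_lit 2,nat_lit 8,nat_lit 8,nat_lit 15,nat_lit 3,nat_lit 3,nat_lit 0,nat_lit 4,nat_lit 13,nat_lit 3,nat_lit 3,nat_lit 6,nat_lit 7,nat_lit 7,nat_lit 13,nat_lit 6,nat_lit 6,nat_lit 4,nat_lit 4,nat_lit 7,nat_lit 15,nat_lit 2,nat_lit 2,nat_lit 12,nat_lit 4,nat_lit 4,nat_lit 14,nat_lit 2,nat_lit 12,nat_lit 13,nat_lit 0,nat_lit 0,nat_lit 1,nat_lit 15,nat_lit 14]))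
 (.node (.leaf [nat_lit 9,nat_lit 15,nat_lit 2,nat_lit 7,nat_lit 4,nat_lit 4,nat_lit 5,nat_lit 5,nat_lit 14,nat_lit 10,nat_lit 15,nat_lit 10,nat_lit 15,nat_lit 6,nat_lit 6,nat_lit 8,nat_lit 9,nat_lit 10,nat_lit 6,nat_lit 6,nat_lit 5,nat_lit 5,nat_lit 0,nat_lit 0,nat_lit 13,nat_lit 5,nat_lit 5,nat_lit 2,nat_lit 2,nat_lit 13,nat_lit 1,nat_lit 15,nat_lit 2,nat_lit 8,nat_lit 8,nat_lit 15,nat_lit 3,nat_lit 3,nat_lit 0,nat_lit 4,nat_lit 13,nat_lit 8,nat_lit 8,nat_lit 6,nat_lit 4,nat_lit 6,nat_lit 5,nat_lit 5,nat_lit 13,nat_lit 3,nat_lit 3,nat_lit 0,nat_lit 15,nat_lit 5,nat_lit 4,nat_lit 6,nat_lit 6,nat_lit 8,nat_lit 4,nat_lit 4,nat_lit 5,nat_lit 5,nat_lit 1,nat_lit 1,nat_lit 14,nat_lit 0,nat_lit 0,nat_lit 8,nat_lit 12,nat_lit 1,nat_lit 5,nat_lit 6])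
 (.leaf [nat_lit 9,nat_lit 12,nat_lit 5,nat_lit 14,nat_lit 15,nat_lit 9,nat_lit 9,nat_lit 9,nat_lit 9,nat_lit 9,nat_lit 9,nat_lit 9,nat_lit 9,nat_lit 12,nat_lit 7,nat_lit 7,nat_lit 4,nat_lit 6,nat_lit 15,nat_lit 6,nat_lit 6,nat_lit 15,nat_lit 3,nat_lit 2,nat_lit 2,nat_lit 7,nat_lit 7,nat_lit 1,nat_lit 1,nat_lit 3,nat_lit 14,nat_lit 0,nat_lit 0,nat_lit 14,nat_lit 7,nat_lit 13,nat_lit 0,nat_lit 0,nat_lit 3,nat_lit 15,nat_lit 5]))))
 (.node (.node (.node (.leaf [nat_lit 2,nat_lit 6,nat_lit 6,nat_lit 14,nat_lit 1,nat_lit 1,nat_lit 12,nat_lit 8,nat_lit 8,nat_lit 10,nat_lit 9,nat_lit 13,nat_lit 13,nat_lit 7,nat_lit 6,nat_lit 6,nat_lit 7,nat_lit 7,nat_lit 13,nat_lit 13,nat_lit 7,nat_lit 3,nat_lit 3,nat_lit 15,nat_lit 0,nat_lit 0,nat_lit 13,nat_lit 3,nat_lit 7,nat_lit 7,nat_lit 15,nat_lit 15,nat_lit 7,nat_lit 15,nat_lit 5,nat_lit 5,nat_lit 13,nat_lit 0,nat_lit 0,nat_lit 3,nat_lit 15,nat_lit 5])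
 (.leaf [nat_lit 0,nat_lit 1,nat_lit 6,nat_lit 8,nat_lit 3,nat_lit 3,nat_lit 14,nat_lit 3,nat_lit 12,nat_lit 2,nat_lit 2,nat_lit 13,nat_lit 1,nat_lit 15,nat_lit 2,nat_lit 5,nat_lit 5,nat_lit 15,nat_lit 8,nat_lit 8,nat_lit 0,nat_lit 0,nat_lit 13,nat_lit 13,nat_lit 0,nat_lit 4,nat_lit 15,nat_lit 5,nat_lit 8,nat_lit 8,nat_lit 3,nat_lit 3,nat_lit 6,nat_lit 7,nat_lit 7,nat_lit 0,nat_lit 13,nat_lit 8,nat_lit 4,nat_lit 15,nat_lit 7,nat_lit 4,nat_lit 4,nat_lit 15,nat_lit 3,nat_lit 3,nat_lit 15,nat_lit 6,nat_lit 4,nat_lit 6,nat_lit 8,nat_lit 8,nat_lit 3,nat_lit 3,nat_lit 6,nat_lit 7,nat_lit 7]))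
 (.node (.leaf [nat_lit 7,nat_lit 1,nat_lit 9,nat_lit 2,nat_lit 15,nat_lit 6,nat_lit 6,nat_lit 3,nat_lit 3,nat_lit 12,nat_lit 0,nat_lit 14,nat_lit 7,nat_lit 7,nat_lit 0,nat_lit 13,nat_lit 7,nat_lit 3,nat_lit 14,nat_lit 6,nat_lit 6,nat_lit 4,nat_lit 9,nat_lit 12,nat_lit 1,nat_lit 1,nat_lit 0,nat_lit 0,nat_lit 6,nat_lit 13,nat_lit 5,nat_lit 5,nat_lit 13,nat_lit 0,nat_lit 0,nat_lit 3,nat_lit 15,nat_lit 5,nat_lit 12,nat_lit 13,nat_lit 1,nat_lit 1,nat_lit 0,nat_lit 15,nat_lit 14,nat_lit 2,nat_lit 2,nat_lit 12,nat_lit 4,nat_lit 14,nat_lit 2,nat_lit 13,nat_lit 7,nat_lit 7,nat_lit 4,nat_lit 6,nat_lit 15])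
 (.leaf [nat_lit 9,nat_lit 3,nat_lit 9,nat_lit 3,nat_lit 12,nat_lit 2,nat_lit 2,nat_lit 7,nat_lit 14,nat_lit 3,nat_lit 5,nat_lit 13,nat_lit 3,nat_lit 5,nat_lit 13,nat_lit 3,nat_lit 8,nat_lit 15,nat_lit 3,nat_lit 4,nat_lit 13,nat_lit 7,nat_lit 7,nat_lit 15,nat_lit 4,nat_lit 4,nat_lit 3,nat_lit 3,nat_lit 4,nat_lit 5,nat_lit 13,nat_lit 5,nat_lit 5,nat_lit 13,nat_lit 0,nat_lit 0,nat_lit 3,nat_lit 15,nat_lit 5,nat_lit 4,nat_lit 6,nat_lit 6,nat_lit 8,nat_lit 4,nat_lit 4,nat_lit 5,nat_lit 5,nat_lit 1,nat_lit 1,nat_lit 14,nat_lit 0,nat_lit 0,nat_lit 8,nat_lit 12,nat_lit 1,nat_lit 5,nat_lit 6])))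
 (.node (.node (.leaf [nat_lit 9,nat_lit 0,nat_lit 4,nat_lit 5,nat_lit 13,nat_lit 4,nat_lit 6,nat_lit 4,nat_lit 4,nat_lit 13,nat_lit 0,nat_lit 3,nat_lit 15,nat_lit 4,nat_lit 7,nat_lit 7,nat_lit 15,nat_lit 15,nat_lit 7,nat_lit 15,nat_lit 5,nat_lit 5,nat_lit 0,nat_lit 0,nat_lit 13,nat_lit 6,nat_lit 5,nat_lit 8,nat_lit 8,nat_lit 3,nat_lit 3,nat_lit 6,nat_lit 7,nat_lit 7])
 (.leaf [nat_lit 9,nat_lit 2,nat_lit 5,nat_lit 13,nat_lit 6,nat_lit 6,nat_lit 14,nat_lit 2,nat_lit 2,nat_lit 9,nat_lit 11,nat_lit 4,nat_lit 12,nat_lit 8,nat_lit 8,nat_lit 0,nat_lit 14,nat_lit 13,nat_lit 12,nat_lit 0,nat_lit 5,nat_lit 5,nat_lit 15,nat_lit 8,nat_lit 13,nat_lit 3,nat_lit 13,nat_lit 3,nat_lit 3,nat_lit 15,nat_lit 4,nat_lit 4,nat_lit 0,nat_lit 0,nat_lit 15,nat_lit 15,nat_lit 8,nat_lit 8,nat_lit 3,nat_lit 3,nat_lit 6,nat_lit 7,nat_lit 7,nat_lit 12,nat_lit 13,nat_lit 1,nat_lit 1,nat_lit 0,nat_lit 15,nat_lit 14,nat_lit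 2,nat_lit 2,nat_lit 12,nat_lit 4,nat_lit 14,nat_lit 2,nat_lit 13,nat_lit 7,nat_lit 7,nat_lit 4,nat_lit 6,nat_lit 15]))
 (.leaf [nat_lit 10,nat_lit 7,nat_lit 13,nat_lit 2,nat_lit 14,nat_lit 14,nat_lit 7,nat_lit 13,nat_lit 5,nat_lit 15,nat_lit 8,nat_lit 8,nat_lit 13,nat_lit 13,nat_lit 0,nat_lit 4,nat_lit 15,nat_lit 7,nat_lit 7,nat_lit 13,nat_lit 2,nat_lit 2,nat_lit 0,nat_lit 0,nat_lit 6,nat_lit 13,nat_lit 3,nat_lit 3,nat_lit 15,nat_lit 2,nat_lit 13,nat_lit 3]))))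
 (.node (.node (.node (.node (.leaf [nat_lit 12,nat_lit 14,nat_lit 8,nat_lit 8,nat_lit 14,nat_lit 15,nat_lit 0,nat_lit 13,nat_lit 12,nat_lit 12,nat_lit 15,nat_lit 1,nat_lit 1,nat_lit 13,nat_lit 14,nat_lit 15,nat_lit 6,nat_lit 6,nat_lit 14,nat_lit 1,nat_lit 12,nat_lit 0,nat_lit 0,nat_lit 15,nat_lit 0,nat_lit 1,nat_lit 15,nat_lit 6,nat_lit 15,nat_lit 9,nat_lit 9,nat_lit 9,nat_lit 9,nat_lit 9,nat_lit 9,nat_lit 9,nat_lit 9,nat_lit 6,nat_lit 12,nat_lit 8])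
 (.leaf [nat_lit 4,nat_lit 9,nat_lit 4,nat_lit 10,nat_lit 14,nat_lit 5,nat_lit 5,nat_lit 15,nat_lit 6,nat_lit 14,nat_lit 2,nat_lit 5,nat_lit 8,nat_lit 8,nat_lit 15,nat_lit 0,nat_lit 3,nat_lit 13,nat_lit 8,nat_lit 2,nat_lit 2,nat_lit 13,nat_lit 1,nat_lit 15,nat_lit 2,nat_lit 8,nat_lit 8,nat_lit 15,nat_lit 3,nat_lit 3,nat_lit 0,nat_lit 4,nat_lit 13,nat_lit 8,nat_lit 8,nat_lit 6,nat_lit 4,nat_lit 13,nat_lit 13,nat_lit 3,nat_lit 3,nat_lit 5,nat_lit 13,nat_lit 4,nat_lit 6,nat_lit 15,nat_lit 8,nat_lit 8,nat_lit 13,nat_lit 5,nat_lit 5,nat_lit 15,nat_lit 8,nat_lit 8,nat_lit 0,nat_lit 0,nat_lit 13,nat_lit 5]))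
 (.node (.leaf [nat_lit 2,nat_lit 9,nat_lit 8,nat_lit 9,nat_lit 9,nat_lit 9,nat_lit 9,nat_lit 9,nat_lit 9,nat_lit 9,nat_lit 6,nat_lit 6,nat_lit 0,nat_lit 1,nat_lit 15,nat_lit 8,nat_lit 15,nat_lit 15,nat_lit 6,nat_lit 15,nat_lit 15,nat_lit 5,nat_lit 5,nat_lit 15,nat_lit 8,nat_lit 13,nat_lit 5,nat_lit 8,nat_lit 13,nat_lit 3,nat_lit 13,nat_lit 3,nat_lit 3,nat_lit 15,nat_lit 4,nat_lit 4,nat_lit 0,nat_lit 0,nat_lit 15,nat_lit 15,nat_lit 5,nat_lit 5,nat_lit 15,nat_lit 0,nat_lit 8,nat_lit 13,nat_lit 13,nat_lit 0,nat_lit 4,nat_lit 15,nat_lit 5,nat_lit 14,nat_lit 15,nat_lit 0,nat_lit 0,nat_lit 3,nat_lit 13,nat_lit 12,nat_lit 8,nat_lit 6,nat_lit 4,nat_lit 6])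
 (.leaf [nat_lit 9,nat_lit 0,nat_lit 3,nat_lit 11,nat_lit 12,nat_lit 12,nat_lit 0,nat_lit 13,nat_lit 1,nat_lit 12,nat_lit 1,nat_lit 3,nat_lit 3,nat_lit 13,nat_lit 6,nat_lit 14,nat_lit 6,nat_lit 6,nat_lit 4,nat_lit 9,nat_lit 12,nat_lit 1,nat_lit 1,nat_lit 0,nat_lit 0,nat_lit 6,nat_lit 13,nat_lit 8,nat_lit 8,nat_lit 3,nat_lit 3,nat_lit 6,nat_lit 7,nat_lit 7,nat_lit 5,nat_lit 5,nat_lit 13,nat_lit 3,nat_lit 3,nat_lit 0,nat_lit 15,nat_lit 5,nat_lit 4,nat_lit 6,nat_lit 6,nat_lit 8,nat_lit 4,nat_lit 4,nat_lit 5,nat_lit 5,nat_lit 1,nat_lit 1,nat_lit 14,nat_lit 0,nat_lit 0,nat_lit 8,nat_lit 12,nat_lit 1,nat_lit 5,nat_lit 6])))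
 (.node (.node (.leaf [nat_lit 9,nat_lit 3,nat_lit 3,nat_lit 6,nat_lit 6,nat_lit 4,nat_lit 9,nat_lit 4,nat_lit 4,nat_lit 12,nat_lit 4,nat_lit 14,nat_lit 4,nat_lit 4,nat_lit 14,nat_lit 4,nat_lit 12,nat_lit 8,nat_lit 3,nat_lit 12,nat_lit 12,nat_lit 0,nat_lit 14,nat_lit 14,nat_lit 7,nat_lit 7,nat_lit 14,nat_lit 8,nat_lit 14,nat_lit 8,nat_lit 13,nat_lit 6,nat_lit 7,nat_lit 7,nat_lit 15,nat_lit 14,nat_lit 15,nat_lit 3,nat_lit 3,nat_lit 0,nat_lit 13,nat_lit 12,nat_lit 13,nat_lit 7,nat_lit 6,nat_lit 6,nat_lit 15])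
 (.leaf [nat_lit 3,nat_lit 8,nat_lit 13,nat_lit 12,nat_lit 5,nat_lit 5,nat_lit 1,nat_lit 1,nat_lit 2,nat_lit 15,nat_lit 15,nat_lit 15,nat_lit 5,nat_lit 5,nat_lit 6,nat_lit 3,nat_lit 13,nat_lit 13,nat_lit 3,nat_lit 3,nat_lit 0,nat_lit 4,nat_lit 15,nat_lit 6,nat_lit 6,nat_lit 13,nat_lit 7,nat_lit 7,nat_lit 0,nat_lit 0,nat_lit 15,nat_lit 6,nat_lit 5,nat_lit 5,nat_lit 13,nat_lit 3,nat_lit 3,nat_lit 0,nat_lit 15,nat_lit 5,nat_lit 8,nat_lit 8,nat_lit 3,nat_lit 3,nat_lit 6,nat_lit 7,nat_lit 7,nat_lit 5,nat_lit 5,nat_lit 13,nat_lit 0,nat_lit 0,nat_lit 3,nat_lit 15,nat_lit 5,nat_lit 6,nat_lit 6,nat_lit 3,nat_lit 7,nat_lit 8]))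
 (.node (.leaf [nat_lit 0,nat_lit 1,nat_lit 15,nat_lit 1,nat_lit 0,nat_lit 0,nat_lit 2,nat_lit 10,nat_lit 14,nat_lit 13,nat_lit 13,nat_lit 7,nat_lit 7,nat_lit 0,nat_lit 0,nat_lit 3,nat_lit 6,nat_lit 15,nat_lit 5,nat_lit 5,nat_lit 15,nat_lit 8,nat_lit 8,nat_lit 0,nat_lit 0,nat_lit 13,nat_lit 13,nat_lit 0,nat_lit 4,nat_lit 15,nat_lit 5,nat_lit 8,nat_lit 8,nat_lit 3,nat_lit 3,nat_lit 6,nat_lit 7,nat_lit 7,nat_lit 4,nat_lit 6,nat_lit 6,nat_lit 8,nat_lit 4,nat_lit 4,nat_lit 5,nat_lit 5,nat_lit 1,nat_lit 1,nat_lit 14,nat_lit 0,nat_lit 0,nat_lit 8,nat_lit 12,nat_lit 1,nat_lit 5,nat_lit 6])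
 (.leaf [nat_lit 9,nat_lit 6,nat_lit 11,nat_lit 6,nat_lit 6,nat_lit 7,nat_lit 11,nat_lit 11,nat_lit 14,nat_lit 0,nat_lit 0,nat_lit 7,nat_lit 12,nat_lit 2,nat_lit 2,nat_lit 15,nat_lit 6,nat_lit 6,nat_lit 5,nat_lit 5,nat_lit 14,nat_lit 8,nat_lit 8,nat_lit 12,nat_lit 5,nat_lit 5,nat_lit 0,nat_lit 0,nat_lit 9,nat_lit 9,nat_lit 6,nat_lit 6,nat_lit 4,nat_lit 4,nat_lit 6,nat_lit 6,nat_lit 13,nat_lit 3,nat_lit 13,nat_lit 4,nat_lit 7,nat_lit 7,nat_lit 13,nat_lit 4,nat_lit 4,nat_lit 8,nat_lit 8,nat_lit 15,nat_lit 0,nat_lit 0]))))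
 (.node (.node (.node (.leaf [nat_lit 2,nat_lit 11,nat_lit 2,nat_lit 9,nat_lit 9,nat_lit 9,nat_lit 9,nat_lit 9,nat_lit 9,nat_lit 9,nat_lit 9,nat_lit 13,nat_lit 10,nat_lit 10,nat_lit 7,nat_lit 15,nat_lit 6,nat_lit 13,nat_lit 7,nat_lit 5,nat_lit 5,nat_lit 15,nat_lit 8,nat_lit 8,nat_lit 0,nat_lit 0,nat_lit 13,nat_lit 5,nat_lit 13,nat_lit 6,nat_lit 6,nat_lit 4,nat_lit 4,nat_lit 7,nat_lit 15,nat_lit 2,nat_lit 2,nat_lit 12,nat_lit 4,nat_lit 4,nat_lit 14,nat_lit 2,nat_lit 12,nat_lit 13,nat_lit 0,nat_lit 0,nat_lit 1,nat_lit 15,nat_lit 14])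
 (.leaf [nat_lit 9,nat_lit 7,nat_lit 7,nat_lit 5,nat_lit 5,nat_lit 14,nat_lit 13,nat_lit 1,nat_lit 7,nat_lit 15,nat_lit 14,nat_lit 14,nat_lit 13,nat_lit 5,nat_lit 5,nat_lit 8,nat_lit 8,nat_lit 13,nat_lit 14,nat_lit 2,nat_lit 2,nat_lit 14,nat_lit 2,nat_lit 5,nat_lit 12,nat_lit 12,nat_lit 0,nat_lit 14,nat_lit 14,nat_lit 7,nat_lit 7,nat_lit 14,nat_lit 8,nat_lit 14,nat_lit 8,nat_lit 5,nat_lit 5,nat_lit 13,nat_lit 0,nat_lit 0,nat_lit 3,nat_lit 15,nat_lit 5]))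
 (.node (.leaf [nat_lit 10,nat_lit 9,nat_lit 5,nat_lit 2,nat_lit 2,nat_lit 15,nat_lit 12,nat_lit 13,nat_lit 9,nat_lit 14,nat_lit 8,nat_lit 8,nat_lit 13,nat_lit 8,nat_lit 8,nat_lit 0,nat_lit 0,nat_lit 15,nat_lit 8,nat_lit 14,nat_lit 15,nat_lit 3,nat_lit 3,nat_lit 0,nat_lit 13,nat_lit 12,nat_lit 3,nat_lit 3,nat_lit 15,nat_lit 4,nat_lit 4,nat_lit 13,nat_lit 3,nat_lit 5,nat_lit 5,nat_lit 2,nat_lit 2,nat_lit 0,nat_lit 0,nat_lit 11,nat_lit 10,nat_lit 13,nat_lit 4,nat_lit 6,nat_lit 6,nat_lit 8,nat_lit 4,nat_lit 4,nat_lit 5,nat_lit 5,nat_lit 1,nat_lit 1,nat_lit 14,nat_lit 0,nat_lit 0,nat_lit 8,nat_lit 12,nat_lit 1,nat_lit 5,nat_lit 6])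
 (.leaf [nat_lit 9,nat_lit 4,nat_lit 4,nat_lit 13,nat_lit 6,nat_lit 15,nat_lit 11,nat_lit 11,nat_lit 14,nat_lit 4,nat_lit 4,nat_lit 13,nat_lit 0,nat_lit 3,nat_lit 15,nat_lit 4,nat_lit 5,nat_lit 5,nat_lit 13,nat_lit 0,nat_lit 4,nat_lit 15,nat_lit 5,nat_lit 14,nat_lit 15,nat_lit 0,nat_lit 0,nat_lit 3,nat_lit 13,nat_lit 12,nat_lit 8,nat_lit 6,nat_lit 4,nat_lit 6,nat_lit 12,nat_lit 13,nat_lit 1,nat_lit 1,nat_lit 0,nat_lit 15,nat_lit 14,nat_lit 2,nat_lit 2,nat_lit 12,nat_lit 4,nat_lit 14,nat_lit 2,nat_lit 13,nat_lit 7,nat_lit 7,nat_lit 4,nat_lit 6,nat_lit 15])))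
 (.node (.node (.leaf [nat_lit 9,nat_lit 5,nat_lit 10,nat_lit 15,nat_lit 15,nat_lit 14,nat_lit 0,nat_lit 0,nat_lit 4,nat_lit 10,nat_lit 9,nat_lit 14,nat_lit 1,nat_lit 1,nat_lit 13,nat_lit 6,nat_lit 4,nat_lit 0,nat_lit 0,nat_lit 12,nat_lit 7,nat_lit 7,nat_lit 14,nat_lit 13,nat_lit 7,nat_lit 7,nat_lit 5,nat_lit 12,nat_lit 8,nat_lit 6,nat_lit 4,nat_lit 13,nat_lit 13,nat_lit 3,nat_lit 3,nat_lit 5,nat_lit 13,nat_lit 4,nat_lit 6,nat_lit 15,nat_lit 8,nat_lit 8,nat_lit 13,nat_lit 5,nat_lit 5,nat_lit 15,nat_lit 8,nat_lit 8,nat_lit 0,nat_lit 0,nat_lit 13,nat_lit 5])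
 (.leaf [nat_lit 9,nat_lit 15,nat_lit 2,nat_lit 10,nat_lit 4,nat_lit 4,nat_lit 12,nat_lit 12,nat_lit 4,nat_lit 7,nat_lit 7,nat_lit 0,nat_lit 13,nat_lit 7,nat_lit 15,nat_lit 7,nat_lit 7,nat_lit 5,nat_lit 5,nat_lit 13,nat_lit 3,nat_lit 7,nat_lit 7,nat_lit 0,nat_lit 0,nat_lit 15,nat_lit 5,nat_lit 4,nat_lit 8,nat_lit 8,nat_lit 3,nat_lit 3,nat_lit 6,nat_lit 7,nat_lit 7,nat_lit 6,nat_lit 6,nat_lit 13,nat_lit 13,nat_lit 3,nat_lit 3,nat_lit 5,nat_lit 13,nat_lit 4,nat_lit 6,nat_lit 15,nat_lit 8,nat_lit 8,nat_lit 13,nat_lit 5,nat_lit 5,nat_lit 15,nat_lit 8,nat_lit 8,nat_lit 0,nat_lit 0,nat_lit 13,nat_lit 5]))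
 (.leaf [nat_lit 10,nat_lit 2,nat_lit 4,nat_lit 4,nat_lit 2,nat_lit 10,nat_lit 3,nat_lit 13,nat_lit 3,nat_lit 3,nat_lit 15,nat_lit 8,nat_lit 8,nat_lit 7,nat_lit 7,nat_lit 13,nat_lit 6,nat_lit 5,nat_lit 15,nat_lit 12,nat_lit 5,nat_lit 5,nat_lit 6,nat_lit 6,nat_lit 13,nat_lit 8,nat_lit 8,nat_lit 1,nat_lit 14,nat_lit 0,nat_lit 2,nat_lit 13,nat_lit 6,nat_lit 7,nat_lit 7,nat_lit 15,nat_lit 14,nat_lit 15,nat_lit 3,nat_lit 3,nat_lit 0,nat_lit 13,nat_lit 12,nat_lit 13,nat_lit 7,nat_lit 6,nat_lit 6,nat_lit 15,nat_lit 5,nat_lit 5,nat_lit 13,nat_lit 0,nat_lit 0,nat_lit 3,nat_lit 15,nat_lit 5])))))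
 (.node (.node (.node (.node (.node (.leaf [nat_lit 0,nat_lit 0,nat_lit 0,nat_lit 1,nat_lit 2,nat_lit 2,nat_lit 1,nat_lit 1,nat_lit 4,nat_lit 7,nat_lit 6,nat_lit 5,nat_lit 6,nat_lit 3])
 (.leaf [nat_lit 11,nat_lit 5,nat_lit 8,nat_lit 5,nat_lit 0,nat_lit 15,nat_lit 2,nat_lit 15,nat_lit 7,nat_lit 3,nat_lit 8,nat_lit 13,nat_lit 8,nat_lit 13,nat_lit 6,nat_lit 8,nat_lit 8,nat_lit 15,nat_lit 3,nat_lit 4,nat_lit 13,nat_lit 7,nat_lit 7,nat_lit 15,nat_lit 4,nat_lit 4,nat_lit 3,nat_lit 3,nat_lit 4,nat_lit 5,nat_lit 13,nat_lit 6,nat_lit 6,nat_lit 3,nat_lit 7,nat_lit 8]))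
 (.node (.leaf [nat_lit 10,nat_lit 7,nat_lit 2,nat_lit 7,nat_lit 7,nat_lit 12,nat_lit 1,nat_lit 1,nat_lit 9,nat_lit 15,nat_lit 1,nat_lit 9,nat_lit 13,nat_lit 3,nat_lit 3,nat_lit 13,nat_lit 6,nat_lit 7,nat_lit 7,nat_lit 6,nat_lit 6,nat_lit 13,nat_lit 0,nat_lit 1,nat_lit 1,nat_lit 14,nat_lit 15,nat_lit 12,nat_lit 15,nat_lit 4,nat_lit 4,nat_lit 0,nat_lit 0,nat_lit 2,nat_lit 7,nat_lit 13,nat_lit 13,nat_lit 6,nat_lit 7,nat_lit 7,nat_lit 15,nat_lit 14,nat_lit 15,nat_lit 3,nat_lit 3,nat_lit 0,nat_lit 13,nat_lit 12,nat_lit 13,nat_lit 7,nat_lit 6,nat_lit 6,nat_lit 15])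
 (.leaf [nat_lit 9,nat_lit 13,nat_lit 1,nat_lit 8,nat_lit 6,nat_lit 3,nat_lit 13,nat_lit 2,nat_lit 14,nat_lit 4,nat_lit 14,nat_lit 13,nat_lit 7,nat_lit 7,nat_lit 0,nat_lit 6,nat_lit 15,nat_lit 5,nat_lit 5,nat_lit 13,nat_lit 0,nat_lit 4,nat_lit 3,nat_lit 3,nat_lit 0,nat_lit 15,nat_lit 5,nat_lit 12,nat_lit 13,nat_lit 1,nat_lit 1,nat_lit 0,nat_lit 15,nat_lit 14,nat_lit 2,nat_lit 2,nat_lit 12,nat_lit 4,nat_lit 14,nat_lit 2,nat_lit 13,nat_lit 7,nat_lit 7,nat_lit 4,nat_lit 6,nat_lit 15])))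
 (.node (.node (.leaf [nat_lit 9,nat_lit 3,nat_lit 13,nat_lit 0,nat_lit 0,nat_lit 12,nat_lit 0,nat_lit 0,nat_lit 9,nat_lit 13,nat_lit 14,nat_lit 5,nat_lit 5,nat_lit 4,nat_lit 4,nat_lit 0,nat_lit 0,nat_lit 15,nat_lit 15,nat_lit 7,nat_lit 5,nat_lit 5,nat_lit 13,nat_lit 0,nat_lit 4,nat_lit 0,nat_lit 0,nat_lit 3,nat_lit 15,nat_lit 5,nat_lit 8,nat_lit 8,nat_lit 3,nat_lit 3,nat_lit 6,nat_lit 7,nat_lit 7,nat_lit 5,nat_lit 5,nat_lit 13,nat_lit 3,nat_lit 3,nat_lit 0,nat_lit 15,nat_lit 5])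
 (.leaf [nat_lit 9,nat_lit 12,nat_lit 13,nat_lit 13,nat_lit 2,nat_lit 8,nat_lit 3,nat_lit 7,nat_lit 7,nat_lit 15,nat_lit 4,nat_lit 4,nat_lit 3,nat_lit 3,nat_lit 13,nat_lit 5,nat_lit 8,nat_lit 5,nat_lit 5,nat_lit 13,nat_lit 0,nat_lit 4,nat_lit 3,nat_lit 3,nat_lit 0,nat_lit 15,nat_lit 5,nat_lit 8,nat_lit 8,nat_lit 3,nat_lit 3,nat_lit 6,nat_lit 7,nat_lit 7,nat_lit 5,nat_lit 5,nat_lit 13,nat_lit 3,nat_lit 3,nat_lit 0,nat_lit 15,nat_lit 5,nat_lit 4,nat_lit 6,nat_lit 6,nat_lit 8,nat_lit 4,nat_lit 4,nat_lit 5,nat_lit 5,nat_lit 1,nat_lit 1,nat_lit 14,nat_lit 0,nat_lit 0,nat_lit 8,nat_lit 12,nat_lit 1,nat_lit 5,nat_lit 6]))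
 (.node (.leaf [nat_lit 1,nat_lit 4,nat_lit 13,nat_lit 12,nat_lit 15,nat_lit 1,nat_lit 2,nat_lit 8,nat_lit 1,nat_lit 1,nat_lit 15,nat_lit 15,nat_lit 6,nat_lit 9,nat_lit 12,nat_lit 13,nat_lit 4,nat_lit 4,nat_lit 15,nat_lit 14,nat_lit 2,nat_lit 2,nat_lit 14,nat_lit 0,nat_lit 1,nat_lit 12,nat_lit 2,nat_lit 3,nat_lit 3,nat_lit 15,nat_lit 7,nat_lit 7,nat_lit 5,nat_lit 5,nat_lit 13,nat_lit 3,nat_lit 7,nat_lit 7,nat_lit 0,nat_lit 0,nat_lit 15,nat_lit 5,nat_lit 4,nat_lit 6,nat_lit 6,nat_lit 3,nat_lit 7,nat_lit 8])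
 (.leaf [nat_lit 9,nat_lit 11,nat_lit 5,nat_lit 2,nat_lit 2,nat_lit 15,nat_lit 2,nat_lit 2,nat_lit 15,nat_lit 0,nat_lit 0,nat_lit 8,nat_lit 8,nat_lit 14,nat_lit 0,nat_lit 8,nat_lit 1,nat_lit 1,nat_lit 14,nat_lit 4,nat_lit 4,nat_lit 13,nat_lit 12,nat_lit 6,nat_lit 5,nat_lit 13,nat_lit 3,nat_lit 5,nat_lit 13,nat_lit 3,nat_lit 5,nat_lit 5,nat_lit 15,nat_lit 7,nat_lit 7,nat_lit 3,nat_lit 3,nat_lit 6,nat_lit 13,nat_lit 5]))))
 (.node (.node (.node (.leaf [nat_lit 9,nat_lit 1,nat_lit 12,nat_lit 13,nat_lit 1,nat_lit 1,nat_lit 13,nat_lit 2,nat_lit 2,nat_lit 7,nat_lit 11,nat_lit 15,nat_lit 2,nat_lit 2,nat_lit 15,nat_lit 6,nat_lit 6,nat_lit 5,nat_lit 5,nat_lit 14,nat_lit 8,nat_lit 8,nat_lit 12,nat_lit 5,nat_lit 5,nat_lit 0,nat_lit 0,nat_lit 9,nat_lit 9,nat_lit 7,nat_lit 13,nat_lit 4,nat_lit 4,nat_lit 3,nat_lit 3,nat_lit 13,nat_lit 6,nat_lit 4,nat_lit 4,nat_lit 13,nat_lit 0,nat_lit 0,nat_lit 13,nat_lit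 4,nat_lit 13,nat_lit 5,nat_lit 5,nat_lit 13,nat_lit 0,nat_lit 0,nat_lit 3,nat_lit 15,nat_lit 5,nat_lit 8,nat_lit 8,nat_lit 3,nat_lit 3,nat_lit 6,nat_lit 7,nat_lit 7,nat_lit 5,nat_lit 5,nat_lit 13,nat_lit 3,nat_lit 3,nat_lit 0,nat_lit 15,nat_lit 5])
 (.leaf [nat_lit 9,nat_lit 14,nat_lit 10,nat_lit 1,nat_lit 0,nat_lit 0,nat_lit 8,nat_lit 2,nat_lit 10,nat_lit 13,nat_lit 4,nat_lit 4,nat_lit 15,nat_lit 12,nat_lit 13,nat_lit 12,nat_lit 13,nat_lit 7,nat_lit 7,nat_lit 2,nat_lit 2,nat_lit 5,nat_lit 12,nat_lit 15,nat_lit 12,nat_lit 5,nat_lit 5,nat_lit 15,nat_lit 0,nat_lit 8,nat_lit 13,nat_lit 5,nat_lit 15,nat_lit 8,nat_lit 13,nat_lit 6,nat_lit 6,nat_lit 4,nat_lit 4,nat_lit 15,nat_lit 5,nat_lit 5,nat_lit 3,nat_lit 15,nat_lit 15,nat_lit 6]))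
 (.node (.leaf [nat_lit 2,nat_lit 14,nat_lit 1,nat_lit 0,nat_lit 14,nat_lit 11,nat_lit 5,nat_lit 15,nat_lit 2,nat_lit 2,nat_lit 7,nat_lit 7,nat_lit 1,nat_lit 1,nat_lit 3,nat_lit 7,nat_lit 7,nat_lit 14,nat_lit 0,nat_lit 0,nat_lit 14,nat_lit 8,nat_lit 14,nat_lit 15,nat_lit 0,nat_lit 0,nat_lit 3,nat_lit 13,nat_lit 12,nat_lit 13,nat_lit 13,nat_lit 6,nat_lit 6,nat_lit 13,nat_lit 13,nat_lit 4,nat_lit 4,nat_lit 5,nat_lit 5,nat_lit 13,nat_lit 0,nat_lit 7,nat_lit 5,nat_lit 5,nat_lit 13,nat_lit 0,nat_lit 0,nat_lit 3,nat_lit 15,nat_lit 5])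
 (.leaf [nat_lit 9,nat_lit 1,nat_lit 15,nat_lit 5,nat_lit 15,nat_lit 4,nat_lit 4,nat_lit 0,nat_lit 0,nat_lit 13,nat_lit 2,nat_lit 7,nat_lit 14,nat_lit 15,nat_lit 0,nat_lit 0,nat_lit 3,nat_lit 13,nat_lit 6,nat_lit 6,nat_lit 0,nat_lit 0,nat_lit 5,nat_lit 0,nat_lit 0,nat_lit 7,nat_lit 12,nat_lit 13,nat_lit 4,nat_lit 4,nat_lit 0,nat_lit 0,nat_lit 15,nat_lit 12,nat_lit 12,nat_lit 8,nat_lit 8,nat_lit 14,nat_lit 14,nat_lit 6,nat_lit 6,nat_lit 13,nat_lit 3,nat_lit 3,nat_lit 9,nat_lit 5,nat_lit 7])))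
 (.node (.node (.leaf [nat_lit 9,nat_lit 5,nat_lit 4,nat_lit 7,nat_lit 7,nat_lit 0,nat_lit 10,nat_lit 9,nat_lit 10,nat_lit 6,nat_lit 5,nat_lit 6,nat_lit 3,nat_lit 2,nat_lit 2,nat_lit 13,nat_lit 1,nat_lit 15,nat_lit 2,nat_lit 6,nat_lit 6,nat_lit 15,nat_lit 3,nat_lit 7,nat_lit 15,nat_lit 6,nat_lit 13,nat_lit 7,nat_lit 6,nat_lit 6,nat_lit 3,nat_lit 7,nat_lit 8,nat_lit 5,nat_lit 5,nat_lit 13,nat_lit 0,nat_lit 0,nat_lit 3,nat_lit 15,nat_lit 5])
 (.leaf [nat_lit 0,nat_lit 15,nat_lit 1,nat_lit 8,nat_lit 6,nat_lit 7,nat_lit 7,nat_lit 13,nat_lit 9,nat_lit 10,nat_lit 2,nat_lit 2,nat_lit 13,nat_lit 1,nat_lit 15,nat_lit 2,nat_lit 13,nat_lit 7,nat_lit 7,nat_lit 0,nat_lit 0,nat_lit 13,nat_lit 5,nat_lit 15,nat_lit 8,nat_lit 13,nat_lit 3,nat_lit 13,nat_lit 3,nat_lit 3,nat_lit 15,nat_lit 4,nat_lit 4,nat_lit 0,nat_lit 0,nat_lit 15,nat_lit 15,nat_lit 5,nat_lit 5,nat_lit 13,nat_lit 3,nat_lit 3,nat_lit 0,nat_lit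 15,nat_lit 5,nat_lit 4,nat_lit 6,nat_lit 6,nat_lit 8,nat_lit 4,nat_lit 4,nat_lit 5,nat_lit 5,nat_lit 1,nat_lit 1,nat_lit 14,nat_lit 0,nat_lit 0,nat_lit 8,nat_lit 12,nat_lit 1,nat_lit 5,nat_lit 6]))
 (.leaf [nat_lit 9,nat_lit 13,nat_lit 8,nat_lit 8,nat_lit 0,nat_lit 0,nat_lit 14,nat_lit 2,nat_lit 13,nat_lit 0,nat_lit 10,nat_lit 3,nat_lit 0,nat_lit 0,nat_lit 14,nat_lit 1,nat_lit 4,nat_lit 5,nat_lit 8,nat_lit 8,nat_lit 5,nat_lit 5,nat_lit 1,nat_lit 1,nat_lit 9,nat_lit 14,nat_lit 13,nat_lit 8,nat_lit 8,nat_lit 15,nat_lit 4,nat_lit 4,nat_lit 0,nat_lit 13,nat_lit 8,nat_lit 15,nat_lit 3,nat_lit 3,nat_lit 4,nat_lit 7,nat_lit 13,nat_lit 6,nat_lit 6,nat_lit 3,nat_lit 7,nat_lit 8]))))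
 (.node (.node (.node (.node (.leaf [nat_lit 12,nat_lit 12,nat_lit 1,nat_lit 1,nat_lit 12,nat_lit 6,nat_lit 6,nat_lit 0,nat_lit 2,nat_lit 15,nat_lit 7,nat_lit 0,nat_lit 0,nat_lit 15,nat_lit 15,nat_lit 0,nat_lit 5,nat_lit 5,nat_lit 13,nat_lit 0,nat_lit 4,nat_lit 15,nat_lit 5,nat_lit 12,nat_lit 13,nat_lit 1,nat_lit 1,nat_lit 0,nat_lit 15,nat_lit 14,nat_lit 2,nat_lit 2,nat_lit 12,nat_lit 4,nat_lit 14,nat_lit 2,nat_lit 13,nat_lit 7,nat_lit 7,nat_lit 4,nat_lit 6,nat_lit 15,nat_lit 4,nat_lit 6,nat_lit 6,nat_lit 8,nat_lit 4,nat_lit 4,nat_lit 5,nat_lit 5,nat_lit 1,nat_lit 1,nat_lit 14,nat_lit 0,nat_lit 0,nat_lit 8,nat_lit 12,nat_lit 1,nat_lit 5,nat_lit 6])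
 (.leaf [nat_lit 9,nat_lit 1,nat_lit 4,nat_lit 10,nat_lit 7,nat_lit 7,nat_lit 12,nat_lit 1,nat_lit 1,nat_lit 9,nat_lit 15,nat_lit 1,nat_lit 9,nat_lit 13,nat_lit 13,nat_lit 6,nat_lit 6,nat_lit 3,nat_lit 7,nat_lit 15,nat_lit 3,nat_lit 3,nat_lit 15,nat_lit 0,nat_lit 4,nat_lit 13,nat_lit 3,nat_lit 15,nat_lit 5,nat_lit 5,nat_lit 6,nat_lit 3,nat_lit 5,nat_lit 5,nat_lit 0,nat_lit 0,nat_lit 15,nat_lit 6,nat_lit 13,nat_lit 5,nat_lit 5,nat_lit 13,nat_lit 0,nat_lit 0,nat_lit 3,nat_lit 15,nat_lit 5,nat_lit 8,nat_lit 8,nat_lit 3,nat_lit 3,nat_lit 6,nat_lit 7,nat_lit 7]))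
 (.node (.leaf [nat_lit 6,nat_lit 5,nat_lit 5,nat_lit 15,nat_lit 14,nat_lit 15,nat_lit 14,nat_lit 13,nat_lit 4,nat_lit 13,nat_lit 8,nat_lit 8,nat_lit 7,nat_lit 7,nat_lit 15,nat_lit 0,nat_lit 8,nat_lit 5,nat_lit 5,nat_lit 15,nat_lit 8,nat_lit 8,nat_lit 0,nat_lit 0,nat_lit 13,nat_lit 13,nat_lit 0,nat_lit 4,nat_lit 15,nat_lit 5,nat_lit 6,nat_lit 6,nat_lit 3,nat_lit 7,nat_lit 3,nat_lit 3,nat_lit 6,nat_lit 7,nat_lit 7,nat_lit 5,nat_lit 5,nat_lit 13,nat_lit 0,nat_lit 0,nat_lit 3,nat_lit 15,nat_lit 5,nat_lit 6,nat_lit 6,nat_lit 3,nat_lit 7,nat_lit 8])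
 (.leaf [nat_lit 9,nat_lit 0,nat_lit 6,nat_lit 14,nat_lit 15,nat_lit 6,nat_lit 12,nat_lit 11,nat_lit 3,nat_lit 15,nat_lit 5,nat_lit 5,nat_lit 3,nat_lit 13,nat_lit 7,nat_lit 5,nat_lit 5,nat_lit 15,nat_lit 8,nat_lit 8,nat_lit 13,nat_lit 13,nat_lit 7,nat_lit 7,nat_lit 14,nat_lit 8,nat_lit 8,nat_lit 1,nat_lit 1,nat_lit 12,nat_lit 3,nat_lit 13,nat_lit 12,nat_lit 10,nat_lit 15,nat_lit 3,nat_lit 11,nat_lit 14,nat_lit 6,nat_lit 6,nat_lit 3,nat_lit 7,nat_lit 8])))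
 (.node (.node (.leaf [nat_lit 12,nat_lit 6,nat_lit 5,nat_lit 14,nat_lit 15,nat_lit 1,nat_lit 1,nat_lit 14,nat_lit 13,nat_lit 6,nat_lit 11,nat_lit 15,nat_lit 5,nat_lit 1,nat_lit 14,nat_lit 9,nat_lit 1,nat_lit 14,nat_lit 4,nat_lit 10,nat_lit 6,nat_lit 13,nat_lit 0,nat_lit 4,nat_lit 15,nat_lit 4,nat_lit 4,nat_lit 12,nat_lit 4,nat_lit 4,nat_lit 12,nat_lit 0,nat_lit 5,nat_lit 5,nat_lit 12,nat_lit 8,nat_lit 8,nat_lit 3,nat_lit 3,nat_lit 6,nat_lit 7,nat_lit 7,nat_lit 12,nat_lit 13,nat_lit 1,nat_lit 1,nat_lit 0,nat_lit 15,nat_lit 14,nat_lit 2,nat_lit 2,nat_lit 12,nat_lit 4,nat_lit 14,nat_lit 2,nat_lit 13,nat_lit 7,nat_lit 7,nat_lit 4,nat_lit 6,nat_lit 15])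
 (.leaf [nat_lit 4,nat_lit 9,nat_lit 2,nat_lit 1,nat_lit 1,nat_lit 0,nat_lit 0,nat_lit 7,nat_lit 13,nat_lit 1,nat_lit 5,nat_lit 5,nat_lit 3,nat_lit 3,nat_lit 14,nat_lit 6,nat_lit 4,nat_lit 4,nat_lit 14,nat_lit 14,nat_lit 4,nat_lit 12,nat_lit 12,nat_lit 0,nat_lit 14,nat_lit 14,nat_lit 7,nat_lit 7,nat_lit 14,nat_lit 8,nat_lit 14,nat_lit 3,nat_lit 3,nat_lit 6,nat_lit 7,nat_lit 7,nat_lit 0,nat_lit 13,nat_lit 8,nat_lit 4,nat_lit 15,nat_lit 7,nat_lit 4,nat_lit 4,nat_lit 15,nat_lit 3,nat_lit 3,nat_lit 15,nat_lit 6,nat_lit 4,nat_lit 6,nat_lit 8,nat_lit 8,nat_lit 3,nat_lit 3,nat_lit 6,nat_lit 7,nat_lit 7]))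
 (.node (.leaf [nat_lit 9,nat_lit 0,nat_lit 13,nat_lit 1,nat_lit 6,nat_lit 6,nat_lit 14,nat_lit 13,nat_lit 11,nat_lit 5,nat_lit 7,nat_lit 7,nat_lit 0,nat_lit 0,nat_lit 15,nat_lit 6,nat_lit 7,nat_lit 8,nat_lit 6,nat_lit 4,nat_lit 6,nat_lit 5,nat_lit 5,nat_lit 13,nat_lit 3,nat_lit 3,nat_lit 0,nat_lit 15,nat_lit 5,nat_lit 6,nat_lit 6,nat_lit 3,nat_lit 7,nat_lit 8,nat_lit 5,nat_lit 5,nat_lit 13,nat_lit 0,nat_lit 0,nat_lit 3,nat_lit 15,nat_lit 5,nat_lit 8,nat_lit 8,nat_lit 3,nat_lit 3,nat_lit 6,nat_lit 7,nat_lit 7,nat_lit 5,nat_lit 5,nat_lit 13,nat_lit 3,nat_lit 3,nat_lit 0,nat_lit 15,nat_lit 5,nat_lit 6,nat_lit 6,nat_lit 3,nat_lit 7,nat_lit 8])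
 (.leaf [nat_lit 2,nat_lit 8,nat_lit 2,nat_lit 15,nat_lit 2,nat_lit 2,nat_lit 15,nat_lit 2,nat_lit 2,nat_lit 15,nat_lit 0,nat_lit 0,nat_lit 3,nat_lit 3,nat_lit 8,nat_lit 8,nat_lit 15,nat_lit 15,nat_lit 4,nat_lit 7,nat_lit 8,nat_lit 6,nat_lit 4,nat_lit 3,nat_lit 7,nat_lit 8,nat_lit 13,nat_lit 6,nat_lit 6,nat_lit 4,nat_lit 4,nat_lit 7,nat_lit 15,nat_lit 2,nat_lit 2,nat_lit 12,nat_lit 4,nat_lit 4,nat_lit 14,nat_lit 2,nat_lit 12,nat_lit 13,nat_lit 0,nat_lit 0,nat_lit 1,nat_lit 15,nat_lit 14]))))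
 (.node (.node (.node (.leaf [nat_lit 2,nat_lit 3,nat_lit 15,nat_lit 4,nat_lit 4,nat_lit 15,nat_lit 11,nat_lit 12,nat_lit 13,nat_lit 8,nat_lit 8,nat_lit 7,nat_lit 7,nat_lit 15,nat_lit 0,nat_lit 8,nat_lit 13,nat_lit 7,nat_lit 7,nat_lit 13,nat_lit 13,nat_lit 7,nat_lit 2,nat_lit 2,nat_lit 7,nat_lit 7,nat_lit 1,nat_lit 1,nat_lit 3,nat_lit 14,nat_lit 0,nat_lit 0,nat_lit 14,nat_lit 7,nat_lit 5])
 (.leaf [nat_lit 5,nat_lit 1,nat_lit 13,nat_lit 7,nat_lit 1,nat_lit 8,nat_lit 12,nat_lit 7,nat_lit 15,nat_lit 5,nat_lit 3,nat_lit 3,nat_lit 7,nat_lit 7,nat_lit 0,nat_lit 4,nat_lit 15,nat_lit 0,nat_lit 4,nat_lit 15,nat_lit 7,nat_lit 7,nat_lit 14,nat_lit 15,nat_lit 0,nat_lit 0,nat_lit 13,nat_lit 12,nat_lit 7,nat_lit 7,nat_lit 12,nat_lit 1,nat_lit 1,nat_lit 2,nat_lit 14,nat_lit 15,nat_lit 10,nat_lit 13,nat_lit 0,nat_lit 0,nat_lit 3,nat_lit 15,nat_lit 5,nat_lit 8,nat_lit 8,nat_lit 3,nat_lit 3,nat_lit 6,nat_lit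 7,nat_lit 7,nat_lit 5,nat_lit 5,nat_lit 13,nat_lit 0,nat_lit 0,nat_lit 3,nat_lit 15,nat_lit 5,nat_lit 6,nat_lit 6,nat_lit 3,nat_lit 7,nat_lit 8]))
 (.node (.leaf [nat_lit 2,nat_lit 0,nat_lit 3,nat_lit 12,nat_lit 12,nat_lit 3,nat_lit 3,nat_lit 14,nat_lit 3,nat_lit 4,nat_lit 14,nat_lit 6,nat_lit 6,nat_lit 3,nat_lit 7,nat_lit 8,nat_lit 2,nat_lit 4,nat_lit 14,nat_lit 4,nat_lit 4,nat_lit 15,nat_lit 3,nat_lit 3,nat_lit 15,nat_lit 8,nat_lit 8,nat_lit 4,nat_lit 7,nat_lit 3,nat_lit 4,nat_lit 8,nat_lit 8,nat_lit 3,nat_lit 3,nat_lit 6,nat_lit 7,nat_lit 7,nat_lit 6,nat_lit 6,nat_lit 13,nat_lit 13,nat_lit 3,nat_lit 3,nat_lit 5,nat_lit 13,nat_lit 4,nat_lit 6,nat_lit 15,nat_lit 8,nat_lit 8,nat_lit 13,nat_lit 5,nat_lit 5,nat_lit 15,nat_lit 8,nat_lit 8,nat_lit 0,nat_lit 0,nat_lit 13,nat_lit 5])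
 (.leaf [nat_lit 1,nat_lit 5,nat_lit 8,nat_lit 5,nat_lit 1,nat_lit 14,nat_lit 2,nat_lit 9,nat_lit 7,nat_lit 1,nat_lit 1,nat_lit 15,nat_lit 3,nat_lit 3,nat_lit 12,nat_lit 0,nat_lit 13,nat_lit 14,nat_lit 1,nat_lit 1,nat_lit 0,nat_lit 4,nat_lit 12,nat_lit 15,nat_lit 7,nat_lit 13,nat_lit 4,nat_lit 4,nat_lit 3,nat_lit 3,nat_lit 13,nat_lit 6,nat_lit 4,nat_lit 4,nat_lit 13,nat_lit 0,nat_lit 0,nat_lit 13,nat_lit 4,nat_lit 13])))
 (.node (.node (.leaf [nat_lit 10,nat_lit 0,nat_lit 1,nat_lit 13,nat_lit 13,nat_lit 2,nat_lit 2,nat_lit 14,nat_lit 15,nat_lit 10,nat_lit 1,nat_lit 13,nat_lit 8,nat_lit 8,nat_lit 7,nat_lit 7,nat_lit 15,nat_lit 0,nat_lit 3,nat_lit 3,nat_lit 6,nat_lit 7,nat_lit 7,nat_lit 13,nat_lit 6,nat_lit 7,nat_lit 7,nat_lit 15,nat_lit 14,nat_lit 15,nat_lit 3,nat_lit 3,nat_lit 0,nat_lit 13,nat_lit 12,nat_lit 13,nat_lit 7,nat_lit 6,nat_lit 6,nat_lit 15,nat_lit 12,nat_lit 13,nat_lit 1,nat_lit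 1,nat_lit 0,nat_lit 15,nat_lit 14,nat_lit 2,nat_lit 2,nat_lit 12,nat_lit 4,nat_lit 14,nat_lit 2,nat_lit 13,nat_lit 7,nat_lit 7,nat_lit 4,nat_lit 6,nat_lit 15])
 (.leaf [nat_lit 3,nat_lit 0,nat_lit 7,nat_lit 2,nat_lit 4,nat_lit 4,nat_lit 15,nat_lit 9,nat_lit 13,nat_lit 13,nat_lit 5,nat_lit 13,nat_lit 8,nat_lit 13,nat_lit 3,nat_lit 13,nat_lit 0,nat_lit 4,nat_lit 15,nat_lit 4,nat_lit 4,nat_lit 12,nat_lit 4,nat_lit 4,nat_lit 12,nat_lit 0,nat_lit 5,nat_lit 5,nat_lit 12,nat_lit 7,nat_lit 6,nat_lit 6,nat_lit 3,nat_lit 8,nat_lit 6,nat_lit 6,nat_lit 4,nat_lit 4,nat_lit 6,nat_lit 6,nat_lit 13,nat_lit 3,nat_lit 13,nat_lit 4,nat_lit 7,nat_lit 7,nat_lit 13,nat_lit 4,nat_lit 4,nat_lit 8,nat_lit 8,nat_lit 15,nat_lit 0,nat_lit 0]))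
 (.leaf [nat_lit 9,nat_lit 4,nat_lit 9,nat_lit 6,nat_lit 6,nat_lit 8,nat_lit 9,nat_lit 10,nat_lit 13,nat_lit 0,nat_lit 3,nat_lit 4,nat_lit 15,nat_lit 8,nat_lit 6,nat_lit 4,nat_lit 6,nat_lit 5,nat_lit 5,nat_lit 13,nat_lit 0,nat_lit 0,nat_lit 3,nat_lit 15,nat_lit 5,nat_lit 7,nat_lit 6,nat_lit 6,nat_lit 3,nat_lit 8,nat_lit 6,nat_lit 6,nat_lit 4,nat_lit 4,nat_lit 6,nat_lit 6,nat_lit 13,nat_lit 3,nat_lit 13,nat_lit 4,nat_lit 7,nat_lit 7,nat_lit 13,nat_lit 4,nat_lit 4,nat_lit 8,nat_lit 8,nat_lit 15,nat_lit 0,nat_lit 0]))))))))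
 (.node (.node (.node (.node (.node (.node (.node (.node (.leaf [nat_lit 12,nat_lit 13,nat_lit 7,nat_lit 12,nat_lit 0,nat_lit 14,nat_lit 14,nat_lit 1,nat_lit 1,nat_lit 13,nat_lit 0,nat_lit 1,nat_lit 15,nat_lit 1,nat_lit 5,nat_lit 5,nat_lit 13,nat_lit 0,nat_lit 4,nat_lit 15,nat_lit 5,nat_lit 14,nat_lit 15,nat_lit 3,nat_lit 3,nat_lit 0,nat_lit 13,nat_lit 12,nat_lit 5,nat_lit 5,nat_lit 13,nat_lit 3,nat_lit 3,nat_lit 0,nat_lit 15,nat_lit 5,nat_lit 12,nat_lit 13,nat_lit 1,nat_lit 1,nat_lit 0,nat_lit 15,nat_lit 14,nat_lit 2,nat_lit 2,nat_lit 12,nat_lit 4,nat_lit 14,nat_lit 2,nat_lit 13,nat_lit 7,nat_lit 7,nat_lit 4,nat_lit 6,nat_lit 15])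
 (.leaf [nat_lit 10,nat_lit 10,nat_lit 13,nat_lit 14,nat_lit 3,nat_lit 14,nat_lit 9,nat_lit 8,nat_lit 4,nat_lit 7,nat_lit 10,nat_lit 15,nat_lit 15,nat_lit 7,nat_lit 3,nat_lit 15,nat_lit 1,nat_lit 1,nat_lit 14,nat_lit 5,nat_lit 12,nat_lit 1,nat_lit 5,nat_lit 5,nat_lit 15,nat_lit 1,nat_lit 1,nat_lit 7,nat_lit 14,nat_lit 14,nat_lit 8,nat_lit 8,nat_lit 3,nat_lit 3,nat_lit 6,nat_lit 7,nat_lit 7,nat_lit 8,nat_lit 8,nat_lit 3,nat_lit 3,nat_lit 6,nat_lit 7,nat_lit 7,nat_lit 5,nat_lit 5,nat_lit 13,nat_lit 3,nat_lit 3,nat_lit 0,nat_lit 15,nat_lit 5,nat_lit 6,nat_lit 6,nat_lit 3,nat_lit 7,nat_lit 8]))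
 (.node (.leaf [nat_lit 11,nat_lit 10,nat_lit 10,nat_lit 8,nat_lit 2,nat_lit 2,nat_lit 1,nat_lit 1,nat_lit 4,nat_lit 7,nat_lit 6,nat_lit 5,nat_lit 6,nat_lit 3,nat_lit 13,nat_lit 6,nat_lit 7,nat_lit 7,nat_lit 15,nat_lit 14,nat_lit 15,nat_lit 3,nat_lit 3,nat_lit 0,nat_lit 13,nat_lit 12,nat_lit 13,nat_lit 7,nat_lit 6,nat_lit 6,nat_lit 15])
 (.leaf [nat_lit 9,nat_lit 6,nat_lit 3,nat_lit 7,nat_lit 7,nat_lit 15,nat_lit 0,nat_lit 9,nat_lit 10,nat_lit 0,nat_lit 0,nat_lit 15,nat_lit 15,nat_lit 0,nat_lit 13,nat_lit 6,nat_lit 6,nat_lit 3,nat_lit 3,nat_lit 0,nat_lit 7,nat_lit 15,nat_lit 7,nat_lit 7,nat_lit 15,nat_lit 15,nat_lit 7,nat_lit 15,nat_lit 5,nat_lit 5,nat_lit 0,nat_lit 0,nat_lit 13,nat_lit 6,nat_lit 5,nat_lit 6,nat_lit 6,nat_lit 3,nat_lit 7,nat_lit 8,nat_lit 4,nat_lit 6,nat_lit 6,nat_lit 8,nat_lit 4,nat_lit 4,nat_lit 5,nat_lit 5,nat_lit 1,nat_lit 1,nat_lit 14,nat_lit 0,nat_lit 0,nat_lit 8,nat_lit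 12,nat_lit 1,nat_lit 5,nat_lit 6])))
 (.node (.node (.leaf [nat_lit 9,nat_lit 12,nat_lit 10,nat_lit 14,nat_lit 3,nat_lit 3,nat_lit 0,nat_lit 0,nat_lit 12,nat_lit 13,nat_lit 8,nat_lit 3,nat_lit 3,nat_lit 13,nat_lit 5,nat_lit 0,nat_lit 3,nat_lit 8,nat_lit 6,nat_lit 4,nat_lit 3,nat_lit 7,nat_lit 8,nat_lit 5,nat_lit 5,nat_lit 13,nat_lit 0,nat_lit 0,nat_lit 3,nat_lit 15,nat_lit 5,nat_lit 8,nat_lit 8,nat_lit 3,nat_lit 3,nat_lit 6,nat_lit 7,nat_lit 7,nat_lit 5,nat_lit 5,nat_lit 13,nat_lit 0,nat_lit 0,nat_lit 3,nat_lit 15,nat_lit 5,nat_lit 6,nat_lit 6,nat_lit 3,nat_lit 7,nat_lit 8])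
 (.leaf [nat_lit 2,nat_lit 6,nat_lit 4,nat_lit 12,nat_lit 0,nat_lit 14,nat_lit 14,nat_lit 6,nat_lit 6,nat_lit 15,nat_lit 3,nat_lit 8,nat_lit 8,nat_lit 3,nat_lit 3,nat_lit 6,nat_lit 7,nat_lit 7,nat_lit 5,nat_lit 5,nat_lit 13,nat_lit 0,nat_lit 0,nat_lit 3,nat_lit 15,nat_lit 5]))
 (.node (.leaf [nat_lit 9,nat_lit 15,nat_lit 2,nat_lit 2,nat_lit 0,nat_lit 0,nat_lit 12,nat_lit 1,nat_lit 1,nat_lit 14,nat_lit 0,nat_lit 15,nat_lit 3,nat_lit 3,nat_lit 4,nat_lit 7,nat_lit 13,nat_lit 13,nat_lit 6,nat_lit 7,nat_lit 7,nat_lit 15,nat_lit 12,nat_lit 1,nat_lit 1,nat_lit 14,nat_lit 1,nat_lit 12,nat_lit 1,nat_lit 2,nat_lit 2,nat_lit 14,nat_lit 1,nat_lit 9,nat_lit 8,nat_lit 2,nat_lit 7,nat_lit 15,nat_lit 6,nat_lit 6,nat_lit 3,nat_lit 7,nat_lit 8,nat_lit 5,nat_lit 5,nat_lit 13,nat_lit 0,nat_lit 0,nat_lit 3,nat_lit 15,nat_lit 5])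
 (.leaf [nat_lit 9,nat_lit 0,nat_lit 0,nat_lit 2,nat_lit 13,nat_lit 12,nat_lit 0,nat_lit 0,nat_lit 10,nat_lit 13,nat_lit 8,nat_lit 6,nat_lit 6,nat_lit 15,nat_lit 3,nat_lit 8,nat_lit 8,nat_lit 0,nat_lit 0,nat_lit 13,nat_lit 7,nat_lit 8,nat_lit 15,nat_lit 10,nat_lit 10,nat_lit 3,nat_lit 13,nat_lit 4,nat_lit 14,nat_lit 7,nat_lit 7,nat_lit 0,nat_lit 12,nat_lit 6,nat_lit 6,nat_lit 3,nat_lit 7,nat_lit 8,nat_lit 5,nat_lit 5,nat_lit 13,nat_lit 0,nat_lit 0,nat_lit 3,nat_lit 0,nat_lit 0,nat_lit 3,nat_lit 15,nat_lit 5]))))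
 (.node (.node (.node (.leaf [nat_lit 9,nat_lit 9,nat_lit 1,nat_lit 7,nat_lit 12,nat_lit 0,nat_lit 5,nat_lit 8,nat_lit 10,nat_lit 8,nat_lit 8,nat_lit 15,nat_lit 6,nat_lit 6,nat_lit 7,nat_lit 13,nat_lit 8,nat_lit 14,nat_lit 8,nat_lit 8,nat_lit 6,nat_lit 6,nat_lit 0,nat_lit 3,nat_lit 12,nat_lit 1,nat_lit 1,nat_lit 0,nat_lit 0,nat_lit 13,nat_lit 14,nat_lit 8,nat_lit 8,nat_lit 3,nat_lit 3,nat_lit 2,nat_lit 2,nat_lit 14,nat_lit 0,nat_lit 5,nat_lit 8,nat_lit 15])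
 (.leaf [nat_lit 2,nat_lit 6,nat_lit 5,nat_lit 13,nat_lit 7,nat_lit 7,nat_lit 2,nat_lit 13,nat_lit 8,nat_lit 3,nat_lit 11,nat_lit 10,nat_lit 3,nat_lit 13,nat_lit 10,nat_lit 4,nat_lit 4,nat_lit 13,nat_lit 4,nat_lit 15,nat_lit 4,nat_lit 8,nat_lit 8,nat_lit 3,nat_lit 3,nat_lit 6,nat_lit 7,nat_lit 7,nat_lit 8,nat_lit 8,nat_lit 3,nat_lit 3,nat_lit 6,nat_lit 7,nat_lit 7,nat_lit 5,nat_lit 5,nat_lit 13,nat_lit 3,nat_lit 3,nat_lit 0,nat_lit 15,nat_lit 5,nat_lit 6,nat_lit 6,nat_lit 3,nat_lit 7,nat_lit 8]))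
 (.node (.leaf [nat_lit 9,nat_lit 2,nat_lit 5,nat_lit 7,nat_lit 7,nat_lit 3,nat_lit 3,nat_lit 11,nat_lit 9,nat_lit 9,nat_lit 8,nat_lit 6,nat_lit 4,nat_lit 6,nat_lit 8,nat_lit 8,nat_lit 3,nat_lit 3,nat_lit 6,nat_lit 7,nat_lit 7,nat_lit 5,nat_lit 5,nat_lit 13,nat_lit 0,nat_lit 0,nat_lit 3,nat_lit 15,nat_lit 5,nat_lit 13,nat_lit 6,nat_lit 7,nat_lit 7,nat_lit 15,nat_lit 14,nat_lit 15,nat_lit 3,nat_lit 3,nat_lit 0,nat_lit 13,nat_lit 12,nat_lit 13,nat_lit 7,nat_lit 6,nat_lit 6,nat_lit 15,nat_lit 5,nat_lit 5,nat_lit 13,nat_lit 0,nat_lit 0,nat_lit 3,nat_lit 15,nat_lit 5])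
 (.leaf [nat_lit 1,nat_lit 11,nat_lit 15,nat_lit 12,nat_lit 13,nat_lit 0,nat_lit 3,nat_lit 15,nat_lit 14,nat_lit 5,nat_lit 5,nat_lit 4,nat_lit 4,nat_lit 0,nat_lit 0,nat_lit 13,nat_lit 7,nat_lit 15,nat_lit 4,nat_lit 4,nat_lit 12,nat_lit 8,nat_lit 8,nat_lit 0,nat_lit 6,nat_lit 15,nat_lit 5,nat_lit 1,nat_lit 14,nat_lit 9,nat_lit 13,nat_lit 7,nat_lit 7,nat_lit 0,nat_lit 4,nat_lit 4,nat_lit 7,nat_lit 15,nat_lit 2,nat_lit 2,nat_lit 12,nat_lit 4,nat_lit 4,nat_lit 14,nat_lit 2,nat_lit 12,nat_lit 13,nat_lit 0,nat_lit 0,nat_lit 1,nat_lit 15,nat_lit 14])))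
 (.node (.node (.leaf [nat_lit 9,nat_lit 1,nat_lit 6,nat_lit 3,nat_lit 2,nat_lit 2,nat_lit 15,nat_lit 15,nat_lit 11,nat_lit 3,nat_lit 3,nat_lit 8,nat_lit 8,nat_lit 15,nat_lit 15,nat_lit 4,nat_lit 7,nat_lit 8,nat_lit 6,nat_lit 4,nat_lit 15,nat_lit 3,nat_lit 15,nat_lit 6,nat_lit 6,nat_lit 14,nat_lit 1,nat_lit 12,nat_lit 15,nat_lit 7,nat_lit 13,nat_lit 10,nat_lit 6,nat_lit 5,nat_lit 8,nat_lit 8,nat_lit 3,nat_lit 3,nat_lit 6,nat_lit 7,nat_lit 7,nat_lit 5,nat_lit 5,nat_lit 13,nat_lit 3,nat_lit 3,nat_lit 0,nat_lit 15,nat_lit 5,nat_lit 13,nat_lit 6,nat_lit 6,nat_lit 4,nat_lit 4,nat_lit 7,nat_lit 15,nat_lit 2,nat_lit 2,nat_lit 12,nat_lit 4,nat_lit 4,nat_lit 14,nat_lit 2,nat_lit 12,nat_lit 13,nat_lit 0,nat_lit 0,nat_lit 1,nat_lit 15,nat_lit 14])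
 (.leaf [nat_lit 9,nat_lit 7,nat_lit 2,nat_lit 15,nat_lit 5,nat_lit 5,nat_lit 2,nat_lit 2,nat_lit 3,nat_lit 12,nat_lit 7,nat_lit 4,nat_lit 4,nat_lit 13,nat_lit 4,nat_lit 15,nat_lit 4,nat_lit 2,nat_lit 2,nat_lit 13,nat_lit 0,nat_lit 0,nat_lit 15,nat_lit 2,nat_lit 5,nat_lit 12,nat_lit 1,nat_lit 15,nat_lit 8,nat_lit 7,nat_lit 7,nat_lit 15,nat_lit 0,nat_lit 6,nat_lit 13,nat_lit 5,nat_lit 5,nat_lit 13,nat_lit 0,nat_lit 0,nat_lit 3,nat_lit 15,nat_lit 5,nat_lit 6,nat_lit 6,nat_lit 3,nat_lit 7,nat_lit 8,nat_lit 5,nat_lit 5,nat_lit 13,nat_lit 0,nat_lit 0,nat_lit 3,nat_lit 15,nat_lit 5]))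
 (.leaf [nat_lit 9,nat_lit 10,nat_lit 6,nat_lit 2,nat_lit 2,nat_lit 15,nat_lit 15,nat_lit 11,nat_lit 4,nat_lit 4,nat_lit 13,nat_lit 0,nat_lit 3,nat_lit 15,nat_lit 4,nat_lit 3,nat_lit 3,nat_lit 15,nat_lit 7,nat_lit 7,nat_lit 5,nat_lit 5,nat_lit 13,nat_lit 3,nat_lit 7,nat_lit 7,nat_lit 0,nat_lit 0,nat_lit 15,nat_lit 5,nat_lit 4,nat_lit 6,nat_lit 6,nat_lit 13,nat_lit 13,nat_lit 3,nat_lit 3,nat_lit 5,nat_lit 13,nat_lit 4,nat_lit 6,nat_lit 15,nat_lit 8,nat_lit 8,nat_lit 13,nat_lit 5,nat_lit 5,nat_lit 15,nat_lit 8,nat_lit 8,nat_lit 0,nat_lit 0,nat_lit 13,nat_lit 5]))))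
 (.node (.node (.node (.node (.leaf [nat_lit 12,nat_lit 15,nat_lit 12,nat_lit 1,nat_lit 12,nat_lit 7,nat_lit 14,nat_lit 13,nat_lit 3,nat_lit 5,nat_lit 5,nat_lit 3,nat_lit 3,nat_lit 14,nat_lit 6,nat_lit 4,nat_lit 4,nat_lit 14,nat_lit 14,nat_lit 4,nat_lit 8,nat_lit 6,nat_lit 4,nat_lit 3,nat_lit 7,nat_lit 8,nat_lit 5,nat_lit 5,nat_lit 13,nat_lit 0,nat_lit 0,nat_lit 3,nat_lit 15,nat_lit 5])
 (.leaf [nat_lit 9,nat_lit 2,nat_lit 6,nat_lit 8,nat_lit 12,nat_lit 2,nat_lit 2,nat_lit 14,nat_lit 15,nat_lit 5,nat_lit 8,nat_lit 12,nat_lit 13,nat_lit 4,nat_lit 4,nat_lit 15,nat_lit 14,nat_lit 5,nat_lit 5,nat_lit 2,nat_lit 2,nat_lit 14,nat_lit 9,nat_lit 12,nat_lit 5,nat_lit 5,nat_lit 0,nat_lit 0,nat_lit 13,nat_lit 6,nat_lit 5,nat_lit 6,nat_lit 6,nat_lit 5,nat_lit 5,nat_lit 4,nat_lit 4,nat_lit 15,nat_lit 5,nat_lit 7,nat_lit 8,nat_lit 8,nat_lit 3,nat_lit 3,nat_lit 6,nat_lit 7,nat_lit 7,nat_lit 5,nat_lit 5,nat_lit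 13,nat_lit 0,nat_lit 0,nat_lit 3,nat_lit 15,nat_lit 5,nat_lit 6,nat_lit 6,nat_lit 3,nat_lit 7,nat_lit 8]))
 (.node (.leaf [nat_lit 8,nat_lit 0,nat_lit 5,nat_lit 5,nat_lit 14,nat_lit 7,nat_lit 7,nat_lit 1,nat_lit 1,nat_lit 10,nat_lit 15,nat_lit 9,nat_lit 7,nat_lit 7,nat_lit 0,nat_lit 0,nat_lit 15,nat_lit 6,nat_lit 7,nat_lit 6,nat_lit 6,nat_lit 3,nat_lit 7,nat_lit 8,nat_lit 12,nat_lit 13,nat_lit 1,nat_lit 1,nat_lit 0,nat_lit 15,nat_lit 14,nat_lit 2,nat_lit 2,nat_lit 12,nat_lit 4,nat_lit 14,nat_lit 2,nat_lit 13,nat_lit 7,nat_lit 7,nat_lit 4,nat_lit 6,nat_lit 15])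
 (.leaf [nat_lit 1,nat_lit 5,nat_lit 15,nat_lit 5,nat_lit 3,nat_lit 10,nat_lit 8,nat_lit 13,nat_lit 10,nat_lit 6,nat_lit 3,nat_lit 3,nat_lit 15,nat_lit 5,nat_lit 7,nat_lit 13,nat_lit 3,nat_lit 14,nat_lit 15,nat_lit 0,nat_lit 0,nat_lit 3,nat_lit 13,nat_lit 12,nat_lit 6,nat_lit 6,nat_lit 3,nat_lit 7,nat_lit 8,nat_lit 5,nat_lit 5,nat_lit 13,nat_lit 0,nat_lit 0,nat_lit 3,nat_lit 15,nat_lit 5,nat_lit 12,nat_lit 13,nat_lit 1,nat_lit 1,nat_lit 0,nat_lit 15,nat_lit 14,nat_lit 2,nat_lit 2,nat_lit 12,nat_lit 4,nat_lit 14,nat_lit 2,nat_lit 13,nat_lit 7,nat_lit 7,nat_lit 4,nat_lit 6,nat_lit 15])))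
 (.node (.node (.leaf [nat_lit 9,nat_lit 7,nat_lit 6,nat_lit 13,nat_lit 5,nat_lit 5,nat_lit 4,nat_lit 4,nat_lit 0,nat_lit 0,nat_lit 9,nat_lit 12,nat_lit 10,nat_lit 15,nat_lit 15,nat_lit 1,nat_lit 1,nat_lit 8,nat_lit 8,nat_lit 6,nat_lit 6,nat_lit 1,nat_lit 13,nat_lit 5,nat_lit 0,nat_lit 15,nat_lit 14,nat_lit 15,nat_lit 0,nat_lit 0,nat_lit 3,nat_lit 13,nat_lit 12,nat_lit 5,nat_lit 5,nat_lit 15,nat_lit 0,nat_lit 8,nat_lit 13,nat_lit 13,nat_lit 0,nat_lit 4,nat_lit 15,nat_lit 5,nat_lit 14,nat_lit 15,nat_lit 0,nat_lit 0,nat_lit 3,nat_lit 13,nat_lit 12,nat_lit 8,nat_lit 6,nat_lit 4,nat_lit 6])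
 (.leaf [nat_lit 0,nat_lit 5,nat_lit 4,nat_lit 5,nat_lit 12,nat_lit 5,nat_lit 5,nat_lit 1,nat_lit 1,nat_lit 0,nat_lit 12,nat_lit 13,nat_lit 5,nat_lit 5,nat_lit 4,nat_lit 4,nat_lit 7,nat_lit 15,nat_lit 3,nat_lit 15,nat_lit 15,nat_lit 6,nat_lit 15,nat_lit 15,nat_lit 5,nat_lit 5,nat_lit 13,nat_lit 3,nat_lit 3,nat_lit 0,nat_lit 15,nat_lit 5,nat_lit 8,nat_lit 8,nat_lit 3,nat_lit 3,nat_lit 6,nat_lit 7,nat_lit 7,nat_lit 5,nat_lit 5,nat_lit 13,nat_lit 3,nat_lit 3,nat_lit 0,nat_lit 15,nat_lit 5,nat_lit 6,nat_lit 6,nat_lit 3,nat_lit 7,nat_lit 8]))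
 (.node (.leaf [nat_lit 9,nat_lit 0,nat_lit 6,nat_lit 11,nat_lit 5,nat_lit 13,nat_lit 0,nat_lit 6,nat_lit 6,nat_lit 2,nat_lit 14,nat_lit 7,nat_lit 4,nat_lit 4,nat_lit 14,nat_lit 4,nat_lit 12,nat_lit 5,nat_lit 5,nat_lit 0,nat_lit 0,nat_lit 10,nat_lit 4,nat_lit 9,nat_lit 3,nat_lit 3,nat_lit 15,nat_lit 0,nat_lit 13,nat_lit 3,nat_lit 15,nat_lit 3,nat_lit 3,nat_lit 7,nat_lit 7,nat_lit 2,nat_lit 12,nat_lit 2,nat_lit 2,nat_lit 7,nat_lit 13,nat_lit 7,nat_lit 5,nat_lit 5,nat_lit 13,nat_lit 0,nat_lit 0,nat_lit 3,nat_lit 15,nat_lit 5])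
 (.leaf [nat_lit 8,nat_lit 4,nat_lit 10,nat_lit 3,nat_lit 3,nat_lit 12,nat_lit 3,nat_lit 14,nat_lit 5,nat_lit 5,nat_lit 6,nat_lit 6,nat_lit 15,nat_lit 0,nat_lit 5,nat_lit 13,nat_lit 4,nat_lit 4,nat_lit 0,nat_lit 0,nat_lit 15,nat_lit 12,nat_lit 12,nat_lit 8,nat_lit 8,nat_lit 14,nat_lit 14,nat_lit 6,nat_lit 6,nat_lit 13,nat_lit 3,nat_lit 3,nat_lit 9,nat_lit 5,nat_lit 7,nat_lit 8,nat_lit 8,nat_lit 3,nat_lit 3,nat_lit 6,nat_lit 7,nat_lit 7,nat_lit 5,nat_lit 5,nat_lit 13,nat_lit 0,nat_lit 0,nat_lit 3,nat_lit 15,nat_lit 5]))))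
 (.node (.node (.node (.leaf [nat_lit 1,nat_lit 0,nat_lit 9,nat_lit 11,nat_lit 11,nat_lit 3,nat_lit 8,nat_lit 6,nat_lit 5,nat_lit 6,nat_lit 3,nat_lit 13,nat_lit 6,nat_lit 7,nat_lit 7,nat_lit 15,nat_lit 14,nat_lit 15,nat_lit 3,nat_lit 3,nat_lit 0,nat_lit 13,nat_lit 12,nat_lit 13,nat_lit 7,nat_lit 6,nat_lit 6,nat_lit 15])
 (.leaf [nat_lit 9,nat_lit 0,nat_lit 3,nat_lit 8,nat_lit 13,nat_lit 9,nat_lit 9,nat_lit 9,nat_lit 9,nat_lit 9,nat_lit 9,nat_lit 9,nat_lit 9,nat_lit 0,nat_lit 0,nat_lit 10,nat_lit 10,nat_lit 10,nat_lit 10,nat_lit 10,nat_lit 10,nat_lit 10,nat_lit 15,nat_lit 9,nat_lit 2,nat_lit 9,nat_lit 5,nat_lit 13,nat_lit 8,nat_lit 13,nat_lit 3,nat_lit 8,nat_lit 15,nat_lit 3,nat_lit 4,nat_lit 13,nat_lit 6,nat_lit 6,nat_lit 3,nat_lit 7,nat_lit 8,nat_lit 6,nat_lit 7,nat_lit 7,nat_lit 13,nat_lit 6,nat_lit 13,nat_lit 8,nat_lit 8,nat_lit 3,nat_lit 3,nat_lit 6,nat_lit 7,nat_lit 7]))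
 (.node (.leaf [nat_lit 9,nat_lit 7,nat_lit 14,nat_lit 1,nat_lit 1,nat_lit 14,nat_lit 2,nat_lit 2,nat_lit 14,nat_lit 3,nat_lit 14,nat_lit 6,nat_lit 6,nat_lit 15,nat_lit 3,nat_lit 5,nat_lit 5,nat_lit 13,nat_lit 3,nat_lit 3,nat_lit 0,nat_lit 15,nat_lit 5,nat_lit 8,nat_lit 8,nat_lit 3,nat_lit 3,nat_lit 6,nat_lit 7,nat_lit 7,nat_lit 5,nat_lit 5,nat_lit 13,nat_lit 0,nat_lit 0,nat_lit 3,nat_lit 15,nat_lit 5,nat_lit 6,nat_lit 6,nat_lit 3,nat_lit 7,nat_lit 8])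
 (.leaf [nat_lit 0,nat_lit 9,nat_lit 9,nat_lit 6,nat_lit 6,nat_lit 7,nat_lit 11,nat_lit 11,nat_lit 0,nat_lit 0,nat_lit 15,nat_lit 15,nat_lit 0,nat_lit 13,nat_lit 6,nat_lit 6,nat_lit 3,nat_lit 3,nat_lit 0,nat_lit 7,nat_lit 15,nat_lit 12,nat_lit 12,nat_lit 0,nat_lit 14,nat_lit 14,nat_lit 7,nat_lit 7,nat_lit 14,nat_lit 8,nat_lit 14,nat_lit 8,nat_lit 6,nat_lit 6,nat_lit 3,nat_lit 7,nat_lit 8,nat_lit 4,nat_lit 6,nat_lit 6,nat_lit 8,nat_lit 4,nat_lit 4,nat_lit 5,nat_lit 5,nat_lit 1,nat_lit 1,nat_lit 14,nat_lit 0,nat_lit 0,nat_lit 8,nat_lit 12,nat_lit 1,nat_lit 5,nat_lit 6])))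
 (.node (.node (.leaf [nat_lit 9,nat_lit 2,nat_lit 5,nat_lit 6,nat_lit 2,nat_lit 2,nat_lit 3,nat_lit 9,nat_lit 15,nat_lit 7,nat_lit 7,nat_lit 15,nat_lit 8,nat_lit 13,nat_lit 7,nat_lit 5,nat_lit 5,nat_lit 0,nat_lit 0,nat_lit 13,nat_lit 6,nat_lit 5,nat_lit 6,nat_lit 6,nat_lit 5,nat_lit 5,nat_lit 4,nat_lit 4,nat_lit 15,nat_lit 5,nat_lit 7,nat_lit 5,nat_lit 5,nat_lit 13,nat_lit 0,nat_lit 0,nat_lit 3,nat_lit 15,nat_lit 5,nat_lit 8,nat_lit 8,nat_lit 3,nat_lit 3,nat_lit 6,nat_lit 7,nat_lit 7,nat_lit 0,nat_lit 13,nat_lit 8,nat_lit 4,nat_lit 15,nat_lit 7,nat_lit 4,nat_lit 4,nat_lit 15,nat_lit 3,nat_lit 3,nat_lit 15,nat_lit 6,nat_lit 4,nat_lit 6,nat_lit 8,nat_lit 8,nat_lit 3,nat_lit 3,nat_lit 6,nat_lit 7,nat_lit 7])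
 (.leaf [nat_lit 9,nat_lit 13,nat_lit 4,nat_lit 11,nat_lit 13,nat_lit 7,nat_lit 7,nat_lit 2,nat_lit 2,nat_lit 0,nat_lit 4,nat_lit 9,nat_lit 15,nat_lit 3,nat_lit 3,nat_lit 12,nat_lit 3,nat_lit 14,nat_lit 1,nat_lit 14,nat_lit 11,nat_lit 1,nat_lit 9,nat_lit 3,nat_lit 3,nat_lit 15,nat_lit 0,nat_lit 13,nat_lit 3,nat_lit 15,nat_lit 3,nat_lit 3,nat_lit 7,nat_lit 7,nat_lit 2,nat_lit 12,nat_lit 2,nat_lit 2,nat_lit 7,nat_lit 13,nat_lit 7,nat_lit 6,nat_lit 6,nat_lit 3,nat_lit 7,nat_lit 8]))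
 (.leaf [nat_lit 7,nat_lit 5,nat_lit 13,nat_lit 12,nat_lit 8,nat_lit 8,nat_lit 12,nat_lit 0,nat_lit 0,nat_lit 2,nat_lit 9,nat_lit 10,nat_lit 7,nat_lit 5,nat_lit 5,nat_lit 8,nat_lit 8,nat_lit 6,nat_lit 4,nat_lit 6,nat_lit 5,nat_lit 5,nat_lit 13,nat_lit 0,nat_lit 0,nat_lit 3,nat_lit 15,nat_lit 5])))))
 (.node (.node (.node (.node (.node (.leaf [nat_lit 4,nat_lit 0,nat_lit 7,nat_lit 2,nat_lit 2,nat_lit 7,nat_lit 3,nat_lit 12,nat_lit 0,nat_lit 14,nat_lit 14,nat_lit 1,nat_lit 1,nat_lit 13,nat_lit 0,nat_lit 1,nat_lit 15,nat_lit 1,nat_lit 3,nat_lit 3,nat_lit 15,nat_lit 7,nat_lit 7,nat_lit 5,nat_lit 5,nat_lit 13,nat_lit 3,nat_lit 7,nat_lit 7,nat_lit 15,nat_lit 0,nat_lit 6,nat_lit 13,nat_lit 13,nat_lit 0,nat_lit 4,nat_lit 15,nat_lit 5,nat_lit 5,nat_lit 13,nat_lit 0,nat_lit 0,nat_lit 3,nat_lit 15,nat_lit 5,nat_lit 8,nat_lit 8,nat_lit 3,nat_lit 3,nat_lit 6,nat_lit 7,nat_lit 7,nat_lit 5,nat_lit 5,nat_lit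 13,nat_lit 0,nat_lit 0,nat_lit 3,nat_lit 15,nat_lit 5,nat_lit 6,nat_lit 6,nat_lit 3,nat_lit 7,nat_lit 8])
 (.leaf [nat_lit 3,nat_lit 0,nat_lit 8,nat_lit 11,nat_lit 12,nat_lit 1,nat_lit 1,nat_lit 15,nat_lit 7,nat_lit 14,nat_lit 3,nat_lit 3,nat_lit 13,nat_lit 5,nat_lit 0,nat_lit 3,nat_lit 5,nat_lit 5,nat_lit 13,nat_lit 0,nat_lit 4,nat_lit 15,nat_lit 5,nat_lit 8,nat_lit 8,nat_lit 3,nat_lit 3,nat_lit 6,nat_lit 7,nat_lit 7,nat_lit 5,nat_lit 5,nat_lit 13,nat_lit 3,nat_lit 3,nat_lit 0,nat_lit 15,nat_lit 5]))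
 (.node (.leaf [nat_lit 12,nat_lit 2,nat_lit 3,nat_lit 5,nat_lit 12,nat_lit 15,nat_lit 3,nat_lit 3,nat_lit 4,nat_lit 13,nat_lit 14,nat_lit 7,nat_lit 7,nat_lit 4,nat_lit 4,nat_lit 1,nat_lit 2,nat_lit 14,nat_lit 4,nat_lit 4,nat_lit 12,nat_lit 10,nat_lit 11,nat_lit 8,nat_lit 8,nat_lit 3,nat_lit 3,nat_lit 6,nat_lit 7,nat_lit 7,nat_lit 13,nat_lit 6,nat_lit 7,nat_lit 7,nat_lit 15,nat_lit 14,nat_lit 15,nat_lit 3,nat_lit 3,nat_lit 0,nat_lit 13,nat_lit 12,nat_lit 13,nat_lit 7,nat_lit 6,nat_lit 6,nat_lit 15])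
 (.leaf [nat_lit 2,nat_lit 7,nat_lit 7,nat_lit 0,nat_lit 0,nat_lit 3,nat_lit 14,nat_lit 14,nat_lit 13,nat_lit 5,nat_lit 5,nat_lit 12,nat_lit 1,nat_lit 7,nat_lit 3,nat_lit 13,nat_lit 3,nat_lit 3,nat_lit 15,nat_lit 2,nat_lit 2,nat_lit 7,nat_lit 7,nat_lit 1,nat_lit 1,nat_lit 3,nat_lit 14,nat_lit 0,nat_lit 0,nat_lit 14,nat_lit 7,nat_lit 5,nat_lit 6,nat_lit 6,nat_lit 4,nat_lit 4,nat_lit 6,nat_lit 6,nat_lit 13,nat_lit 3,nat_lit 13,nat_lit 4,nat_lit 7,nat_lit 7,nat_lit 13,nat_lit 4,nat_lit 4,nat_lit 8,nat_lit 8,nat_lit 15,nat_lit 0,nat_lit 0])))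
 (.node (.node (.leaf [nat_lit 0,nat_lit 14,nat_lit 9,nat_lit 2,nat_lit 2,nat_lit 13,nat_lit 0,nat_lit 2,nat_lit 15,nat_lit 2,nat_lit 0,nat_lit 0,nat_lit 15,nat_lit 15,nat_lit 0,nat_lit 3,nat_lit 3,nat_lit 15,nat_lit 7,nat_lit 7,nat_lit 5,nat_lit 5,nat_lit 13,nat_lit 3,nat_lit 7,nat_lit 7,nat_lit 15,nat_lit 0,nat_lit 6,nat_lit 13,nat_lit 13,nat_lit 0,nat_lit 4,nat_lit 15,nat_lit 5,nat_lit 5,nat_lit 15,nat_lit 0,nat_lit 8,nat_lit 13,nat_lit 5,nat_lit 15,nat_lit 8,nat_lit 13,nat_lit 6,nat_lit 6,nat_lit 4,nat_lit 4,nat_lit 15,nat_lit 5,nat_lit 5,nat_lit 3,nat_lit 15,nat_lit 15,nat_lit 6])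
 (.leaf [nat_lit 3,nat_lit 0,nat_lit 0,nat_lit 5,nat_lit 0,nat_lit 0,nat_lit 8,nat_lit 11,nat_lit 7,nat_lit 14,nat_lit 4,nat_lit 15,nat_lit 4,nat_lit 4,nat_lit 12,nat_lit 4,nat_lit 14,nat_lit 7,nat_lit 7,nat_lit 3,nat_lit 3,nat_lit 11,nat_lit 9,nat_lit 9,nat_lit 8,nat_lit 15,nat_lit 3,nat_lit 4,nat_lit 13,nat_lit 7,nat_lit 7,nat_lit 15,nat_lit 4,nat_lit 4,nat_lit 3,nat_lit 3,nat_lit 4,nat_lit 5,nat_lit 13,nat_lit 6,nat_lit 6,nat_lit 3,nat_lit 7,nat_lit 8]))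
 (.node (.leaf [nat_lit 9,nat_lit 7,nat_lit 2,nat_lit 11,nat_lit 5,nat_lit 15,nat_lit 14,nat_lit 6,nat_lit 9,nat_lit 4,nat_lit 4,nat_lit 13,nat_lit 4,nat_lit 15,nat_lit 4,nat_lit 8,nat_lit 8,nat_lit 15,nat_lit 4,nat_lit 4,nat_lit 0,nat_lit 13,nat_lit 8,nat_lit 15,nat_lit 3,nat_lit 3,nat_lit 4,nat_lit 7,nat_lit 13,nat_lit 8,nat_lit 8,nat_lit 3,nat_lit 3,nat_lit 6,nat_lit 7,nat_lit 7])
 (.leaf [nat_lit 9,nat_lit 7,nat_lit 7,nat_lit 5,nat_lit 5,nat_lit 14,nat_lit 0,nat_lit 0,nat_lit 7,nat_lit 12,nat_lit 5,nat_lit 3,nat_lit 3,nat_lit 13,nat_lit 5,nat_lit 0,nat_lit 3,nat_lit 6,nat_lit 6,nat_lit 3,nat_lit 7,nat_lit 8,nat_lit 5,nat_lit 5,nat_lit 13,nat_lit 0,nat_lit 4,nat_lit 15,nat_lit 15,nat_lit 0,nat_lit 8,nat_lit 13,nat_lit 13,nat_lit 0,nat_lit 4,nat_lit 15,nat_lit 5,nat_lit 14,nat_lit 15,nat_lit 0,nat_lit 0,nat_lit 3,nat_lit 13,nat_lit 12,nat_lit 8,nat_lit 6,nat_lit 4,nat_lit 6]))))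
 (.node (.node (.node (.leaf [nat_lit 9,nat_lit 13,nat_lit 13,nat_lit 13,nat_lit 14,nat_lit 2,nat_lit 2,nat_lit 7,nat_lit 12,nat_lit 7,nat_lit 7,nat_lit 0,nat_lit 6,nat_lit 15,nat_lit 15,nat_lit 8,nat_lit 8,nat_lit 13,nat_lit 7,nat_lit 7,nat_lit 15,nat_lit 5,nat_lit 5,nat_lit 3,nat_lit 13,nat_lit 7,nat_lit 7,nat_lit 8,nat_lit 8,nat_lit 3,nat_lit 3,nat_lit 6,nat_lit 7,nat_lit 7,nat_lit 5,nat_lit 5,nat_lit 13,nat_lit 0,nat_lit 0,nat_lit 3,nat_lit 15,nat_lit 5,nat_lit 6,nat_lit 6,nat_lit 3,nat_lit 7,nat_lit 8,nat_lit 6,nat_lit 6,nat_lit 3,nat_lit 7,nat_lit 8])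
 (.leaf [nat_lit 9,nat_lit 5,nat_lit 9,nat_lit 14,nat_lit 1,nat_lit 1,nat_lit 10,nat_lit 12,nat_lit 6,nat_lit 2,nat_lit 2,nat_lit 12,nat_lit 1,nat_lit 1,nat_lit 14,nat_lit 2,nat_lit 15,nat_lit 2,nat_lit 2,nat_lit 0,nat_lit 0,nat_lit 5,nat_lit 10,nat_lit 9,nat_lit 7,nat_lit 13,nat_lit 4,nat_lit 4,nat_lit 3,nat_lit 3,nat_lit 13,nat_lit 6,nat_lit 4,nat_lit 4,nat_lit 13,nat_lit 0,nat_lit 0,nat_lit 13,nat_lit 4,nat_lit 13,nat_lit 6,nat_lit 6,nat_lit 3,nat_lit 7,nat_lit 3,nat_lit 3,nat_lit 6,nat_lit 7,nat_lit 7,nat_lit 5,nat_lit 5,nat_lit 13,nat_lit 0,nat_lit 0,nat_lit 3,nat_lit 15,nat_lit 5,nat_lit 6,nat_lit 6,nat_lit 3,nat_lit 7,nat_lit 8]))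
 (.node (.leaf [nat_lit 9,nat_lit 9,nat_lit 4,nat_lit 9,nat_lit 8,nat_lit 1,nat_lit 13,nat_lit 13,nat_lit 12,nat_lit 1,nat_lit 1,nat_lit 0,nat_lit 13,nat_lit 7,nat_lit 13,nat_lit 12,nat_lit 1,nat_lit 1,nat_lit 0,nat_lit 14,nat_lit 15,nat_lit 0,nat_lit 0,nat_lit 14,nat_lit 1,nat_lit 4,nat_lit 5,nat_lit 15,nat_lit 5,nat_lit 5,nat_lit 6,nat_lit 3,nat_lit 5,nat_lit 5,nat_lit 0,nat_lit 0,nat_lit 15,nat_lit 6,nat_lit 13,nat_lit 5,nat_lit 5,nat_lit 13,nat_lit 0,nat_lit 0,nat_lit 3,nat_lit 15,nat_lit 5])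
 (.leaf [nat_lit 4,nat_lit 6,nat_lit 15,nat_lit 4,nat_lit 2,nat_lit 2,nat_lit 14,nat_lit 4,nat_lit 12,nat_lit 2,nat_lit 14,nat_lit 13,nat_lit 0,nat_lit 0,nat_lit 14,nat_lit 15,nat_lit 12,nat_lit 8,nat_lit 13,nat_lit 3,nat_lit 13,nat_lit 3,nat_lit 3,nat_lit 15,nat_lit 4,nat_lit 4,nat_lit 0,nat_lit 0,nat_lit 15,nat_lit 15,nat_lit 5,nat_lit 5,nat_lit 13,nat_lit 0,nat_lit 0,nat_lit 3,nat_lit 15,nat_lit 5,nat_lit 13,nat_lit 6,nat_lit 6,nat_lit 4,nat_lit 4,nat_lit 7,nat_lit 15,nat_lit 2,nat_lit 2,nat_lit 12,nat_lit 4,nat_lit 4,nat_lit 14,nat_lit 2,nat_lit 12,nat_lit 13,nat_lit 0,nat_lit 0,nat_lit 1,nat_lit 15,nat_lit 14])))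
 (.node (.node (.leaf [nat_lit 9,nat_lit 1,nat_lit 8,nat_lit 14,nat_lit 5,nat_lit 12,nat_lit 1,nat_lit 13,nat_lit 3,nat_lit 15,nat_lit 5,nat_lit 13,nat_lit 3,nat_lit 5,nat_lit 13,nat_lit 3,nat_lit 5,nat_lit 5,nat_lit 15,nat_lit 7,nat_lit 7,nat_lit 3,nat_lit 3,nat_lit 6,nat_lit 0,nat_lit 8,nat_lit 13,nat_lit 5,nat_lit 15,nat_lit 8,nat_lit 13,nat_lit 6,nat_lit 6,nat_lit 4,nat_lit 4,nat_lit 15,nat_lit 5,nat_lit 5,nat_lit 3,nat_lit 15,nat_lit 15,nat_lit 6,nat_lit 8,nat_lit 8,nat_lit 3,nat_lit 3,nat_lit 6,nat_lit 7,nat_lit 7,nat_lit 5,nat_lit 5,nat_lit 13,nat_lit 0,nat_lit 0,nat_lit 3,nat_lit 15,nat_lit 5,nat_lit 6,nat_lit 6,nat_lit 3,nat_lit 7,nat_lit 8])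
 (.leaf [nat_lit 4,nat_lit 0,nat_lit 4,nat_lit 15,nat_lit 6,nat_lit 1,nat_lit 13,nat_lit 7,nat_lit 11,nat_lit 11,nat_lit 15,nat_lit 5,nat_lit 15,nat_lit 0,nat_lit 5,nat_lit 6,nat_lit 5,nat_lit 5,nat_lit 13,nat_lit 0,nat_lit 4,nat_lit 0,nat_lit 0,nat_lit 3,nat_lit 15,nat_lit 5,nat_lit 6,nat_lit 6,nat_lit 3,nat_lit 7,nat_lit 8,nat_lit 5,nat_lit 5,nat_lit 13,nat_lit 0,nat_lit 0,nat_lit 3,nat_lit 15,nat_lit 5,nat_lit 8,nat_lit 8,nat_lit 3,nat_lit 3,nat_lit 6,nat_lit 7,nat_lit 7,nat_lit 5,nat_lit 5,nat_lit 13,nat_lit 3,nat_lit 3,nat_lit 0,nat_lit 15,nat_lit 5,nat_lit 6,nat_lit 6,nat_lit 3,nat_lit 7,nat_lit 8]))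
 (.leaf [nat_lit 2,nat_lit 2,nat_lit 2,nat_lit 6,nat_lit 12,nat_lit 3,nat_lit 3,nat_lit 14,nat_lit 3,nat_lit 15,nat_lit 5,nat_lit 1,nat_lit 14,nat_lit 9,nat_lit 1,nat_lit 14,nat_lit 4,nat_lit 10,nat_lit 6,nat_lit 8,nat_lit 8,nat_lit 0,nat_lit 0,nat_lit 13,nat_lit 7,nat_lit 8,nat_lit 15,nat_lit 10,nat_lit 10,nat_lit 3,nat_lit 13,nat_lit 4,nat_lit 14,nat_lit 7,nat_lit 7,nat_lit 0,nat_lit 12,nat_lit 8,nat_lit 8,nat_lit 3,nat_lit 3,nat_lit 6,nat_lit 7,nat_lit 7,nat_lit 5,nat_lit 5,nat_lit 13,nat_lit 3,nat_lit 3,nat_lit 0,nat_lit 15,nat_lit 5]))))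
 (.node (.node (.node (.node (.leaf [nat_lit 12,nat_lit 1,nat_lit 9,nat_lit 15,nat_lit 12,nat_lit 0,nat_lit 0,nat_lit 4,nat_lit 14,nat_lit 8,nat_lit 13,nat_lit 7,nat_lit 7,nat_lit 4,nat_lit 6,nat_lit 3,nat_lit 3,nat_lit 15,nat_lit 3,nat_lit 3,nat_lit 0,nat_lit 15,nat_lit 0,nat_lit 15,nat_lit 6,nat_lit 6,nat_lit 3,nat_lit 7,nat_lit 8,nat_lit 6,nat_lit 6,nat_lit 13,nat_lit 13,nat_lit 3,nat_lit 3,nat_lit 5,nat_lit 13,nat_lit 4,nat_lit 6,nat_lit 15,nat_lit 8,nat_lit 8,nat_lit 13,nat_lit 5,nat_lit 5,nat_lit 15,nat_lit 8,nat_lit 8,nat_lit 0,nat_lit 0,nat_lit 13,nat_lit 5])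
 (.leaf [nat_lit 2,nat_lit 10,nat_lit 15,nat_lit 12,nat_lit 0,nat_lit 0,nat_lit 12,nat_lit 0,nat_lit 0,nat_lit 9,nat_lit 13,nat_lit 14,nat_lit 13,nat_lit 0,nat_lit 0,nat_lit 1,nat_lit 15,nat_lit 14,nat_lit 0,nat_lit 4,nat_lit 10,nat_lit 5,nat_lit 5,nat_lit 6,nat_lit 6,nat_lit 15,nat_lit 0,nat_lit 5,nat_lit 12,nat_lit 12,nat_lit 4,nat_lit 4,nat_lit 1,nat_lit 14,nat_lit 14,nat_lit 5,nat_lit 5,nat_lit 15,nat_lit 4,nat_lit 4,nat_lit 1,nat_lit 13,nat_lit 13,nat_lit 0,nat_lit 0,nat_lit 3,nat_lit 15,nat_lit 5,nat_lit 8,nat_lit 8,nat_lit 3,nat_lit 3,nat_lit 6,nat_lit 7,nat_lit 7]))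
 (.node (.leaf [nat_lit 10,nat_lit 9,nat_lit 8,nat_lit 15,nat_lit 1,nat_lit 1,nat_lit 13,nat_lit 2,nat_lit 2,nat_lit 7,nat_lit 11,nat_lit 0,nat_lit 4,nat_lit 15,nat_lit 8,nat_lit 8,nat_lit 15,nat_lit 3,nat_lit 3,nat_lit 0,nat_lit 0,nat_lit 13,nat_lit 8,nat_lit 4,nat_lit 4,nat_lit 13,nat_lit 3,nat_lit 3,nat_lit 0,nat_lit 0,nat_lit 15,nat_lit 4,nat_lit 12,nat_lit 13,nat_lit 1,nat_lit 1,nat_lit 0,nat_lit 15,nat_lit 14,nat_lit 2,nat_lit 2,nat_lit 12,nat_lit 4,nat_lit 14,nat_lit 2,nat_lit 13,nat_lit 7,nat_lit 7,nat_lit 4,nat_lit 6,nat_lit 15])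
 (.leaf [nat_lit 9,nat_lit 10,nat_lit 9,nat_lit 15,nat_lit 6,nat_lit 6,nat_lit 7,nat_lit 11,nat_lit 11,nat_lit 14,nat_lit 0,nat_lit 0,nat_lit 7,nat_lit 13,nat_lit 0,nat_lit 0,nat_lit 14,nat_lit 15,nat_lit 12,nat_lit 13,nat_lit 3,nat_lit 3,nat_lit 15,nat_lit 3,nat_lit 3,nat_lit 0,nat_lit 15,nat_lit 0,nat_lit 15,nat_lit 8,nat_lit 8,nat_lit 3,nat_lit 3,nat_lit 6,nat_lit 7,nat_lit 7,nat_lit 8,nat_lit 8,nat_lit 3,nat_lit 3,nat_lit 6,nat_lit 7,nat_lit 7,nat_lit 5,nat_lit 5,nat_lit 13,nat_lit 0,nat_lit 0,nat_lit 3,nat_lit 15,nat_lit 5,nat_lit 6,nat_lit 6,nat_lit 3,nat_lit 7,nat_lit 8])))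
 (.node (.node (.leaf [nat_lit 5,nat_lit 6,nat_lit 6,nat_lit 3,nat_lit 7,nat_lit 8,nat_lit 14,nat_lit 7,nat_lit 14,nat_lit 15,nat_lit 14,nat_lit 13,nat_lit 4,nat_lit 7,nat_lit 7,nat_lit 4,nat_lit 4,nat_lit 1,nat_lit 2,nat_lit 14,nat_lit 4,nat_lit 4,nat_lit 12,nat_lit 10,nat_lit 11,nat_lit 8,nat_lit 8,nat_lit 3,nat_lit 3,nat_lit 6,nat_lit 7,nat_lit 7,nat_lit 6,nat_lit 6,nat_lit 13,nat_lit 13,nat_lit 3,nat_lit 3,nat_lit 5,nat_lit 13,nat_lit 4,nat_lit 6,nat_lit 15,nat_lit 8,nat_lit 8,nat_lit 13,nat_lit 5,nat_lit 5,nat_lit 15,nat_lit 8,nat_lit 8,nat_lit 0,nat_lit 0,nat_lit 13,nat_lit 5])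
 (.leaf [nat_lit 9,nat_lit 0,nat_lit 4,nat_lit 12,nat_lit 3,nat_lit 14,nat_lit 11,nat_lit 12,nat_lit 13,nat_lit 5,nat_lit 5,nat_lit 3,nat_lit 3,nat_lit 14,nat_lit 6,nat_lit 4,nat_lit 4,nat_lit 14,nat_lit 14,nat_lit 4,nat_lit 15,nat_lit 5,nat_lit 5,nat_lit 6,nat_lit 3,nat_lit 5,nat_lit 5,nat_lit 0,nat_lit 0,nat_lit 15,nat_lit 6,nat_lit 13,nat_lit 4,nat_lit 6,nat_lit 6,nat_lit 8,nat_lit 4,nat_lit 4,nat_lit 5,nat_lit 5,nat_lit 1,nat_lit 1,nat_lit 14,nat_lit 0,nat_lit 0,nat_lit 8,nat_lit 12,nat_lit 1,nat_lit 5,nat_lit 6]))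
 (.node (.leaf [nat_lit 2,nat_lit 5,nat_lit 1,nat_lit 2,nat_lit 4,nat_lit 10,nat_lit 13,nat_lit 8,nat_lit 13,nat_lit 7,nat_lit 12,nat_lit 15,nat_lit 2,nat_lit 2,nat_lit 11,nat_lit 15,nat_lit 1,nat_lit 13,nat_lit 14,nat_lit 0,nat_lit 12,nat_lit 15,nat_lit 14,nat_lit 0,nat_lit 0,nat_lit 11,nat_lit 10,nat_lit 5,nat_lit 5,nat_lit 6,nat_lit 6,nat_lit 15,nat_lit 0,nat_lit 5,nat_lit 2,nat_lit 2,nat_lit 13,nat_lit 1,nat_lit 15,nat_lit 2,nat_lit 8,nat_lit 8,nat_lit 15,nat_lit 3,nat_lit 3,nat_lit 0,nat_lit 4,nat_lit 13,nat_lit 3,nat_lit 3,nat_lit 6,nat_lit 7,nat_lit 7])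
 (.leaf [nat_lit 9,nat_lit 15,nat_lit 11,nat_lit 2,nat_lit 8,nat_lit 1,nat_lit 13,nat_lit 13,nat_lit 12,nat_lit 1,nat_lit 1,nat_lit 0,nat_lit 13,nat_lit 7,nat_lit 4,nat_lit 4,nat_lit 15,nat_lit 1,nat_lit 1,nat_lit 10,nat_lit 5,nat_lit 11,nat_lit 6,nat_lit 6,nat_lit 3,nat_lit 7,nat_lit 8,nat_lit 5,nat_lit 5,nat_lit 13,nat_lit 0,nat_lit 4,nat_lit 0,nat_lit 0,nat_lit 3,nat_lit 15,nat_lit 5]))))
 (.node (.node (.node (.leaf [nat_lit 3,nat_lit 0,nat_lit 6,nat_lit 15,nat_lit 3,nat_lit 3,nat_lit 4,nat_lit 13,nat_lit 14,nat_lit 2,nat_lit 2,nat_lit 13,nat_lit 2,nat_lit 2,nat_lit 15,nat_lit 14,nat_lit 5,nat_lit 5,nat_lit 12,nat_lit 13,nat_lit 0,nat_lit 0,nat_lit 12,nat_lit 12,nat_lit 0,nat_lit 14,nat_lit 14,nat_lit 7,nat_lit 7,nat_lit 14,nat_lit 8,nat_lit 14,nat_lit 8,nat_lit 5,nat_lit 5,nat_lit 13,nat_lit 0,nat_lit 0,nat_lit 3,nat_lit 15,nat_lit 5,nat_lit 8,nat_lit 8,nat_lit 3,nat_lit 3,nat_lit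 6,nat_lit 7,nat_lit 7])
 (.leaf [nat_lit 9,nat_lit 0,nat_lit 13,nat_lit 1,nat_lit 3,nat_lit 3,nat_lit 15,nat_lit 2,nat_lit 2,nat_lit 8,nat_lit 14,nat_lit 7,nat_lit 3,nat_lit 3,nat_lit 8,nat_lit 8,nat_lit 15,nat_lit 15,nat_lit 4,nat_lit 7,nat_lit 2,nat_lit 2,nat_lit 13,nat_lit 1,nat_lit 15,nat_lit 2,nat_lit 8,nat_lit 8,nat_lit 15,nat_lit 3,nat_lit 3,nat_lit 0,nat_lit 4,nat_lit 13,nat_lit 8,nat_lit 8,nat_lit 6,nat_lit 4,nat_lit 6,nat_lit 8,nat_lit 8,nat_lit 3,nat_lit 3,nat_lit 6,nat_lit 7,nat_lit 7,nat_lit 5,nat_lit 5,nat_lit 13,nat_lit 0,nat_lit 0,nat_lit 3,nat_lit 15,nat_lit 5,nat_lit 6,nat_lit 6,nat_lit 3,nat_lit 7,nat_lit 8]))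
 (.node (.leaf [nat_lit 9,nat_lit 2,nat_lit 9,nat_lit 8,nat_lit 7,nat_lit 7,nat_lit 12,nat_lit 2,nat_lit 2,nat_lit 12,nat_lit 11,nat_lit 6,nat_lit 5,nat_lit 5,nat_lit 6,nat_lit 6,nat_lit 15,nat_lit 0,nat_lit 5,nat_lit 0,nat_lit 0,nat_lit 15,nat_lit 15,nat_lit 0,nat_lit 13,nat_lit 12,nat_lit 3,nat_lit 3,nat_lit 14,nat_lit 15,nat_lit 8,nat_lit 8,nat_lit 13,nat_lit 2,nat_lit 2,nat_lit 10,nat_lit 10,nat_lit 11,nat_lit 13,nat_lit 6,nat_lit 7,nat_lit 7,nat_lit 15,nat_lit 14,nat_lit 15,nat_lit 3,nat_lit 3,nat_lit 0,nat_lit 13,nat_lit 12,nat_lit 13,nat_lit 7,nat_lit 6,nat_lit 6,nat_lit 15,nat_lit 5,nat_lit 5,nat_lit 13,nat_lit 0,nat_lit 0,nat_lit 3,nat_lit 15,nat_lit 5])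
 (.leaf [nat_lit 9,nat_lit 0,nat_lit 0,nat_lit 5,nat_lit 0,nat_lit 12,nat_lit 1,nat_lit 5,nat_lit 4,nat_lit 6,nat_lit 6,nat_lit 3,nat_lit 7,nat_lit 8,nat_lit 5,nat_lit 5,nat_lit 6,nat_lit 6,nat_lit 15,nat_lit 7,nat_lit 8,nat_lit 13,nat_lit 7,nat_lit 7,nat_lit 13,nat_lit 13,nat_lit 7,nat_lit 3,nat_lit 3,nat_lit 15,nat_lit 0,nat_lit 0,nat_lit 13,nat_lit 3,nat_lit 7,nat_lit 7,nat_lit 15,nat_lit 15,nat_lit 7,nat_lit 15,nat_lit 5,nat_lit 5,nat_lit 13,nat_lit 0,nat_lit 0,nat_lit 3,nat_lit 15,nat_lit 5,nat_lit 6,nat_lit 6,nat_lit 4,nat_lit 4,nat_lit 6,nat_lit 6,nat_lit 13,nat_lit 3,nat_lit 13,nat_lit 4,nat_lit 7,nat_lit 7,nat_lit 13,nat_lit 4,nat_lit 4,nat_lit 8,nat_lit 8,nat_lit 15,nat_lit 0,nat_lit 0])))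
 (.node (.node (.leaf [nat_lit 12,nat_lit 0,nat_lit 1,nat_lit 5,nat_lit 6,nat_lit 13,nat_lit 12,nat_lit 3,nat_lit 14,nat_lit 15,nat_lit 12,nat_lit 8,nat_lit 8,nat_lit 0,nat_lit 14,nat_lit 14,nat_lit 14,nat_lit 8,nat_lit 12,nat_lit 12,nat_lit 5,nat_lit 5,nat_lit 13,nat_lit 0,nat_lit 4,nat_lit 15,nat_lit 5,nat_lit 13,nat_lit 6,nat_lit 7,nat_lit 7,nat_lit 15,nat_lit 14,nat_lit 15,nat_lit 3,nat_lit 3,nat_lit 0,nat_lit 13,nat_lit 12,nat_lit 13,nat_lit 7,nat_lit 6,nat_lit 6,nat_lit 15])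
 (.leaf [nat_lit 9,nat_lit 12,nat_lit 12,nat_lit 2,nat_lit 2,nat_lit 7,nat_lit 3,nat_lit 14,nat_lit 5,nat_lit 5,nat_lit 15,nat_lit 0,nat_lit 13,nat_lit 5,nat_lit 6,nat_lit 6,nat_lit 3,nat_lit 7,nat_lit 8,nat_lit 7,nat_lit 7,nat_lit 6,nat_lit 6,nat_lit 13,nat_lit 0,nat_lit 1,nat_lit 1,nat_lit 14,nat_lit 15,nat_lit 12,nat_lit 15,nat_lit 4,nat_lit 4,nat_lit 0,nat_lit 0,nat_lit 2,nat_lit 7,nat_lit 13,nat_lit 5,nat_lit 5,nat_lit 13,nat_lit 0,nat_lit 0,nat_lit 3,nat_lit 15,nat_lit 5]))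
 (.leaf [nat_lit 9,nat_lit 14,nat_lit 15,nat_lit 4,nat_lit 13,nat_lit 13,nat_lit 2,nat_lit 11,nat_lit 11,nat_lit 15,nat_lit 15,nat_lit 6,nat_lit 15,nat_lit 15,nat_lit 14,nat_lit 15,nat_lit 0,nat_lit 0,nat_lit 3,nat_lit 13,nat_lit 12,nat_lit 5,nat_lit 5,nat_lit 13,nat_lit 3,nat_lit 3,nat_lit 0,nat_lit 15,nat_lit 5,nat_lit 12,nat_lit 13,nat_lit 1,nat_lit 1,nat_lit 0,nat_lit 15,nat_lit 14,nat_lit 2,nat_lit 2,nat_lit 12,nat_lit 4,nat_lit 14,nat_lit 2,nat_lit 13,nat_lit 7,nat_lit 7,nat_lit 4,nat_lit 6,nat_lit 15]))))))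
 (.node (.node (.node (.node (.node (.node (.leaf [nat_lit 11,nat_lit 9,nat_lit 2,nat_lit 12,nat_lit 7,nat_lit 7,nat_lit 1,nat_lit 1,nat_lit 12,nat_lit 9,nat_lit 7,nat_lit 15,nat_lit 6,nat_lit 6,nat_lit 12,nat_lit 0,nat_lit 0,nat_lit 6,nat_lit 4,nat_lit 4,nat_lit 5,nat_lit 5,nat_lit 7,nat_lit 14,nat_lit 6,nat_lit 5,nat_lit 5,nat_lit 13,nat_lit 0,nat_lit 4,nat_lit 15,nat_lit 5,nat_lit 8,nat_lit 8,nat_lit 3,nat_lit 3,nat_lit 6,nat_lit 7,nat_lit 7,nat_lit 5,nat_lit 5,nat_lit 13,nat_lit 0,nat_lit 0,nat_lit 3,nat_lit 15,nat_lit 5])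
 (.leaf [nat_lit 9,nat_lit 2,nat_lit 9,nat_lit 11,nat_lit 7,nat_lit 7,nat_lit 12,nat_lit 4,nat_lit 14,nat_lit 7,nat_lit 15,nat_lit 3,nat_lit 3,nat_lit 4,nat_lit 7,nat_lit 13,nat_lit 4,nat_lit 7,nat_lit 3,nat_lit 4]))
 (.node (.leaf [nat_lit 11,nat_lit 7,nat_lit 6,nat_lit 13,nat_lit 9,nat_lit 9,nat_lit 9,nat_lit 9,nat_lit 9,nat_lit 9,nat_lit 9,nat_lit 9,nat_lit 12,nat_lit 2,nat_lit 2,nat_lit 4,nat_lit 11,nat_lit 14,nat_lit 3,nat_lit 3,nat_lit 7,nat_lit 7,nat_lit 0,nat_lit 4,nat_lit 15,nat_lit 0,nat_lit 8,nat_lit 8,nat_lit 7,nat_lit 7,nat_lit 13,nat_lit 6,nat_lit 5,nat_lit 4,nat_lit 4,nat_lit 13,nat_lit 0,nat_lit 0,nat_lit 13,nat_lit 4,nat_lit 13,nat_lit 3,nat_lit 3,nat_lit 15,nat_lit 4,nat_lit 13,nat_lit 3,nat_lit 6,nat_lit 6,nat_lit 3,nat_lit 7,nat_lit 8])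
 (.leaf [nat_lit 10,nat_lit 3,nat_lit 11,nat_lit 12,nat_lit 12,nat_lit 13,nat_lit 3,nat_lit 3,nat_lit 0,nat_lit 1,nat_lit 15,nat_lit 14,nat_lit 2,nat_lit 2,nat_lit 13,nat_lit 1,nat_lit 15,nat_lit 2,nat_lit 13,nat_lit 6,nat_lit 7,nat_lit 7,nat_lit 15,nat_lit 12,nat_lit 1,nat_lit 1,nat_lit 14,nat_lit 1,nat_lit 12,nat_lit 1,nat_lit 2,nat_lit 2,nat_lit 14,nat_lit 1,nat_lit 9,nat_lit 8,nat_lit 2,nat_lit 7,nat_lit 15,nat_lit 6,nat_lit 6,nat_lit 3,nat_lit 7,nat_lit 8,nat_lit 5,nat_lit 5,nat_lit 13,nat_lit 0,nat_lit 0,nat_lit 3,nat_lit 15,nat_lit 5])))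
 (.node (.node (.leaf [nat_lit 6,nat_lit 2,nat_lit 9,nat_lit 5,nat_lit 5,nat_lit 1,nat_lit 1,nat_lit 0,nat_lit 12,nat_lit 13,nat_lit 8,nat_lit 15,nat_lit 3,nat_lit 4,nat_lit 13,nat_lit 12,nat_lit 12,nat_lit 0,nat_lit 14,nat_lit 14,nat_lit 7,nat_lit 7,nat_lit 14,nat_lit 8,nat_lit 14,nat_lit 8,nat_lit 5,nat_lit 5,nat_lit 13,nat_lit 0,nat_lit 0,nat_lit 3,nat_lit 15,nat_lit 5,nat_lit 6,nat_lit 6,nat_lit 3,nat_lit 7,nat_lit 8,nat_lit 5,nat_lit 5,nat_lit 13,nat_lit 0,nat_lit 0,nat_lit 3,nat_lit 15,nat_lit 5])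
 (.leaf [nat_lit 9,nat_lit 0,nat_lit 1,nat_lit 10,nat_lit 5,nat_lit 5,nat_lit 14,nat_lit 15,nat_lit 4,nat_lit 12,nat_lit 6,nat_lit 6,nat_lit 14,nat_lit 0,nat_lit 0,nat_lit 2,nat_lit 10,nat_lit 15,nat_lit 5,nat_lit 3,nat_lit 12,nat_lit 13,nat_lit 8,nat_lit 6,nat_lit 4,nat_lit 3,nat_lit 7,nat_lit 8]))
 (.node (.leaf [nat_lit 0,nat_lit 8,nat_lit 4,nat_lit 4,nat_lit 13,nat_lit 12,nat_lit 4,nat_lit 6,nat_lit 15,nat_lit 4,nat_lit 6,nat_lit 7,nat_lit 8,nat_lit 4,nat_lit 4,nat_lit 7,nat_lit 7,nat_lit 3,nat_lit 10,nat_lit 11,nat_lit 2,nat_lit 13,nat_lit 8,nat_lit 15,nat_lit 3,nat_lit 4,nat_lit 13,nat_lit 6,nat_lit 6,nat_lit 3,nat_lit 7,nat_lit 8,nat_lit 6,nat_lit 7,nat_lit 7,nat_lit 13,nat_lit 6,nat_lit 13,nat_lit 6,nat_lit 6,nat_lit 3,nat_lit 7,nat_lit 8])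
 (.leaf [nat_lit 5,nat_lit 10,nat_lit 8,nat_lit 15,nat_lit 0,nat_lit 0,nat_lit 12,nat_lit 1,nat_lit 14,nat_lit 0,nat_lit 13,nat_lit 6,nat_lit 6,nat_lit 7,nat_lit 4,nat_lit 15,nat_lit 15,nat_lit 8,nat_lit 8,nat_lit 13,nat_lit 7,nat_lit 7,nat_lit 15,nat_lit 5,nat_lit 5,nat_lit 3,nat_lit 13,nat_lit 7,nat_lit 7,nat_lit 5,nat_lit 5,nat_lit 13,nat_lit 0,nat_lit 0,nat_lit 3,nat_lit 15,nat_lit 5,nat_lit 12,nat_lit 13,nat_lit 1,nat_lit 1,nat_lit 0,nat_lit 15,nat_lit 14,nat_lit 2,nat_lit 2,nat_lit 12,nat_lit 4,nat_lit 14,nat_lit 2,nat_lit 13,nat_lit 7,nat_lit 7,nat_lit 4,nat_lit 6,nat_lit 15]))))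
 (.node (.node (.node (.leaf [nat_lit 9,nat_lit 7,nat_lit 8,nat_lit 6,nat_lit 4,nat_lit 6])
 (.leaf [nat_lit 9,nat_lit 14,nat_lit 8,nat_lit 14,nat_lit 1,nat_lit 1,nat_lit 12,nat_lit 9,nat_lit 10,nat_lit 12,nat_lit 15,nat_lit 6,nat_lit 6,nat_lit 15,nat_lit 3,nat_lit 3,nat_lit 1,nat_lit 1,nat_lit 13,nat_lit 13,nat_lit 3,nat_lit 3,nat_lit 14,nat_lit 15,nat_lit 5,nat_lit 13,nat_lit 3,nat_lit 15,nat_lit 1,nat_lit 1,nat_lit 14,nat_lit 5,nat_lit 12,nat_lit 1,nat_lit 5,nat_lit 5,nat_lit 15,nat_lit 1,nat_lit 1,nat_lit 7,nat_lit 14,nat_lit 14]))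
 (.node (.leaf [nat_lit 10,nat_lit 6,nat_lit 15,nat_lit 4,nat_lit 15,nat_lit 5,nat_lit 1,nat_lit 14,nat_lit 9,nat_lit 4,nat_lit 4,nat_lit 14,nat_lit 4,nat_lit 5,nat_lit 5,nat_lit 12,nat_lit 12,nat_lit 0,nat_lit 13,nat_lit 0,nat_lit 4,nat_lit 15,nat_lit 5,nat_lit 14,nat_lit 15,nat_lit 0,nat_lit 0,nat_lit 3,nat_lit 13,nat_lit 12,nat_lit 5,nat_lit 5,nat_lit 13,nat_lit 0,nat_lit 0,nat_lit 3,nat_lit 15,nat_lit 5,nat_lit 8,nat_lit 8,nat_lit 3,nat_lit 3,nat_lit 6,nat_lit 7,nat_lit 7,nat_lit 5,nat_lit 5,nat_lit 13,nat_lit 3,nat_lit 3,nat_lit 0,nat_lit 15,nat_lit 5,nat_lit 6,nat_lit 6,nat_lit 3,nat_lit 7,nat_lit 8])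
 (.leaf [nat_lit 9,nat_lit 0,nat_lit 13,nat_lit 1,nat_lit 8,nat_lit 2,nat_lit 2,nat_lit 5,nat_lit 9,nat_lit 13,nat_lit 3,nat_lit 3,nat_lit 12,nat_lit 7,nat_lit 7,nat_lit 2,nat_lit 14,nat_lit 14,nat_lit 14,nat_lit 1,nat_lit 1,nat_lit 4,nat_lit 12,nat_lit 12,nat_lit 8,nat_lit 8,nat_lit 15,nat_lit 3,nat_lit 3,nat_lit 0,nat_lit 0,nat_lit 13,nat_lit 8,nat_lit 4,nat_lit 4,nat_lit 13,nat_lit 3,nat_lit 3,nat_lit 0,nat_lit 0,nat_lit 15,nat_lit 4,nat_lit 5,nat_lit 5,nat_lit 13,nat_lit 0,nat_lit 0,nat_lit 3,nat_lit 15,nat_lit 5,nat_lit 8,nat_lit 8,nat_lit 3,nat_lit 3,nat_lit 6,nat_lit 7,nat_lit 7,nat_lit 5,nat_lit 5,nat_lit 13,nat_lit 3,nat_lit 3,nat_lit 0,nat_lit 15,nat_lit 5])))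
 (.node (.node (.leaf [nat_lit 9,nat_lit 4,nat_lit 13,nat_lit 13,nat_lit 7,nat_lit 7,nat_lit 4,nat_lit 6,nat_lit 15,nat_lit 5,nat_lit 5,nat_lit 15,nat_lit 8,nat_lit 8,nat_lit 0,nat_lit 0,nat_lit 13,nat_lit 13,nat_lit 0,nat_lit 4,nat_lit 15,nat_lit 5,nat_lit 6,nat_lit 6,nat_lit 3,nat_lit 7,nat_lit 8,nat_lit 6,nat_lit 6,nat_lit 13,nat_lit 13,nat_lit 3,nat_lit 3,nat_lit 5,nat_lit 13,nat_lit 4,nat_lit 6,nat_lit 15,nat_lit 8,nat_lit 8,nat_lit 13,nat_lit 5,nat_lit 5,nat_lit 15,nat_lit 8,nat_lit 8,nat_lit 0,nat_lit 0,nat_lit 13,nat_lit 5])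
 (.leaf [nat_lit 9,nat_lit 1,nat_lit 10,nat_lit 9,nat_lit 6,nat_lit 6,nat_lit 15,nat_lit 3,nat_lit 14,nat_lit 6,nat_lit 6,nat_lit 4,nat_lit 9,nat_lit 3,nat_lit 3,nat_lit 12,nat_lit 7,nat_lit 7,nat_lit 2,nat_lit 14,nat_lit 14,nat_lit 14,nat_lit 1,nat_lit 1,nat_lit 4,nat_lit 12,nat_lit 12,nat_lit 8,nat_lit 8,nat_lit 5,nat_lit 7,nat_lit 7,nat_lit 6,nat_lit 6,nat_lit 4,nat_lit 4,nat_lit 15,nat_lit 5,nat_lit 5,nat_lit 6,nat_lit 15,nat_lit 7,nat_lit 13,nat_lit 0,nat_lit 0,nat_lit 3,nat_lit 15,nat_lit 5]))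
 (.leaf [nat_lit 10,nat_lit 1,nat_lit 6,nat_lit 3,nat_lit 14,nat_lit 2,nat_lit 2,nat_lit 7,nat_lit 12,nat_lit 12,nat_lit 8,nat_lit 7,nat_lit 7,nat_lit 14,nat_lit 4,nat_lit 4,nat_lit 14,nat_lit 6,nat_lit 12,nat_lit 8,nat_lit 5,nat_lit 2,nat_lit 2,nat_lit 13,nat_lit 1,nat_lit 15,nat_lit 2,nat_lit 8,nat_lit 8,nat_lit 15,nat_lit 3,nat_lit 3,nat_lit 0,nat_lit 4,nat_lit 13,nat_lit 3,nat_lit 3,nat_lit 6,nat_lit 7,nat_lit 7,nat_lit 5,nat_lit 5,nat_lit 13,nat_lit 0,nat_lit 0,nat_lit 3,nat_lit 15,nat_lit 5]))))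
 (.node (.node (.node (.node (.leaf [nat_lit 7,nat_lit 6,nat_lit 4,nat_lit 1,nat_lit 15,nat_lit 9,nat_lit 8,nat_lit 8,nat_lit 15,nat_lit 0,nat_lit 3,nat_lit 13,nat_lit 8,nat_lit 8,nat_lit 15,nat_lit 3,nat_lit 4,nat_lit 13,nat_lit 6,nat_lit 6,nat_lit 3,nat_lit 7,nat_lit 8,nat_lit 6,nat_lit 7,nat_lit 7,nat_lit 13,nat_lit 6,nat_lit 13,nat_lit 8,nat_lit 8,nat_lit 3,nat_lit 3,nat_lit 6,nat_lit 7,nat_lit 7,nat_lit 13,nat_lit 6,nat_lit 7,nat_lit 7,nat_lit 15,nat_lit 14,nat_lit 15,nat_lit 3,nat_lit 3,nat_lit 0,nat_lit 13,nat_lit 12,nat_lit 13,nat_lit 7,nat_lit 6,nat_lit 6,nat_lit 15])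
 (.leaf [nat_lit 9,nat_lit 13,nat_lit 9,nat_lit 15,nat_lit 7,nat_lit 5,nat_lit 12,nat_lit 9,nat_lit 4,nat_lit 15,nat_lit 7,nat_lit 7,nat_lit 5,nat_lit 5,nat_lit 13,nat_lit 0,nat_lit 0,nat_lit 3,nat_lit 15,nat_lit 5,nat_lit 8,nat_lit 8,nat_lit 3,nat_lit 3,nat_lit 6,nat_lit 7,nat_lit 7,nat_lit 12,nat_lit 13,nat_lit 1,nat_lit 1,nat_lit 0,nat_lit 15,nat_lit 14,nat_lit 2,nat_lit 2,nat_lit 12,nat_lit 4,nat_lit 14,nat_lit 2,nat_lit 13,nat_lit 7,nat_lit 7,nat_lit 4,nat_lit 6,nat_lit 15]))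
 (.node (.leaf [nat_lit 9,nat_lit 2,nat_lit 6,nat_lit 13,nat_lit 9,nat_lit 8,nat_lit 15,nat_lit 15,nat_lit 4,nat_lit 11,nat_lit 7,nat_lit 5,nat_lit 5,nat_lit 15,nat_lit 8,nat_lit 13,nat_lit 5,nat_lit 8,nat_lit 6,nat_lit 4,nat_lit 6,nat_lit 8,nat_lit 8,nat_lit 3,nat_lit 3,nat_lit 6,nat_lit 7,nat_lit 7,nat_lit 5,nat_lit 5,nat_lit 13,nat_lit 3,nat_lit 3,nat_lit 0,nat_lit 15,nat_lit 5,nat_lit 4,nat_lit 6,nat_lit 6,nat_lit 8,nat_lit 4,nat_lit 4,nat_lit 5,nat_lit 5,nat_lit 1,nat_lit 1,nat_lit 14,nat_lit 0,nat_lit 0,nat_lit 8,nat_lit 12,nat_lit 1,nat_lit 5,nat_lit 6])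
 (.leaf [nat_lit 9,nat_lit 11,nat_lit 2,nat_lit 4,nat_lit 12,nat_lit 0,nat_lit 0,nat_lit 9,nat_lit 8,nat_lit 1,nat_lit 1,nat_lit 15,nat_lit 3,nat_lit 3,nat_lit 12,nat_lit 0,nat_lit 13,nat_lit 14,nat_lit 1,nat_lit 1,nat_lit 0,nat_lit 4,nat_lit 12,nat_lit 15,nat_lit 7,nat_lit 7,nat_lit 15,nat_lit 15,nat_lit 7,nat_lit 15,nat_lit 5,nat_lit 5,nat_lit 0,nat_lit 0,nat_lit 13,nat_lit 6,nat_lit 13,nat_lit 0,nat_lit 0,nat_lit 3,nat_lit 15,nat_lit 5,nat_lit 6,nat_lit 6,nat_lit 3,nat_lit 7,nat_lit 8,nat_lit 5,nat_lit 5,nat_lit 13,nat_lit 0,nat_lit 0,nat_lit 3,nat_lit 15,nat_lit 5])))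
 (.node (.node (.leaf [nat_lit 10,nat_lit 1,nat_lit 2,nat_lit 8,nat_lit 1,nat_lit 13,nat_lit 13,nat_lit 12,nat_lit 1,nat_lit 1,nat_lit 0,nat_lit 13,nat_lit 7,nat_lit 15,nat_lit 8,nat_lit 13,nat_lit 13,nat_lit 13,nat_lit 6,nat_lit 6,nat_lit 13,nat_lit 13,nat_lit 4,nat_lit 4,nat_lit 5,nat_lit 5,nat_lit 13,nat_lit 0,nat_lit 7,nat_lit 0,nat_lit 13,nat_lit 8,nat_lit 4,nat_lit 15,nat_lit 7,nat_lit 4,nat_lit 4,nat_lit 15,nat_lit 3,nat_lit 3,nat_lit 15,nat_lit 6,nat_lit 4,nat_lit 6,nat_lit 8,nat_lit 8,nat_lit 3,nat_lit 3,nat_lit 6,nat_lit 7,nat_lit 7])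
 (.leaf [nat_lit 9,nat_lit 2,nat_lit 9,nat_lit 3,nat_lit 1,nat_lit 1,nat_lit 15,nat_lit 8,nat_lit 8,nat_lit 0,nat_lit 4,nat_lit 10,nat_lit 3,nat_lit 3,nat_lit 6,nat_lit 6,nat_lit 5,nat_lit 13,nat_lit 5,nat_lit 13,nat_lit 3,nat_lit 5,nat_lit 13,nat_lit 3,nat_lit 5,nat_lit 5,nat_lit 15,nat_lit 7,nat_lit 7,nat_lit 3,nat_lit 3,nat_lit 6,nat_lit 13,nat_lit 13,nat_lit 0,nat_lit 0,nat_lit 3,nat_lit 15,nat_lit 5]))
 (.node (.leaf [nat_lit 4,nat_lit 0,nat_lit 12,nat_lit 0,nat_lit 0,nat_lit 8,nat_lit 8,nat_lit 9,nat_lit 9,nat_lit 9,nat_lit 9,nat_lit 9,nat_lit 9,nat_lit 9,nat_lit 11,nat_lit 10,nat_lit 9,nat_lit 5,nat_lit 13,nat_lit 3,nat_lit 5,nat_lit 13,nat_lit 3,nat_lit 5,nat_lit 13,nat_lit 3,nat_lit 5,nat_lit 13,nat_lit 3,nat_lit 5,nat_lit 5,nat_lit 15,nat_lit 7,nat_lit 7,nat_lit 3,nat_lit 3,nat_lit 6,nat_lit 13,nat_lit 5,nat_lit 8,nat_lit 8,nat_lit 3,nat_lit 3,nat_lit 6,nat_lit 7,nat_lit 7,nat_lit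 5,nat_lit 5,nat_lit 13,nat_lit 0,nat_lit 0,nat_lit 3,nat_lit 15,nat_lit 5])
 (.leaf [nat_lit 9,nat_lit 2,nat_lit 12,nat_lit 6,nat_lit 14,nat_lit 15,nat_lit 1,nat_lit 1,nat_lit 10,nat_lit 12,nat_lit 12,nat_lit 4,nat_lit 15,nat_lit 7,nat_lit 7,nat_lit 15,nat_lit 8,nat_lit 8,nat_lit 13,nat_lit 7,nat_lit 7,nat_lit 15,nat_lit 5,nat_lit 5,nat_lit 3,nat_lit 13,nat_lit 7,nat_lit 7,nat_lit 8,nat_lit 8,nat_lit 3,nat_lit 3,nat_lit 6,nat_lit 7,nat_lit 7,nat_lit 4,nat_lit 6,nat_lit 6,nat_lit 8,nat_lit 4,nat_lit 4,nat_lit 5,nat_lit 5,nat_lit 1,nat_lit 1,nat_lit 14,nat_lit 0,nat_lit 0,nat_lit 8,nat_lit 12,nat_lit 1,nat_lit 5,nat_lit 6]))))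
 (.node (.node (.node (.leaf [nat_lit 9,nat_lit 0,nat_lit 8,nat_lit 12,nat_lit 2,nat_lit 2,nat_lit 14,nat_lit 15,nat_lit 5,nat_lit 8,nat_lit 5,nat_lit 5,nat_lit 4,nat_lit 4,nat_lit 0,nat_lit 0,nat_lit 13,nat_lit 7,nat_lit 15,nat_lit 15,nat_lit 5,nat_lit 5,nat_lit 6,nat_lit 3,nat_lit 5,nat_lit 5,nat_lit 0,nat_lit 0,nat_lit 15,nat_lit 6,nat_lit 13,nat_lit 5,nat_lit 5,nat_lit 13,nat_lit 3,nat_lit 3,nat_lit 0,nat_lit 15,nat_lit 5,nat_lit 8,nat_lit 8,nat_lit 3,nat_lit 3,nat_lit 6,nat_lit 7,nat_lit 7,nat_lit 5,nat_lit 5,nat_lit 13,nat_lit 3,nat_lit 3,nat_lit 0,nat_lit 15,nat_lit 5,nat_lit 6,nat_lit 6,nat_lit 3,nat_lit 7,nat_lit 8])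
 (.leaf [nat_lit 10,nat_lit 2,nat_lit 9,nat_lit 3,nat_lit 12,nat_lit 12,nat_lit 10,nat_lit 13,nat_lit 6,nat_lit 6,nat_lit 4,nat_lit 4,nat_lit 15,nat_lit 5,nat_lit 5,nat_lit 0,nat_lit 0,nat_lit 15,nat_lit 0,nat_lit 3,nat_lit 1,nat_lit 1,nat_lit 15,nat_lit 12,nat_lit 0,nat_lit 3,nat_lit 12,nat_lit 12,nat_lit 0,nat_lit 14,nat_lit 14,nat_lit 0,nat_lit 0,nat_lit 14,nat_lit 3,nat_lit 13,nat_lit 1,nat_lit 5,nat_lit 5,nat_lit 13,nat_lit 0,nat_lit 0,nat_lit 3,nat_lit 15,nat_lit 5]))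
 (.node (.leaf [nat_lit 11,nat_lit 1,nat_lit 11,nat_lit 5,nat_lit 5,nat_lit 0,nat_lit 0,nat_lit 15,nat_lit 15,nat_lit 8,nat_lit 15,nat_lit 1,nat_lit 13,nat_lit 11,nat_lit 15,nat_lit 8,nat_lit 13,nat_lit 6,nat_lit 6,nat_lit 4,nat_lit 4,nat_lit 15,nat_lit 5,nat_lit 5,nat_lit 3,nat_lit 15,nat_lit 15,nat_lit 6,nat_lit 0,nat_lit 13,nat_lit 8,nat_lit 4,nat_lit 15,nat_lit 7,nat_lit 4,nat_lit 4,nat_lit 15,nat_lit 3,nat_lit 3,nat_lit 15,nat_lit 6,nat_lit 4,nat_lit 6,nat_lit 8,nat_lit 8,nat_lit 3,nat_lit 3,nat_lit 6,nat_lit 7,nat_lit 7])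
 (.leaf [nat_lit 10,nat_lit 0,nat_lit 14,nat_lit 2,nat_lit 0,nat_lit 0,nat_lit 14,nat_lit 1,nat_lit 4,nat_lit 5,nat_lit 14,nat_lit 13,nat_lit 12,nat_lit 1,nat_lit 7,nat_lit 3,nat_lit 3,nat_lit 15,nat_lit 5,nat_lit 5,nat_lit 3,nat_lit 3,nat_lit 15,nat_lit 5,nat_lit 5,nat_lit 7,nat_lit 7,nat_lit 6,nat_lit 6,nat_lit 13,nat_lit 0,nat_lit 1,nat_lit 1,nat_lit 14,nat_lit 15,nat_lit 12,nat_lit 15,nat_lit 4,nat_lit 4,nat_lit 0,nat_lit 0,nat_lit 2,nat_lit 7,nat_lit 13,nat_lit 5,nat_lit 5,nat_lit 13,nat_lit 3,nat_lit 3,nat_lit 0,nat_lit 15,nat_lit 5])))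
 (.node (.node (.leaf [nat_lit 9,nat_lit 0,nat_lit 4,nat_lit 14,nat_lit 5,nat_lit 2,nat_lit 2,nat_lit 4,nat_lit 13,nat_lit 6,nat_lit 6,nat_lit 3,nat_lit 3,nat_lit 8,nat_lit 5,nat_lit 13,nat_lit 4,nat_lit 7,nat_lit 3,nat_lit 4,nat_lit 5,nat_lit 5,nat_lit 13,nat_lit 0,nat_lit 0,nat_lit 3,nat_lit 15,nat_lit 5,nat_lit 13,nat_lit 6,nat_lit 7,nat_lit 7,nat_lit 15,nat_lit 14,nat_lit 15,nat_lit 3,nat_lit 3,nat_lit 0,nat_lit 13,nat_lit 12,nat_lit 13,nat_lit 7,nat_lit 6,nat_lit 6,nat_lit 15,nat_lit 5,nat_lit 5,nat_lit 13,nat_lit 0,nat_lit 0,nat_lit 3,nat_lit 15,nat_lit 5])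
 (.leaf [nat_lit 6,nat_lit 3,nat_lit 3,nat_lit 12,nat_lit 0,nat_lit 10,nat_lit 15,nat_lit 2,nat_lit 11,nat_lit 9,nat_lit 13,nat_lit 4,nat_lit 4,nat_lit 1,nat_lit 1,nat_lit 7,nat_lit 7,nat_lit 1,nat_lit 6,nat_lit 15,nat_lit 2,nat_lit 2,nat_lit 7,nat_lit 7,nat_lit 1,nat_lit 1,nat_lit 3,nat_lit 14,nat_lit 0,nat_lit 0,nat_lit 14,nat_lit 7,nat_lit 5,nat_lit 8,nat_lit 8,nat_lit 3,nat_lit 3,nat_lit 6,nat_lit 7,nat_lit 7,nat_lit 5,nat_lit 5,nat_lit 13,nat_lit 3,nat_lit 3,nat_lit 0,nat_lit 15,nat_lit 5,nat_lit 6,nat_lit 6,nat_lit 3,nat_lit 7,nat_lit 8]))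
 (.leaf [nat_lit 9,nat_lit 12,nat_lit 2,nat_lit 12,nat_lit 5,nat_lit 5,nat_lit 6,nat_lit 6,nat_lit 11,nat_lit 14,nat_lit 9,nat_lit 14,nat_lit 4,nat_lit 4,nat_lit 13,nat_lit 12,nat_lit 5,nat_lit 2,nat_lit 14,nat_lit 0,nat_lit 4,nat_lit 5,nat_lit 12,nat_lit 13,nat_lit 0,nat_lit 3,nat_lit 4,nat_lit 15,nat_lit 5,nat_lit 5,nat_lit 0,nat_lit 0,nat_lit 13,nat_lit 6,nat_lit 5,nat_lit 6,nat_lit 6,nat_lit 5,nat_lit 5,nat_lit 4,nat_lit 4,nat_lit 15,nat_lit 5,nat_lit 7])))))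
 (.node (.node (.node (.node (.node (.leaf [nat_lit 12,nat_lit 0,nat_lit 0,nat_lit 12,nat_lit 5,nat_lit 5,nat_lit 14,nat_lit 13,nat_lit 1,nat_lit 7,nat_lit 15,nat_lit 8,nat_lit 13,nat_lit 6,nat_lit 6,nat_lit 3,nat_lit 7,nat_lit 8,nat_lit 5,nat_lit 5,nat_lit 13,nat_lit 0,nat_lit 4,nat_lit 15,nat_lit 5,nat_lit 8,nat_lit 8,nat_lit 3,nat_lit 3,nat_lit 6,nat_lit 7,nat_lit 7,nat_lit 5,nat_lit 5,nat_lit 13,nat_lit 0,nat_lit 0,nat_lit 3,nat_lit 15,nat_lit 5,nat_lit 4,nat_lit 6,nat_lit 6,nat_lit 8,nat_lit 4,nat_lit 4,nat_lit 5,nat_lit 5,nat_lit 1,nat_lit 1,nat_lit 14,nat_lit 0,nat_lit 0,nat_lit 8,nat_lit 12,nat_lit 1,nat_lit 5,nat_lit 6])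
 (.leaf [nat_lit 9,nat_lit 6,nat_lit 8,nat_lit 1,nat_lit 11,nat_lit 2,nat_lit 5,nat_lit 13,nat_lit 0,nat_lit 3,nat_lit 4,nat_lit 15,nat_lit 8,nat_lit 6,nat_lit 4,nat_lit 6,nat_lit 5,nat_lit 5,nat_lit 13,nat_lit 3,nat_lit 3,nat_lit 0,nat_lit 15,nat_lit 5,nat_lit 7,nat_lit 6,nat_lit 6,nat_lit 3,nat_lit 8,nat_lit 6,nat_lit 6,nat_lit 4,nat_lit 4,nat_lit 6,nat_lit 6,nat_lit 13,nat_lit 3,nat_lit 13,nat_lit 4,nat_lit 7,nat_lit 7,nat_lit 13,nat_lit 4,nat_lit 4,nat_lit 8,nat_lit 8,nat_lit 15,nat_lit 0,nat_lit 0]))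
 (.node (.leaf [nat_lit 9,nat_lit 0,nat_lit 7,nat_lit 2,nat_lit 2,nat_lit 15,nat_lit 15,nat_lit 11,nat_lit 14,nat_lit 13,nat_lit 2,nat_lit 2,nat_lit 0,nat_lit 3,nat_lit 4,nat_lit 4,nat_lit 1,nat_lit 1,nat_lit 3,nat_lit 15,nat_lit 12,nat_lit 4,nat_lit 7,nat_lit 3,nat_lit 4,nat_lit 6,nat_lit 6,nat_lit 3,nat_lit 7,nat_lit 8,nat_lit 5,nat_lit 5,nat_lit 13,nat_lit 0,nat_lit 0,nat_lit 3,nat_lit 15,nat_lit 5,nat_lit 12,nat_lit 13,nat_lit 1,nat_lit 1,nat_lit 0,nat_lit 15,nat_lit 14,nat_lit 2,nat_lit 2,nat_lit 12,nat_lit 4,nat_lit 14,nat_lit 2,nat_lit 13,nat_lit 7,nat_lit 7,nat_lit 4,nat_lit 6,nat_lit 15])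
 (.leaf [nat_lit 9,nat_lit 1,nat_lit 9,nat_lit 8,nat_lit 15,nat_lit 12,nat_lit 0,nat_lit 0,nat_lit 4,nat_lit 14,nat_lit 8,nat_lit 6,nat_lit 6,nat_lit 12,nat_lit 0,nat_lit 0,nat_lit 6,nat_lit 5,nat_lit 5,nat_lit 15,nat_lit 6,nat_lit 14,nat_lit 14,nat_lit 14,nat_lit 15,nat_lit 0,nat_lit 0,nat_lit 3,nat_lit 13,nat_lit 12,nat_lit 5,nat_lit 5,nat_lit 13,nat_lit 0,nat_lit 0,nat_lit 3,nat_lit 15,nat_lit 5,nat_lit 4,nat_lit 6,nat_lit 6,nat_lit 8,nat_lit 4,nat_lit 4,nat_lit 5,nat_lit 5,nat_lit 1,nat_lit 1,nat_lit 14,nat_lit 0,nat_lit 0,nat_lit 8,nat_lit 12,nat_lit 1,nat_lit 5,nat_lit 6])))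
 (.node (.node (.leaf [nat_lit 10,nat_lit 1,nat_lit 12,nat_lit 1,nat_lit 5,nat_lit 12,nat_lit 5,nat_lit 5,nat_lit 14,nat_lit 13,nat_lit 1,nat_lit 7,nat_lit 14,nat_lit 14,nat_lit 3,nat_lit 3,nat_lit 0,nat_lit 0,nat_lit 2,nat_lit 14,nat_lit 14,nat_lit 6,nat_lit 6,nat_lit 3,nat_lit 3,nat_lit 1,nat_lit 1,nat_lit 13,nat_lit 10,nat_lit 14,nat_lit 2,nat_lit 8,nat_lit 6,nat_lit 4,nat_lit 3,nat_lit 7,nat_lit 3,nat_lit 3,nat_lit 6,nat_lit 7,nat_lit 7,nat_lit 5,nat_lit 5,nat_lit 13,nat_lit 0,nat_lit 0,nat_lit 3,nat_lit 15,nat_lit 5,nat_lit 6,nat_lit 6,nat_lit 3,nat_lit 7,nat_lit 8])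
 (.leaf [nat_lit 9,nat_lit 15,nat_lit 4,nat_lit 7,nat_lit 7,nat_lit 5,nat_lit 5,nat_lit 2,nat_lit 2,nat_lit 15,nat_lit 9,nat_lit 5,nat_lit 3,nat_lit 7,nat_lit 10,nat_lit 4,nat_lit 4,nat_lit 12,nat_lit 4,nat_lit 14,nat_lit 4,nat_lit 4,nat_lit 14,nat_lit 4,nat_lit 12,nat_lit 8,nat_lit 3,nat_lit 4,nat_lit 7,nat_lit 3,nat_lit 4,nat_lit 6,nat_lit 6,nat_lit 3,nat_lit 7,nat_lit 3,nat_lit 3,nat_lit 6,nat_lit 7,nat_lit 7,nat_lit 5,nat_lit 5,nat_lit 13,nat_lit 3,nat_lit 3,nat_lit 0,nat_lit 15,nat_lit 5,nat_lit 6,nat_lit 6,nat_lit 3,nat_lit 7,nat_lit 8]))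
 (.node (.leaf [nat_lit 1,nat_lit 1,nat_lit 13,nat_lit 8,nat_lit 8,nat_lit 0,nat_lit 15,nat_lit 4,nat_lit 10,nat_lit 3,nat_lit 7,nat_lit 15,nat_lit 6,nat_lit 13,nat_lit 7,nat_lit 2,nat_lit 2,nat_lit 7,nat_lit 7,nat_lit 1,nat_lit 1,nat_lit 3,nat_lit 14,nat_lit 0,nat_lit 0,nat_lit 14,nat_lit 7,nat_lit 13,nat_lit 0,nat_lit 0,nat_lit 3,nat_lit 15,nat_lit 5,nat_lit 6,nat_lit 6,nat_lit 3,nat_lit 7,nat_lit 8,nat_lit 5,nat_lit 5,nat_lit 13,nat_lit 0,nat_lit 0,nat_lit 3,nat_lit 15,nat_lit 5])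
 (.leaf [nat_lit 9,nat_lit 5,nat_lit 13,nat_lit 4,nat_lit 3,nat_lit 3,nat_lit 12,nat_lit 3,nat_lit 14,nat_lit 3,nat_lit 3,nat_lit 15,nat_lit 5,nat_lit 7,nat_lit 13,nat_lit 3,nat_lit 2,nat_lit 2,nat_lit 7,nat_lit 7,nat_lit 1,nat_lit 1,nat_lit 3,nat_lit 14,nat_lit 0,nat_lit 0,nat_lit 14,nat_lit 7,nat_lit 13,nat_lit 3,nat_lit 3,nat_lit 0,nat_lit 15,nat_lit 5,nat_lit 8,nat_lit 8,nat_lit 3,nat_lit 3,nat_lit 6,nat_lit 7,nat_lit 7,nat_lit 5,nat_lit 5,nat_lit 13,nat_lit 3,nat_lit 3,nat_lit 0,nat_lit 15,nat_lit 5]))))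
 (.node (.node (.node (.leaf [nat_lit 9,nat_lit 12,nat_lit 10,nat_lit 10,nat_lit 10,nat_lit 10,nat_lit 10,nat_lit 10,nat_lit 10,nat_lit 10,nat_lit 3,nat_lit 3,nat_lit 8,nat_lit 13,nat_lit 14,nat_lit 2,nat_lit 8,nat_lit 0,nat_lit 14,nat_lit 13,nat_lit 2,nat_lit 2,nat_lit 0,nat_lit 3,nat_lit 4,nat_lit 4,nat_lit 1,nat_lit 1,nat_lit 3,nat_lit 15,nat_lit 12,nat_lit 2,nat_lit 2,nat_lit 13,nat_lit 0,nat_lit 0,nat_lit 15,nat_lit 2,nat_lit 5,nat_lit 12,nat_lit 1,nat_lit 15,nat_lit 8,nat_lit 7,nat_lit 7,nat_lit 15,nat_lit 0,nat_lit 6,nat_lit 13,nat_lit 5,nat_lit 5,nat_lit 13,nat_lit 0,nat_lit 0,nat_lit 3,nat_lit 15,nat_lit 5,nat_lit 8,nat_lit 8,nat_lit 3,nat_lit 3,nat_lit 6,nat_lit 7,nat_lit 7])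
 (.leaf [nat_lit 10,nat_lit 9,nat_lit 14,nat_lit 2,nat_lit 6,nat_lit 0,nat_lit 0,nat_lit 9,nat_lit 13,nat_lit 10,nat_lit 13,nat_lit 6,nat_lit 6,nat_lit 7,nat_lit 4,nat_lit 15,nat_lit 8,nat_lit 6,nat_lit 4,nat_lit 15,nat_lit 3,nat_lit 15,nat_lit 6,nat_lit 6,nat_lit 14,nat_lit 1,nat_lit 12,nat_lit 15,nat_lit 7,nat_lit 13,nat_lit 10,nat_lit 6,nat_lit 5,nat_lit 8,nat_lit 8,nat_lit 3,nat_lit 3,nat_lit 6,nat_lit 7,nat_lit 7,nat_lit 5,nat_lit 5,nat_lit 13,nat_lit 3,nat_lit 3,nat_lit 0,nat_lit 15,nat_lit 5,nat_lit 6,nat_lit 6,nat_lit 3,nat_lit 7,nat_lit 8]))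
 (.node (.leaf [nat_lit 9,nat_lit 0,nat_lit 15,nat_lit 14,nat_lit 4,nat_lit 4,nat_lit 3,nat_lit 9,nat_lit 15,nat_lit 8,nat_lit 15,nat_lit 6,nat_lit 15,nat_lit 3,nat_lit 15,nat_lit 7,nat_lit 7,nat_lit 15,nat_lit 0,nat_lit 6,nat_lit 13,nat_lit 5,nat_lit 5,nat_lit 13,nat_lit 0,nat_lit 0,nat_lit 3,nat_lit 15,nat_lit 4,nat_lit 4,nat_lit 0,nat_lit 0,nat_lit 15,nat_lit 15,nat_lit 7,nat_lit 8,nat_lit 8,nat_lit 3,nat_lit 3,nat_lit 6,nat_lit 7,nat_lit 7,nat_lit 5,nat_lit 5,nat_lit 13,nat_lit 3,nat_lit 3,nat_lit 0,nat_lit 15,nat_lit 5,nat_lit 6,nat_lit 6,nat_lit 3,nat_lit 7,nat_lit 8])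
 (.leaf [nat_lit 9,nat_lit 3,nat_lit 4,nat_lit 11,nat_lit 13,nat_lit 0,nat_lit 0,nat_lit 5,nat_lit 14,nat_lit 6,nat_lit 6,nat_lit 7,nat_lit 4,nat_lit 15,nat_lit 1,nat_lit 1,nat_lit 15,nat_lit 12,nat_lit 0,nat_lit 3,nat_lit 12,nat_lit 12,nat_lit 0,nat_lit 14,nat_lit 14,nat_lit 0,nat_lit 0,nat_lit 14,nat_lit 3,nat_lit 13,nat_lit 1,nat_lit 5,nat_lit 5,nat_lit 13,nat_lit 3,nat_lit 3,nat_lit 0,nat_lit 15,nat_lit 5])))
 (.node (.node (.leaf [nat_lit 9,nat_lit 15,nat_lit 3,nat_lit 3,nat_lit 7,nat_lit 7,nat_lit 15,nat_lit 0,nat_lit 3,nat_lit 14,nat_lit 13,nat_lit 1,nat_lit 1,nat_lit 15,nat_lit 3,nat_lit 3,nat_lit 12,nat_lit 0,nat_lit 13,nat_lit 14,nat_lit 1,nat_lit 1,nat_lit 0,nat_lit 4,nat_lit 12,nat_lit 15,nat_lit 8,nat_lit 8,nat_lit 3,nat_lit 3,nat_lit 6,nat_lit 7,nat_lit 7,nat_lit 5,nat_lit 5,nat_lit 13,nat_lit 0,nat_lit 0,nat_lit 3,nat_lit 15,nat_lit 5,nat_lit 6,nat_lit 6,nat_lit 3,nat_lit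 7,nat_lit 8])
 (.leaf [nat_lit 9,nat_lit 3,nat_lit 10,nat_lit 1,nat_lit 5,nat_lit 13,nat_lit 2,nat_lit 11,nat_lit 15,nat_lit 10,nat_lit 13,nat_lit 7,nat_lit 7,nat_lit 4,nat_lit 6,nat_lit 15,nat_lit 6,nat_lit 6,nat_lit 15,nat_lit 3,nat_lit 0,nat_lit 0,nat_lit 15,nat_lit 0,nat_lit 13,nat_lit 14,nat_lit 0,nat_lit 12,nat_lit 15,nat_lit 6,nat_lit 6,nat_lit 4,nat_lit 4,nat_lit 1,nat_lit 1,nat_lit 0,nat_lit 3,nat_lit 12,nat_lit 0,nat_lit 6,nat_lit 6,nat_lit 4,nat_lit 4,nat_lit 6,nat_lit 6,nat_lit 13,nat_lit 3,nat_lit 13,nat_lit 4,nat_lit 7,nat_lit 7,nat_lit 13,nat_lit 4,nat_lit 4,nat_lit 8,nat_lit 8,nat_lit 15,nat_lit 0,nat_lit 0]))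
 (.leaf [nat_lit 9,nat_lit 9,nat_lit 11,nat_lit 9,nat_lit 7,nat_lit 7,nat_lit 12,nat_lit 5,nat_lit 5,nat_lit 11,nat_lit 15,nat_lit 10,nat_lit 6,nat_lit 7,nat_lit 7,nat_lit 13,nat_lit 6,nat_lit 7,nat_lit 7,nat_lit 4,nat_lit 4,nat_lit 3,nat_lit 13,nat_lit 5,nat_lit 5,nat_lit 15,nat_lit 3,nat_lit 3,nat_lit 5,nat_lit 0,nat_lit 8,nat_lit 13,nat_lit 5,nat_lit 15,nat_lit 8,nat_lit 13,nat_lit 6,nat_lit 6,nat_lit 4,nat_lit 4,nat_lit 15,nat_lit 5,nat_lit 5,nat_lit 3,nat_lit 15,nat_lit 15,nat_lit 6]))))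
 (.node (.node (.node (.node (.leaf [nat_lit 2,nat_lit 13,nat_lit 6,nat_lit 6,nat_lit 12,nat_lit 8,nat_lit 8,nat_lit 0,nat_lit 14,nat_lit 4,nat_lit 15,nat_lit 7,nat_lit 7,nat_lit 13,nat_lit 7,nat_lit 7,nat_lit 13,nat_lit 13,nat_lit 7,nat_lit 3,nat_lit 3,nat_lit 15,nat_lit 0,nat_lit 0,nat_lit 13,nat_lit 3,nat_lit 7,nat_lit 7,nat_lit 15,nat_lit 15,nat_lit 7,nat_lit 15,nat_lit 8,nat_lit 8,nat_lit 3,nat_lit 3,nat_lit 6,nat_lit 7,nat_lit 7,nat_lit 5,nat_lit 5,nat_lit 13,nat_lit 3,nat_lit 3,nat_lit 0,nat_lit 15,nat_lit 5])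
 (.leaf [nat_lit 9,nat_lit 8,nat_lit 13,nat_lit 8,nat_lit 12,nat_lit 4,nat_lit 11,nat_lit 13,nat_lit 13,nat_lit 7,nat_lit 6,nat_lit 6,nat_lit 15,nat_lit 8,nat_lit 13,nat_lit 3,nat_lit 13,nat_lit 3,nat_lit 3,nat_lit 15,nat_lit 4,nat_lit 4,nat_lit 0,nat_lit 0,nat_lit 15,nat_lit 15,nat_lit 8,nat_lit 8,nat_lit 3,nat_lit 3,nat_lit 6,nat_lit 7,nat_lit 7,nat_lit 5,nat_lit 5,nat_lit 13,nat_lit 3,nat_lit 3,nat_lit 0,nat_lit 15,nat_lit 5,nat_lit 8,nat_lit 8,nat_lit 3,nat_lit 3,nat_lit 6,nat_lit 7,nat_lit 7,nat_lit 5,nat_lit 5,nat_lit 13,nat_lit 0,nat_lit 0,nat_lit 3,nat_lit 15,nat_lit 5,nat_lit 6,nat_lit 6,nat_lit 3,nat_lit 7,nat_lit 8]))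
 (.node (.leaf [nat_lit 9,nat_lit 0,nat_lit 3,nat_lit 1,nat_lit 11,nat_lit 2,nat_lit 5,nat_lit 13,nat_lit 3,nat_lit 3,nat_lit 15,nat_lit 3,nat_lit 3,nat_lit 13,nat_lit 7,nat_lit 7,nat_lit 4,nat_lit 5,nat_lit 6,nat_lit 6,nat_lit 4,nat_lit 4,nat_lit 15,nat_lit 5,nat_lit 5,nat_lit 13,nat_lit 13,nat_lit 4,nat_lit 8,nat_lit 3,nat_lit 8,nat_lit 8,nat_lit 3,nat_lit 3,nat_lit 6,nat_lit 7,nat_lit 7,nat_lit 5,nat_lit 5,nat_lit 13,nat_lit 0,nat_lit 0,nat_lit 3,nat_lit 15,nat_lit 5])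
 (.leaf [nat_lit 9,nat_lit 9,nat_lit 15,nat_lit 12,nat_lit 15,nat_lit 15,nat_lit 2,nat_lit 11,nat_lit 1,nat_lit 7,nat_lit 7,nat_lit 0,nat_lit 0,nat_lit 15,nat_lit 6,nat_lit 7,nat_lit 8,nat_lit 6,nat_lit 4,nat_lit 6,nat_lit 8,nat_lit 8,nat_lit 3,nat_lit 3,nat_lit 6,nat_lit 7,nat_lit 7,nat_lit 5,nat_lit 5,nat_lit 13,nat_lit 0,nat_lit 0,nat_lit 3,nat_lit 15,nat_lit 5])))
 (.node (.node (.leaf [nat_lit 8,nat_lit 3,nat_lit 4,nat_lit 12,nat_lit 12,nat_lit 13,nat_lit 4,nat_lit 15,nat_lit 14,nat_lit 6,nat_lit 6,nat_lit 12,nat_lit 0,nat_lit 0,nat_lit 6,nat_lit 4,nat_lit 4,nat_lit 5,nat_lit 5,nat_lit 7,nat_lit 14,nat_lit 6,nat_lit 7,nat_lit 13,nat_lit 4,nat_lit 4,nat_lit 3,nat_lit 3,nat_lit 13,nat_lit 6,nat_lit 4,nat_lit 4,nat_lit 13,nat_lit 0,nat_lit 0,nat_lit 13,nat_lit 4,nat_lit 13,nat_lit 5,nat_lit 5,nat_lit 15,nat_lit 0,nat_lit 8,nat_lit 13,nat_lit 5,nat_lit 15,nat_lit 8,nat_lit 13,nat_lit 6,nat_lit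 6,nat_lit 4,nat_lit 4,nat_lit 15,nat_lit 5,nat_lit 5,nat_lit 3,nat_lit 15,nat_lit 15,nat_lit 6])
 (.leaf [nat_lit 9,nat_lit 0,nat_lit 5,nat_lit 0,nat_lit 4,nat_lit 10,nat_lit 8,nat_lit 8,nat_lit 5,nat_lit 5,nat_lit 13,nat_lit 13,nat_lit 13,nat_lit 6,nat_lit 7,nat_lit 7,nat_lit 3,nat_lit 3,nat_lit 15,nat_lit 7,nat_lit 7,nat_lit 5,nat_lit 5,nat_lit 13,nat_lit 3,nat_lit 7,nat_lit 7,nat_lit 15,nat_lit 0,nat_lit 6,nat_lit 13,nat_lit 13,nat_lit 0,nat_lit 4,nat_lit 15,nat_lit 6,nat_lit 6,nat_lit 13,nat_lit 13,nat_lit 3,nat_lit 3,nat_lit 5,nat_lit 13,nat_lit 4,nat_lit 6,nat_lit 15,nat_lit 8,nat_lit 8,nat_lit 13,nat_lit 5,nat_lit 5,nat_lit 15,nat_lit 8,nat_lit 8,nat_lit 0,nat_lit 0,nat_lit 13,nat_lit 5]))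
 (.node (.leaf [nat_lit 11,nat_lit 10,nat_lit 11,nat_lit 7,nat_lit 0,nat_lit 15,nat_lit 2,nat_lit 15,nat_lit 7,nat_lit 3,nat_lit 8,nat_lit 4,nat_lit 4,nat_lit 12,nat_lit 4,nat_lit 14,nat_lit 4,nat_lit 4,nat_lit 14,nat_lit 4,nat_lit 12,nat_lit 8,nat_lit 3,nat_lit 14,nat_lit 15,nat_lit 0,nat_lit 0,nat_lit 3,nat_lit 13,nat_lit 12,nat_lit 5,nat_lit 5,nat_lit 13,nat_lit 3,nat_lit 3,nat_lit 0,nat_lit 15,nat_lit 5,nat_lit 8,nat_lit 8,nat_lit 3,nat_lit 3,nat_lit 6,nat_lit 7,nat_lit 7,nat_lit 5,nat_lit 5,nat_lit 13,nat_lit 0,nat_lit 0,nat_lit 3,nat_lit 15,nat_lit 5,nat_lit 6,nat_lit 6,nat_lit 3,nat_lit 7,nat_lit 8])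
 (.leaf [nat_lit 8,nat_lit 2,nat_lit 3,nat_lit 11,nat_lit 13,nat_lit 14,nat_lit 0,nat_lit 12,nat_lit 15,nat_lit 7,nat_lit 13,nat_lit 4,nat_lit 4,nat_lit 7,nat_lit 7,nat_lit 15,nat_lit 0,nat_lit 6,nat_lit 13,nat_lit 5,nat_lit 5,nat_lit 13,nat_lit 0,nat_lit 0,nat_lit 3,nat_lit 15,nat_lit 4,nat_lit 4,nat_lit 0,nat_lit 0,nat_lit 15,nat_lit 15,nat_lit 7,nat_lit 6,nat_lit 6,nat_lit 3,nat_lit 7,nat_lit 8,nat_lit 5,nat_lit 5,nat_lit 13,nat_lit 0,nat_lit 0,nat_lit 3,nat_lit 0,nat_lit 0,nat_lit 3,nat_lit 15,nat_lit 5]))))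
 (.node (.node (.node (.leaf [nat_lit 9,nat_lit 1,nat_lit 6,nat_lit 14,nat_lit 8,nat_lit 8,nat_lit 12,nat_lit 5,nat_lit 5,nat_lit 0,nat_lit 2,nat_lit 12,nat_lit 13,nat_lit 5,nat_lit 5,nat_lit 15,nat_lit 8,nat_lit 13,nat_lit 5,nat_lit 7,nat_lit 7,nat_lit 6,nat_lit 6,nat_lit 13,nat_lit 0,nat_lit 1,nat_lit 1,nat_lit 14,nat_lit 15,nat_lit 12,nat_lit 15,nat_lit 4,nat_lit 4,nat_lit 0,nat_lit 0,nat_lit 2,nat_lit 7,nat_lit 13,nat_lit 5,nat_lit 5,nat_lit 13,nat_lit 3,nat_lit 3,nat_lit 0,nat_lit 15,nat_lit 5])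
 (.leaf [nat_lit 0,nat_lit 1,nat_lit 13,nat_lit 7,nat_lit 15,nat_lit 12,nat_lit 0,nat_lit 0,nat_lit 15,nat_lit 1,nat_lit 1,nat_lit 0,nat_lit 0,nat_lit 7,nat_lit 7,nat_lit 15,nat_lit 15,nat_lit 7,nat_lit 15,nat_lit 8,nat_lit 8,nat_lit 7,nat_lit 7,nat_lit 13,nat_lit 6,nat_lit 5,nat_lit 15,nat_lit 12,nat_lit 5,nat_lit 5,nat_lit 6,nat_lit 6,nat_lit 13,nat_lit 8,nat_lit 8,nat_lit 1,nat_lit 14,nat_lit 0,nat_lit 2,nat_lit 6,nat_lit 6,nat_lit 3,nat_lit 7,nat_lit 3,nat_lit 3,nat_lit 6,nat_lit 7,nat_lit 7,nat_lit 5,nat_lit 5,nat_lit 13,nat_lit 0,nat_lit 0,nat_lit 3,nat_lit 15,nat_lit 5,nat_lit 6,nat_lit 6,nat_lit 3,nat_lit 7,nat_lit 8]))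
 (.node (.leaf [nat_lit 9,nat_lit 9,nat_lit 2,nat_lit 15,nat_lit 6,nat_lit 15,nat_lit 4,nat_lit 5,nat_lit 15,nat_lit 11,nat_lit 4,nat_lit 4,nat_lit 14,nat_lit 4,nat_lit 12,nat_lit 5,nat_lit 5,nat_lit 0,nat_lit 0,nat_lit 10,nat_lit 4,nat_lit 9,nat_lit 15,nat_lit 8,nat_lit 15,nat_lit 4,nat_lit 4,nat_lit 2,nat_lit 5,nat_lit 5,nat_lit 7,nat_lit 7,nat_lit 14,nat_lit 2,nat_lit 2,nat_lit 0,nat_lit 4,nat_lit 5,nat_lit 13,nat_lit 5,nat_lit 5,nat_lit 13,nat_lit 3,nat_lit 3,nat_lit 0,nat_lit 15,nat_lit 5])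
 (.leaf [nat_lit 9,nat_lit 1,nat_lit 5,nat_lit 9,nat_lit 7,nat_lit 7,nat_lit 12,nat_lit 1,nat_lit 1,nat_lit 10,nat_lit 12,nat_lit 1,nat_lit 5,nat_lit 5,nat_lit 4,nat_lit 4,nat_lit 0,nat_lit 0,nat_lit 15,nat_lit 15,nat_lit 7,nat_lit 7,nat_lit 13,nat_lit 4,nat_lit 4,nat_lit 3,nat_lit 3,nat_lit 13,nat_lit 6,nat_lit 4,nat_lit 4,nat_lit 13,nat_lit 0,nat_lit 0,nat_lit 13,nat_lit 4,nat_lit 13,nat_lit 5,nat_lit 5,nat_lit 13,nat_lit 0,nat_lit 0,nat_lit 3,nat_lit 15,nat_lit 5])))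
 (.node (.node (.leaf [nat_lit 9,nat_lit 1,nat_lit 6,nat_lit 4,nat_lit 15,nat_lit 4,nat_lit 4,nat_lit 0,nat_lit 0,nat_lit 13,nat_lit 2,nat_lit 7,nat_lit 6,nat_lit 6,nat_lit 15,nat_lit 3,nat_lit 7,nat_lit 13,nat_lit 4,nat_lit 4,nat_lit 3,nat_lit 3,nat_lit 13,nat_lit 6,nat_lit 4,nat_lit 4,nat_lit 13,nat_lit 0,nat_lit 0,nat_lit 13,nat_lit 4,nat_lit 13,nat_lit 13,nat_lit 6,nat_lit 7,nat_lit 7,nat_lit 15,nat_lit 14,nat_lit 15,nat_lit 3,nat_lit 3,nat_lit 0,nat_lit 13,nat_lit 12,nat_lit 13,nat_lit 7,nat_lit 6,nat_lit 6,nat_lit 15])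
 (.leaf [nat_lit 8,nat_lit 6,nat_lit 13,nat_lit 1,nat_lit 2,nat_lit 2,nat_lit 15,nat_lit 7,nat_lit 11,nat_lit 14,nat_lit 2,nat_lit 3,nat_lit 14,nat_lit 8,nat_lit 8,nat_lit 2,nat_lit 2,nat_lit 3,nat_lit 13,nat_lit 13,nat_lit 2,nat_lit 2,nat_lit 7,nat_lit 7,nat_lit 1,nat_lit 1,nat_lit 3,nat_lit 14,nat_lit 0,nat_lit 0,nat_lit 14,nat_lit 7,nat_lit 5,nat_lit 6,nat_lit 6,nat_lit 3,nat_lit 7,nat_lit 8,nat_lit 4,nat_lit 6,nat_lit 6,nat_lit 8,nat_lit 4,nat_lit 4,nat_lit 5,nat_lit 5,nat_lit 1,nat_lit 1,nat_lit 14,nat_lit 0,nat_lit 0,nat_lit 8,nat_lit 12,nat_lit 1,nat_lit 5,nat_lit 6]))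
 (.leaf [nat_lit 9,nat_lit 11,nat_lit 10,nat_lit 15,nat_lit 14,nat_lit 6,nat_lit 6,nat_lit 4,nat_lit 9,nat_lit 6,nat_lit 6,nat_lit 15,nat_lit 15,nat_lit 0,nat_lit 0,nat_lit 13,nat_lit 3,nat_lit 8,nat_lit 8,nat_lit 3,nat_lit 3,nat_lit 6,nat_lit 7,nat_lit 7,nat_lit 13,nat_lit 6,nat_lit 7,nat_lit 7,nat_lit 15,nat_lit 14,nat_lit 15,nat_lit 3,nat_lit 3,nat_lit 0,nat_lit 13,nat_lit 12,nat_lit 13,nat_lit 7,nat_lit 6,nat_lit 6,nat_lit 15,nat_lit 4,nat_lit 6,nat_lit 6,nat_lit 8,nat_lit 4,nat_lit 4,nat_lit 5,nat_lit 5,nat_lit 1,nat_lit 1,nat_lit 14,nat_lit 0,nat_lit 0,nat_lit 8,nat_lit 12,nat_lit 1,nat_lit 5,nat_lit 6])))))))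
 (.node (.node (.node (.node (.node (.node (.node (.leaf [nat_lit 12,nat_lit 8,nat_lit 10,nat_lit 13,nat_lit 14,nat_lit 0,nat_lit 12,nat_lit 15,nat_lit 7,nat_lit 7,nat_lit 14,nat_lit 4,nat_lit 4,nat_lit 14,nat_lit 6,nat_lit 12,nat_lit 8,nat_lit 13,nat_lit 0,nat_lit 4,nat_lit 15,nat_lit 5,nat_lit 14,nat_lit 15,nat_lit 0,nat_lit 0,nat_lit 3,nat_lit 13,nat_lit 12,nat_lit 8,nat_lit 6,nat_lit 4,nat_lit 6,nat_lit 4,nat_lit 6,nat_lit 6,nat_lit 8,nat_lit 4,nat_lit 4,nat_lit 5,nat_lit 5,nat_lit 1,nat_lit 1,nat_lit 14,nat_lit 0,nat_lit 0,nat_lit 8,nat_lit 12,nat_lit 1,nat_lit 5,nat_lit 6])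
 (.leaf [nat_lit 5,nat_lit 4,nat_lit 13,nat_lit 5,nat_lit 5,nat_lit 3,nat_lit 3,nat_lit 14,nat_lit 6,nat_lit 13,nat_lit 4,nat_lit 4,nat_lit 1,nat_lit 1,nat_lit 7,nat_lit 7,nat_lit 1,nat_lit 6,nat_lit 3,nat_lit 3,nat_lit 15,nat_lit 3,nat_lit 3,nat_lit 0,nat_lit 15,nat_lit 0,nat_lit 15,nat_lit 5,nat_lit 5,nat_lit 13,nat_lit 3,nat_lit 3,nat_lit 0,nat_lit 15,nat_lit 5]))
 (.node (.leaf [nat_lit 9,nat_lit 3,nat_lit 10,nat_lit 9,nat_lit 5,nat_lit 15,nat_lit 14,nat_lit 6,nat_lit 9,nat_lit 8,nat_lit 8,nat_lit 13,nat_lit 8,nat_lit 8,nat_lit 0,nat_lit 0,nat_lit 15,nat_lit 0,nat_lit 0,nat_lit 13,nat_lit 7,nat_lit 8,nat_lit 15,nat_lit 10,nat_lit 10,nat_lit 3,nat_lit 13,nat_lit 4,nat_lit 14,nat_lit 7,nat_lit 7,nat_lit 0,nat_lit 12,nat_lit 6,nat_lit 6,nat_lit 3,nat_lit 7,nat_lit 8,nat_lit 5,nat_lit 5,nat_lit 13,nat_lit 0,nat_lit 0,nat_lit 3,nat_lit 0,nat_lit 0,nat_lit 3,nat_lit 15,nat_lit 5])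
 (.leaf [nat_lit 2,nat_lit 4,nat_lit 5,nat_lit 13,nat_lit 14,nat_lit 10,nat_lit 13,nat_lit 8,nat_lit 8,nat_lit 15,nat_lit 15,nat_lit 4,nat_lit 7,nat_lit 2,nat_lit 2,nat_lit 7,nat_lit 7,nat_lit 1,nat_lit 1,nat_lit 3,nat_lit 14,nat_lit 0,nat_lit 0,nat_lit 14,nat_lit 7,nat_lit 13,nat_lit 0,nat_lit 0,nat_lit 3,nat_lit 15,nat_lit 5,nat_lit 8,nat_lit 8,nat_lit 3,nat_lit 3,nat_lit 6,nat_lit 7,nat_lit 7,nat_lit 13,nat_lit 6,nat_lit 6,nat_lit 4,nat_lit 4,nat_lit 7,nat_lit 15,nat_lit 2,nat_lit 2,nat_lit 12,nat_lit 4,nat_lit 4,nat_lit 14,nat_lit 2,nat_lit 12,nat_lit 13,nat_lit 0,nat_lit 0,nat_lit 1,nat_lit 15,nat_lit 14])))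
 (.node (.node (.leaf [nat_lit 12,nat_lit 2,nat_lit 9,nat_lit 14,nat_lit 13,nat_lit 6,nat_lit 6,nat_lit 7,nat_lit 7,nat_lit 10,nat_lit 13,nat_lit 7,nat_lit 1,nat_lit 4,nat_lit 15,nat_lit 12,nat_lit 5,nat_lit 5,nat_lit 6,nat_lit 6,nat_lit 13,nat_lit 13,nat_lit 13,nat_lit 0,nat_lit 4,nat_lit 9,nat_lit 13,nat_lit 7,nat_lit 13,nat_lit 4,nat_lit 4,nat_lit 3,nat_lit 3,nat_lit 13,nat_lit 6,nat_lit 4,nat_lit 4,nat_lit 13,nat_lit 0,nat_lit 0,nat_lit 13,nat_lit 4,nat_lit 13,nat_lit 8,nat_lit 8,nat_lit 3,nat_lit 3,nat_lit 6,nat_lit 7,nat_lit 7,nat_lit 5,nat_lit 5,nat_lit 13,nat_lit 0,nat_lit 0,nat_lit 3,nat_lit 15,nat_lit 5])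
 (.leaf [nat_lit 1,nat_lit 14,nat_lit 5,nat_lit 5,nat_lit 14,nat_lit 0,nat_lit 0,nat_lit 7,nat_lit 12,nat_lit 5,nat_lit 6,nat_lit 6,nat_lit 12,nat_lit 0,nat_lit 0,nat_lit 6,nat_lit 5,nat_lit 5,nat_lit 15,nat_lit 6,nat_lit 14,nat_lit 14,nat_lit 5,nat_lit 5,nat_lit 15,nat_lit 8,nat_lit 8,nat_lit 0,nat_lit 0,nat_lit 13,nat_lit 13,nat_lit 0,nat_lit 4,nat_lit 0,nat_lit 0,nat_lit 3,nat_lit 15,nat_lit 5,nat_lit 6,nat_lit 6,nat_lit 3,nat_lit 7,nat_lit 8,nat_lit 6,nat_lit 6,nat_lit 13,nat_lit 13,nat_lit 3,nat_lit 3,nat_lit 5,nat_lit 13,nat_lit 4,nat_lit 6,nat_lit 15,nat_lit 8,nat_lit 8,nat_lit 13,nat_lit 5,nat_lit 5,nat_lit 15,nat_lit 8,nat_lit 8,nat_lit 0,nat_lit 0,nat_lit 13,nat_lit 5]))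
 (.node (.leaf [nat_lit 1,nat_lit 10,nat_lit 11,nat_lit 12,nat_lit 15,nat_lit 0,nat_lit 0,nat_lit 2,nat_lit 11,nat_lit 10,nat_lit 6,nat_lit 13,nat_lit 0,nat_lit 9,nat_lit 13,nat_lit 7,nat_lit 7,nat_lit 4,nat_lit 6,nat_lit 15,nat_lit 3,nat_lit 3,nat_lit 13,nat_lit 6,nat_lit 5,nat_lit 5,nat_lit 13,nat_lit 0,nat_lit 4,nat_lit 15,nat_lit 5,nat_lit 14,nat_lit 15,nat_lit 3,nat_lit 3,nat_lit 0,nat_lit 13,nat_lit 12])
 (.leaf [nat_lit 7,nat_lit 9,nat_lit 15,nat_lit 15,nat_lit 14,nat_lit 2,nat_lit 3,nat_lit 5,nat_lit 13,nat_lit 8,nat_lit 13,nat_lit 3,nat_lit 4,nat_lit 7,nat_lit 3,nat_lit 4,nat_lit 8,nat_lit 8,nat_lit 3,nat_lit 3,nat_lit 6,nat_lit 7,nat_lit 7,nat_lit 5,nat_lit 5,nat_lit 13,nat_lit 0,nat_lit 0,nat_lit 3,nat_lit 15,nat_lit 5,nat_lit 8,nat_lit 8,nat_lit 3,nat_lit 3,nat_lit 6,nat_lit 7,nat_lit 7,nat_lit 5,nat_lit 5,nat_lit 13,nat_lit 3,nat_lit 3,nat_lit 0,nat_lit 15,nat_lit 5,nat_lit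 6,nat_lit 6,nat_lit 3,nat_lit 7,nat_lit 8]))))
 (.node (.node (.node (.leaf [nat_lit 9,nat_lit 13,nat_lit 10,nat_lit 13,nat_lit 7,nat_lit 7,nat_lit 15,nat_lit 9,nat_lit 5,nat_lit 4,nat_lit 5,nat_lit 10,nat_lit 5,nat_lit 12,nat_lit 15,nat_lit 6,nat_lit 6,nat_lit 15,nat_lit 3,nat_lit 3,nat_lit 1,nat_lit 1,nat_lit 13,nat_lit 13,nat_lit 3,nat_lit 3,nat_lit 14,nat_lit 15,nat_lit 15,nat_lit 8,nat_lit 8,nat_lit 0,nat_lit 0,nat_lit 13,nat_lit 13,nat_lit 0,nat_lit 0,nat_lit 3,nat_lit 15,nat_lit 5,nat_lit 6,nat_lit 6,nat_lit 3,nat_lit 7,nat_lit 8,nat_lit 5,nat_lit 5,nat_lit 13,nat_lit 0,nat_lit 0,nat_lit 3,nat_lit 15,nat_lit 5])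
 (.leaf [nat_lit 9,nat_lit 9,nat_lit 13,nat_lit 14,nat_lit 14,nat_lit 1,nat_lit 1,nat_lit 10,nat_lit 3,nat_lit 11,nat_lit 7,nat_lit 14,nat_lit 14,nat_lit 0,nat_lit 0,nat_lit 15,nat_lit 0,nat_lit 5,nat_lit 5,nat_lit 6,nat_lit 6,nat_lit 15,nat_lit 0,nat_lit 5,nat_lit 4,nat_lit 7,nat_lit 3,nat_lit 4,nat_lit 5,nat_lit 5,nat_lit 13,nat_lit 0,nat_lit 0,nat_lit 3,nat_lit 15,nat_lit 5,nat_lit 8,nat_lit 8,nat_lit 3,nat_lit 3,nat_lit 6,nat_lit 7,nat_lit 7,nat_lit 5,nat_lit 5,nat_lit 13,nat_lit 3,nat_lit 3,nat_lit 0,nat_lit 15,nat_lit 5]))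
 (.node (.leaf [nat_lit 10,nat_lit 8,nat_lit 13,nat_lit 1,nat_lit 1,nat_lit 10,nat_lit 7,nat_lit 14,nat_lit 6,nat_lit 6,nat_lit 4,nat_lit 4,nat_lit 15,nat_lit 5,nat_lit 5,nat_lit 6,nat_lit 8,nat_lit 4,nat_lit 15,nat_lit 8,nat_lit 5,nat_lit 5,nat_lit 15,nat_lit 8,nat_lit 8,nat_lit 0,nat_lit 0,nat_lit 13,nat_lit 5,nat_lit 13,nat_lit 6,nat_lit 7,nat_lit 7,nat_lit 15,nat_lit 14,nat_lit 15,nat_lit 3,nat_lit 3,nat_lit 0,nat_lit 13,nat_lit 12,nat_lit 13,nat_lit 7,nat_lit 6,nat_lit 6,nat_lit 15,nat_lit 8,nat_lit 8,nat_lit 3,nat_lit 3,nat_lit 6,nat_lit 7,nat_lit 7,nat_lit 5,nat_lit 5,nat_lit 13,nat_lit 3,nat_lit 3,nat_lit 0,nat_lit 15,nat_lit 5,nat_lit 6,nat_lit 6,nat_lit 3,nat_lit 7,nat_lit 8])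
 (.leaf [nat_lit 9,nat_lit 3,nat_lit 4,nat_lit 15,nat_lit 15,nat_lit 4,nat_lit 11,nat_lit 7,nat_lit 5,nat_lit 5,nat_lit 15,nat_lit 8,nat_lit 13,nat_lit 5,nat_lit 4,nat_lit 7,nat_lit 3,nat_lit 4,nat_lit 8,nat_lit 8,nat_lit 3,nat_lit 3,nat_lit 6,nat_lit 7,nat_lit 7,nat_lit 13,nat_lit 6,nat_lit 7,nat_lit 7,nat_lit 15,nat_lit 14,nat_lit 15,nat_lit 3,nat_lit 3,nat_lit 0,nat_lit 13,nat_lit 12,nat_lit 13,nat_lit 7,nat_lit 6,nat_lit 6,nat_lit 15])))
 (.node (.node (.leaf [nat_lit 11,nat_lit 4,nat_lit 14,nat_lit 5,nat_lit 0,nat_lit 1,nat_lit 13,nat_lit 0,nat_lit 14,nat_lit 15,nat_lit 6,nat_lit 15,nat_lit 15,nat_lit 8,nat_lit 8,nat_lit 5,nat_lit 7,nat_lit 7,nat_lit 6,nat_lit 6,nat_lit 4,nat_lit 4,nat_lit 15,nat_lit 5,nat_lit 5,nat_lit 6,nat_lit 15,nat_lit 7,nat_lit 13,nat_lit 3,nat_lit 3,nat_lit 0,nat_lit 15,nat_lit 5,nat_lit 12,nat_lit 13,nat_lit 1,nat_lit 1,nat_lit 0,nat_lit 15,nat_lit 14,nat_lit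 2,nat_lit 2,nat_lit 12,nat_lit 4,nat_lit 14,nat_lit 2,nat_lit 13,nat_lit 7,nat_lit 7,nat_lit 4,nat_lit 6,nat_lit 15])
 (.leaf [nat_lit 9,nat_lit 1,nat_lit 7,nat_lit 4,nat_lit 7,nat_lit 7,nat_lit 12,nat_lit 0,nat_lit 0,nat_lit 14,nat_lit 7,nat_lit 0,nat_lit 0,nat_lit 15,nat_lit 0,nat_lit 4,nat_lit 7,nat_lit 3,nat_lit 4,nat_lit 6,nat_lit 6,nat_lit 3,nat_lit 7,nat_lit 8,nat_lit 4,nat_lit 6,nat_lit 6,nat_lit 8,nat_lit 4,nat_lit 4,nat_lit 5,nat_lit 5,nat_lit 1,nat_lit 1,nat_lit 14,nat_lit 0,nat_lit 0,nat_lit 8,nat_lit 12,nat_lit 1,nat_lit 5,nat_lit 6]))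
 (.leaf [nat_lit 9,nat_lit 3,nat_lit 15,nat_lit 4,nat_lit 12,nat_lit 5,nat_lit 5,nat_lit 6,nat_lit 6,nat_lit 11,nat_lit 14,nat_lit 9,nat_lit 0,nat_lit 0,nat_lit 15,nat_lit 15,nat_lit 0,nat_lit 4,nat_lit 4,nat_lit 15,nat_lit 1,nat_lit 1,nat_lit 10,nat_lit 5,nat_lit 11,nat_lit 14,nat_lit 15,nat_lit 0,nat_lit 0,nat_lit 3,nat_lit 13,nat_lit 12,nat_lit 6,nat_lit 6,nat_lit 3,nat_lit 7,nat_lit 8,nat_lit 12,nat_lit 13,nat_lit 1,nat_lit 1,nat_lit 0,nat_lit 15,nat_lit 14,nat_lit 2,nat_lit 2,nat_lit 12,nat_lit 4,nat_lit 14,nat_lit 2,nat_lit 13,nat_lit 7,nat_lit 7,nat_lit 4,nat_lit 6,nat_lit 15]))))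
 (.node (.node (.node (.node (.leaf [nat_lit 12,nat_lit 12,nat_lit 3,nat_lit 3,nat_lit 7,nat_lit 7,nat_lit 14,nat_lit 7,nat_lit 5,nat_lit 13,nat_lit 5,nat_lit 5,nat_lit 3,nat_lit 3,nat_lit 0,nat_lit 0,nat_lit 15,nat_lit 3,nat_lit 13,nat_lit 3,nat_lit 3,nat_lit 0,nat_lit 4,nat_lit 15,nat_lit 6,nat_lit 6,nat_lit 13,nat_lit 7,nat_lit 7,nat_lit 0,nat_lit 0,nat_lit 15,nat_lit 6,nat_lit 8,nat_lit 8,nat_lit 3,nat_lit 3,nat_lit 6,nat_lit 7,nat_lit 7,nat_lit 5,nat_lit 5,nat_lit 13,nat_lit 3,nat_lit 3,nat_lit 0,nat_lit 15,nat_lit 5])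
 (.leaf [nat_lit 0,nat_lit 6,nat_lit 8,nat_lit 1,nat_lit 13,nat_lit 13,nat_lit 5,nat_lit 11,nat_lit 5,nat_lit 5,nat_lit 13,nat_lit 8,nat_lit 13,nat_lit 3,nat_lit 6,nat_lit 6,nat_lit 3,nat_lit 7,nat_lit 8,nat_lit 5,nat_lit 5,nat_lit 13,nat_lit 0,nat_lit 4,nat_lit 15,nat_lit 5,nat_lit 13,nat_lit 6,nat_lit 7,nat_lit 7,nat_lit 15,nat_lit 14,nat_lit 15,nat_lit 3,nat_lit 3,nat_lit 0,nat_lit 13,nat_lit 12,nat_lit 13,nat_lit 7,nat_lit 6,nat_lit 6,nat_lit 15,nat_lit 4,nat_lit 6,nat_lit 6,nat_lit 8,nat_lit 4,nat_lit 4,nat_lit 5,nat_lit 5,nat_lit 1,nat_lit 1,nat_lit 14,nat_lit 0,nat_lit 0,nat_lit 8,nat_lit 12,nat_lit 1,nat_lit 5,nat_lit 6]))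
 (.node (.leaf [nat_lit 9,nat_lit 12,nat_lit 15,nat_lit 12,nat_lit 12,nat_lit 5,nat_lit 13,nat_lit 4,nat_lit 6,nat_lit 13,nat_lit 1,nat_lit 1,nat_lit 13,nat_lit 0,nat_lit 0,nat_lit 3,nat_lit 1,nat_lit 1,nat_lit 14,nat_lit 0,nat_lit 0,nat_lit 12,nat_lit 1,nat_lit 13,nat_lit 0,nat_lit 4,nat_lit 15,nat_lit 7,nat_lit 7,nat_lit 13,nat_lit 2,nat_lit 2,nat_lit 0,nat_lit 0,nat_lit 6,nat_lit 13,nat_lit 3,nat_lit 3,nat_lit 15,nat_lit 2,nat_lit 13,nat_lit 3,nat_lit 6,nat_lit 6,nat_lit 3,nat_lit 7,nat_lit 8,nat_lit 12,nat_lit 13,nat_lit 1,nat_lit 1,nat_lit 0,nat_lit 15,nat_lit 14,nat_lit 2,nat_lit 2,nat_lit 12,nat_lit 4,nat_lit 14,nat_lit 2,nat_lit 13,nat_lit 7,nat_lit 7,nat_lit 4,nat_lit 6,nat_lit 15])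
 (.leaf [nat_lit 9,nat_lit 5,nat_lit 12,nat_lit 0,nat_lit 3,nat_lit 3,nat_lit 13,nat_lit 6,nat_lit 14,nat_lit 0,nat_lit 4,nat_lit 10,nat_lit 3,nat_lit 3,nat_lit 15,nat_lit 5,nat_lit 5,nat_lit 3,nat_lit 3,nat_lit 15,nat_lit 5,nat_lit 5,nat_lit 2,nat_lit 2,nat_lit 13,nat_lit 1,nat_lit 15,nat_lit 2,nat_lit 6,nat_lit 6,nat_lit 15,nat_lit 3,nat_lit 7,nat_lit 15,nat_lit 6,nat_lit 13,nat_lit 7,nat_lit 8,nat_lit 8,nat_lit 3,nat_lit 3,nat_lit 6,nat_lit 7,nat_lit 7])))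
 (.node (.node (.leaf [nat_lit 1,nat_lit 12,nat_lit 6,nat_lit 15,nat_lit 11,nat_lit 15,nat_lit 7,nat_lit 15,nat_lit 5,nat_lit 5,nat_lit 3,nat_lit 13,nat_lit 7,nat_lit 15,nat_lit 8,nat_lit 8,nat_lit 13,nat_lit 7,nat_lit 7,nat_lit 15,nat_lit 5,nat_lit 5,nat_lit 3,nat_lit 13,nat_lit 7,nat_lit 7,nat_lit 5,nat_lit 5,nat_lit 13,nat_lit 0,nat_lit 0,nat_lit 3,nat_lit 15,nat_lit 5,nat_lit 13,nat_lit 6,nat_lit 6,nat_lit 4,nat_lit 4,nat_lit 7,nat_lit 15,nat_lit 2,nat_lit 2,nat_lit 12,nat_lit 4,nat_lit 4,nat_lit 14,nat_lit 2,nat_lit 12,nat_lit 13,nat_lit 0,nat_lit 0,nat_lit 1,nat_lit 15,nat_lit 14])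
 (.leaf [nat_lit 9,nat_lit 10,nat_lit 13,nat_lit 1,nat_lit 14,nat_lit 10,nat_lit 10,nat_lit 10,nat_lit 10,nat_lit 10,nat_lit 10,nat_lit 10,nat_lit 10,nat_lit 13,nat_lit 1,nat_lit 13,nat_lit 2,nat_lit 5,nat_lit 5,nat_lit 15,nat_lit 1,nat_lit 1,nat_lit 4,nat_lit 13,nat_lit 5,nat_lit 12,nat_lit 12,nat_lit 1,nat_lit 1,nat_lit 4,nat_lit 14,nat_lit 14,nat_lit 6,nat_lit 6,nat_lit 3,nat_lit 7,nat_lit 8,nat_lit 2,nat_lit 2,nat_lit 7,nat_lit 7,nat_lit 1,nat_lit 1,nat_lit 3,nat_lit 14,nat_lit 0,nat_lit 0,nat_lit 14,nat_lit 7,nat_lit 5,nat_lit 6,nat_lit 6,nat_lit 3,nat_lit 7,nat_lit 8]))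
 (.node (.leaf [nat_lit 9,nat_lit 4,nat_lit 9,nat_lit 5,nat_lit 11,nat_lit 3,nat_lit 8,nat_lit 13,nat_lit 12,nat_lit 1,nat_lit 1,nat_lit 0,nat_lit 14,nat_lit 15,nat_lit 0,nat_lit 0,nat_lit 14,nat_lit 1,nat_lit 4,nat_lit 5,nat_lit 6,nat_lit 6,nat_lit 3,nat_lit 7,nat_lit 8,nat_lit 7,nat_lit 7,nat_lit 6,nat_lit 6,nat_lit 13,nat_lit 0,nat_lit 1,nat_lit 1,nat_lit 14,nat_lit 15,nat_lit 12,nat_lit 15,nat_lit 4,nat_lit 4,nat_lit 0,nat_lit 0,nat_lit 2,nat_lit 7,nat_lit 13,nat_lit 13,nat_lit 6,nat_lit 7,nat_lit 7,nat_lit 15,nat_lit 14,nat_lit 15,nat_lit 3,nat_lit 3,nat_lit 0,nat_lit 13,nat_lit 12,nat_lit 13,nat_lit 7,nat_lit 6,nat_lit 6,nat_lit 15])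
 (.leaf [nat_lit 9,nat_lit 0,nat_lit 1,nat_lit 6,nat_lit 12,nat_lit 12,nat_lit 0,nat_lit 0,nat_lit 14,nat_lit 14,nat_lit 4,nat_lit 4,nat_lit 7,nat_lit 7,nat_lit 3,nat_lit 10,nat_lit 11,nat_lit 2,nat_lit 13,nat_lit 5,nat_lit 5,nat_lit 13,nat_lit 0,nat_lit 4,nat_lit 15,nat_lit 5,nat_lit 8,nat_lit 8,nat_lit 3,nat_lit 3,nat_lit 6,nat_lit 7,nat_lit 7]))))
 (.node (.node (.node (.leaf [nat_lit 9,nat_lit 9,nat_lit 2,nat_lit 12,nat_lit 2,nat_lit 14,nat_lit 11,nat_lit 2,nat_lit 9,nat_lit 5,nat_lit 5,nat_lit 15,nat_lit 0,nat_lit 13,nat_lit 5,nat_lit 15,nat_lit 4,nat_lit 4,nat_lit 15,nat_lit 0,nat_lit 15,nat_lit 4,nat_lit 13,nat_lit 7,nat_lit 7,nat_lit 0,nat_lit 6,nat_lit 15,nat_lit 3,nat_lit 3,nat_lit 8,nat_lit 8,nat_lit 15,nat_lit 15,nat_lit 4,nat_lit 7,nat_lit 6,nat_lit 6,nat_lit 3,nat_lit 7,nat_lit 8,nat_lit 4,nat_lit 6,nat_lit 6,nat_lit 8,nat_lit 4,nat_lit 4,nat_lit 5,nat_lit 5,nat_lit 1,nat_lit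 1,nat_lit 14,nat_lit 0,nat_lit 0,nat_lit 8,nat_lit 12,nat_lit 1,nat_lit 5,nat_lit 6])
 (.leaf [nat_lit 9,nat_lit 7,nat_lit 15,nat_lit 5,nat_lit 2,nat_lit 3,nat_lit 14,nat_lit 5,nat_lit 1,nat_lit 10,nat_lit 7,nat_lit 14,nat_lit 13,nat_lit 1,nat_lit 4,nat_lit 15,nat_lit 14,nat_lit 0,nat_lit 4,nat_lit 10,nat_lit 13,nat_lit 0,nat_lit 4,nat_lit 15,nat_lit 4,nat_lit 4,nat_lit 12,nat_lit 4,nat_lit 4,nat_lit 12,nat_lit 0,nat_lit 5,nat_lit 5,nat_lit 12,nat_lit 5,nat_lit 5,nat_lit 13,nat_lit 3,nat_lit 3,nat_lit 0,nat_lit 15,nat_lit 5,nat_lit 8,nat_lit 8,nat_lit 3,nat_lit 3,nat_lit 6,nat_lit 7,nat_lit 7,nat_lit 5,nat_lit 5,nat_lit 13,nat_lit 3,nat_lit 3,nat_lit 0,nat_lit 15,nat_lit 5,nat_lit 6,nat_lit 6,nat_lit 3,nat_lit 7,nat_lit 8]))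
 (.node (.leaf [nat_lit 9,nat_lit 4,nat_lit 7,nat_lit 7,nat_lit 3,nat_lit 3,nat_lit 11,nat_lit 9,nat_lit 9,nat_lit 12,nat_lit 12,nat_lit 0,nat_lit 14,nat_lit 14,nat_lit 7,nat_lit 7,nat_lit 14,nat_lit 8,nat_lit 14,nat_lit 8,nat_lit 5,nat_lit 5,nat_lit 13,nat_lit 0,nat_lit 0,nat_lit 3,nat_lit 15,nat_lit 5,nat_lit 13,nat_lit 6,nat_lit 7,nat_lit 7,nat_lit 15,nat_lit 14,nat_lit 15,nat_lit 3,nat_lit 3,nat_lit 0,nat_lit 13,nat_lit 12,nat_lit 13,nat_lit 7,nat_lit 6,nat_lit 6,nat_lit 15,nat_lit 5,nat_lit 5,nat_lit 13,nat_lit 0,nat_lit 0,nat_lit 3,nat_lit 15,nat_lit 5])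
 (.leaf [nat_lit 9,nat_lit 1,nat_lit 2,nat_lit 9,nat_lit 7,nat_lit 14,nat_lit 11,nat_lit 14,nat_lit 13,nat_lit 12,nat_lit 13,nat_lit 7,nat_lit 7,nat_lit 15,nat_lit 4,nat_lit 7,nat_lit 8,nat_lit 8,nat_lit 6,nat_lit 4,nat_lit 15,nat_lit 3,nat_lit 15,nat_lit 6,nat_lit 6,nat_lit 14,nat_lit 1,nat_lit 12,nat_lit 15,nat_lit 7,nat_lit 13,nat_lit 10,nat_lit 6,nat_lit 5,nat_lit 13,nat_lit 6,nat_lit 7,nat_lit 7,nat_lit 15,nat_lit 14,nat_lit 15,nat_lit 3,nat_lit 3,nat_lit 0,nat_lit 13,nat_lit 12,nat_lit 13,nat_lit 7,nat_lit 6,nat_lit 6,nat_lit 15,nat_lit 12,nat_lit 13,nat_lit 1,nat_lit 1,nat_lit 0,nat_lit 15,nat_lit 14,nat_lit 2,nat_lit 2,nat_lit 12,nat_lit 4,nat_lit 14,nat_lit 2,nat_lit 13,nat_lit 7,nat_lit 7,nat_lit 4,nat_lit 6,nat_lit 15])))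
 (.node (.node (.leaf [nat_lit 6,nat_lit 0,nat_lit 9,nat_lit 11,nat_lit 4,nat_lit 4,nat_lit 5,nat_lit 5,nat_lit 14,nat_lit 10,nat_lit 15,nat_lit 10,nat_lit 15,nat_lit 6,nat_lit 6,nat_lit 8,nat_lit 9,nat_lit 10,nat_lit 7,nat_lit 15,nat_lit 6,nat_lit 13,nat_lit 7,nat_lit 14,nat_lit 8,nat_lit 8,nat_lit 6,nat_lit 6,nat_lit 0,nat_lit 3,nat_lit 12,nat_lit 1,nat_lit 1,nat_lit 0,nat_lit 0,nat_lit 13,nat_lit 14,nat_lit 8,nat_lit 8,nat_lit 3,nat_lit 3,nat_lit 2,nat_lit 2,nat_lit 14,nat_lit 0,nat_lit 5,nat_lit 8,nat_lit 15,nat_lit 8,nat_lit 8,nat_lit 3,nat_lit 3,nat_lit 6,nat_lit 7,nat_lit 7,nat_lit 5,nat_lit 5,nat_lit 13,nat_lit 3,nat_lit 3,nat_lit 0,nat_lit 15,nat_lit 5])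
 (.leaf [nat_lit 0,nat_lit 2,nat_lit 8,nat_lit 2,nat_lit 0,nat_lit 0,nat_lit 8,nat_lit 2,nat_lit 10,nat_lit 13,nat_lit 14,nat_lit 4,nat_lit 4,nat_lit 13,nat_lit 12,nat_lit 5,nat_lit 2,nat_lit 14,nat_lit 0,nat_lit 4,nat_lit 5,nat_lit 12,nat_lit 13,nat_lit 6,nat_lit 7,nat_lit 7,nat_lit 15,nat_lit 12,nat_lit 1,nat_lit 1,nat_lit 14,nat_lit 1,nat_lit 12,nat_lit 1,nat_lit 2,nat_lit 2,nat_lit 14,nat_lit 1,nat_lit 9,nat_lit 8,nat_lit 2,nat_lit 7,nat_lit 15,nat_lit 4,nat_lit 6,nat_lit 6,nat_lit 8,nat_lit 4,nat_lit 4,nat_lit 5,nat_lit 5,nat_lit 1,nat_lit 1,nat_lit 14,nat_lit 0,nat_lit 0,nat_lit 8,nat_lit 12,nat_lit 1,nat_lit 5,nat_lit 6]))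
 (.leaf [nat_lit 9,nat_lit 0,nat_lit 2,nat_lit 12,nat_lit 5,nat_lit 13,nat_lit 0,nat_lit 3,nat_lit 14,nat_lit 7,nat_lit 14,nat_lit 7,nat_lit 7,nat_lit 0,nat_lit 12,nat_lit 5,nat_lit 13,nat_lit 9,nat_lit 14,nat_lit 14,nat_lit 14,nat_lit 6,nat_lit 6,nat_lit 4,nat_lit 9,nat_lit 12,nat_lit 1,nat_lit 1,nat_lit 0,nat_lit 0,nat_lit 6,nat_lit 13,nat_lit 6,nat_lit 6,nat_lit 4,nat_lit 4,nat_lit 6,nat_lit 6,nat_lit 13,nat_lit 3,nat_lit 13,nat_lit 4,nat_lit 7,nat_lit 7,nat_lit 13,nat_lit 4,nat_lit 4,nat_lit 8,nat_lit 8,nat_lit 15,nat_lit 0,nat_lit 0])))))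
 (.node (.node (.node (.node (.node (.leaf [nat_lit 4,nat_lit 10,nat_lit 12,nat_lit 0,nat_lit 0,nat_lit 2,nat_lit 10,nat_lit 14,nat_lit 13,nat_lit 0,nat_lit 0,nat_lit 13,nat_lit 0,nat_lit 7,nat_lit 7,nat_lit 15,nat_lit 15,nat_lit 7,nat_lit 15,nat_lit 5,nat_lit 5,nat_lit 0,nat_lit 0,nat_lit 13,nat_lit 6,nat_lit 5,nat_lit 8,nat_lit 8,nat_lit 3,nat_lit 3,nat_lit 6,nat_lit 7,nat_lit 7,nat_lit 4,nat_lit 6,nat_lit 6,nat_lit 8,nat_lit 4,nat_lit 4,nat_lit 5,nat_lit 5,nat_lit 1,nat_lit 1,nat_lit 14,nat_lit 0,nat_lit 0,nat_lit 8,nat_lit 12,nat_lit 1,nat_lit 5,nat_lit 6])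
 (.leaf [nat_lit 9,nat_lit 0,nat_lit 5,nat_lit 13,nat_lit 2,nat_lit 2,nat_lit 14,nat_lit 0,nat_lit 3,nat_lit 12,nat_lit 2,nat_lit 15,nat_lit 8,nat_lit 13,nat_lit 12,nat_lit 12,nat_lit 0,nat_lit 14,nat_lit 14,nat_lit 7,nat_lit 7,nat_lit 14,nat_lit 8,nat_lit 14,nat_lit 8,nat_lit 6,nat_lit 6,nat_lit 3,nat_lit 7,nat_lit 8,nat_lit 13,nat_lit 6,nat_lit 6,nat_lit 4,nat_lit 4,nat_lit 7,nat_lit 15,nat_lit 2,nat_lit 2,nat_lit 12,nat_lit 4,nat_lit 4,nat_lit 14,nat_lit 2,nat_lit 12,nat_lit 13,nat_lit 0,nat_lit 0,nat_lit 1,nat_lit 15,nat_lit 14]))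
 (.node (.leaf [nat_lit 5,nat_lit 0,nat_lit 11,nat_lit 13,nat_lit 7,nat_lit 7,nat_lit 12,nat_lit 0,nat_lit 14,nat_lit 7,nat_lit 13,nat_lit 4,nat_lit 4,nat_lit 1,nat_lit 1,nat_lit 7,nat_lit 7,nat_lit 1,nat_lit 6,nat_lit 15,nat_lit 14,nat_lit 6,nat_lit 6,nat_lit 4,nat_lit 9,nat_lit 12,nat_lit 1,nat_lit 1,nat_lit 0,nat_lit 0,nat_lit 6,nat_lit 13,nat_lit 5,nat_lit 5,nat_lit 13,nat_lit 3,nat_lit 3,nat_lit 0,nat_lit 15,nat_lit 5,nat_lit 8,nat_lit 8,nat_lit 3,nat_lit 3,nat_lit 6,nat_lit 7,nat_lit 7,nat_lit 5,nat_lit 5,nat_lit 13,nat_lit 3,nat_lit 3,nat_lit 0,nat_lit 15,nat_lit 5])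
 (.leaf [nat_lit 9,nat_lit 10,nat_lit 15,nat_lit 4,nat_lit 6,nat_lit 15,nat_lit 11,nat_lit 15,nat_lit 7,nat_lit 3,nat_lit 3,nat_lit 15,nat_lit 4,nat_lit 8,nat_lit 8,nat_lit 15,nat_lit 5,nat_lit 5,nat_lit 13,nat_lit 8,nat_lit 8,nat_lit 15,nat_lit 3,nat_lit 4,nat_lit 5,nat_lit 5,nat_lit 15,nat_lit 0,nat_lit 8,nat_lit 13,nat_lit 13,nat_lit 0,nat_lit 4,nat_lit 15,nat_lit 5,nat_lit 14,nat_lit 15,nat_lit 0,nat_lit 0,nat_lit 3,nat_lit 13,nat_lit 12,nat_lit 8,nat_lit 6,nat_lit 4,nat_lit 6])))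
 (.node (.node (.leaf [nat_lit 9,nat_lit 15,nat_lit 12,nat_lit 2,nat_lit 3,nat_lit 14,nat_lit 11,nat_lit 12,nat_lit 13,nat_lit 7,nat_lit 15,nat_lit 6,nat_lit 13,nat_lit 7,nat_lit 1,nat_lit 1,nat_lit 15,nat_lit 12,nat_lit 0,nat_lit 3,nat_lit 12,nat_lit 12,nat_lit 0,nat_lit 14,nat_lit 14,nat_lit 0,nat_lit 0,nat_lit 14,nat_lit 3,nat_lit 13,nat_lit 1,nat_lit 13,nat_lit 6,nat_lit 7,nat_lit 7,nat_lit 15,nat_lit 14,nat_lit 15,nat_lit 3,nat_lit 3,nat_lit 0,nat_lit 13,nat_lit 12,nat_lit 13,nat_lit 7,nat_lit 6,nat_lit 6,nat_lit 15])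
 (.leaf [nat_lit 9,nat_lit 6,nat_lit 15,nat_lit 4,nat_lit 5,nat_lit 5,nat_lit 4,nat_lit 4,nat_lit 0,nat_lit 0,nat_lit 9,nat_lit 12,nat_lit 10,nat_lit 13,nat_lit 6,nat_lit 6,nat_lit 3,nat_lit 7,nat_lit 15,nat_lit 12,nat_lit 12,nat_lit 0,nat_lit 14,nat_lit 14,nat_lit 7,nat_lit 7,nat_lit 14,nat_lit 8,nat_lit 14,nat_lit 8,nat_lit 6,nat_lit 6,nat_lit 13,nat_lit 13,nat_lit 3,nat_lit 3,nat_lit 5,nat_lit 13,nat_lit 4,nat_lit 6,nat_lit 15,nat_lit 8,nat_lit 8,nat_lit 13,nat_lit 5,nat_lit 5,nat_lit 15,nat_lit 8,nat_lit 8,nat_lit 0,nat_lit 0,nat_lit 13,nat_lit 5]))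
 (.node (.leaf [nat_lit 9,nat_lit 9,nat_lit 5,nat_lit 9,nat_lit 9,nat_lit 9,nat_lit 9,nat_lit 9,nat_lit 9,nat_lit 9,nat_lit 6,nat_lit 6,nat_lit 0,nat_lit 1,nat_lit 15,nat_lit 8,nat_lit 2,nat_lit 2,nat_lit 7,nat_lit 7,nat_lit 1,nat_lit 1,nat_lit 3,nat_lit 5,nat_lit 5,nat_lit 2,nat_lit 2,nat_lit 14,nat_lit 13,nat_lit 10,nat_lit 5,nat_lit 5,nat_lit 15,nat_lit 8,nat_lit 8,nat_lit 0,nat_lit 0,nat_lit 13,nat_lit 13,nat_lit 0,nat_lit 0,nat_lit 3,nat_lit 15,nat_lit 5,nat_lit 6,nat_lit 6,nat_lit 3,nat_lit 7,nat_lit 8,nat_lit 5,nat_lit 5,nat_lit 13,nat_lit 0,nat_lit 0,nat_lit 3,nat_lit 15,nat_lit 5])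
 (.leaf [nat_lit 9,nat_lit 15,nat_lit 6,nat_lit 6,nat_lit 1,nat_lit 1,nat_lit 8,nat_lit 8,nat_lit 1,nat_lit 1,nat_lit 12,nat_lit 15,nat_lit 14,nat_lit 4,nat_lit 15,nat_lit 7,nat_lit 7,nat_lit 15,nat_lit 8,nat_lit 8,nat_lit 13,nat_lit 7,nat_lit 7,nat_lit 15,nat_lit 5,nat_lit 5,nat_lit 3,nat_lit 13,nat_lit 7,nat_lit 7,nat_lit 6,nat_lit 6,nat_lit 3,nat_lit 7,nat_lit 8,nat_lit 13,nat_lit 6,nat_lit 6,nat_lit 4,nat_lit 4,nat_lit 7,nat_lit 15,nat_lit 2,nat_lit 2,nat_lit 12,nat_lit 4,nat_lit 4,nat_lit 14,nat_lit 2,nat_lit 12,nat_lit 13,nat_lit 0,nat_lit 0,nat_lit 1,nat_lit 15,nat_lit 14]))))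
 (.node (.node (.node (.leaf [nat_lit 4,nat_lit 2,nat_lit 2,nat_lit 15,nat_lit 7,nat_lit 7,nat_lit 11,nat_lit 14,nat_lit 6,nat_lit 7,nat_lit 7,nat_lit 15,nat_lit 0,nat_lit 6,nat_lit 13,nat_lit 2,nat_lit 2,nat_lit 13,nat_lit 1,nat_lit 15,nat_lit 2,nat_lit 6,nat_lit 6,nat_lit 15,nat_lit 3,nat_lit 7,nat_lit 15,nat_lit 6,nat_lit 13,nat_lit 7,nat_lit 13,nat_lit 6,nat_lit 7,nat_lit 7,nat_lit 15,nat_lit 14,nat_lit 15,nat_lit 3,nat_lit 3,nat_lit 0,nat_lit 13,nat_lit 12,nat_lit 13,nat_lit 7,nat_lit 6,nat_lit 6,nat_lit 15,nat_lit 5,nat_lit 5,nat_lit 13,nat_lit 0,nat_lit 0,nat_lit 3,nat_lit 15,nat_lit 5])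
 (.leaf [nat_lit 11,nat_lit 0,nat_lit 11,nat_lit 15,nat_lit 8,nat_lit 8,nat_lit 3,nat_lit 3,nat_lit 14,nat_lit 6,nat_lit 12,nat_lit 5,nat_lit 5,nat_lit 15,nat_lit 8,nat_lit 13,nat_lit 5,nat_lit 3,nat_lit 3,nat_lit 15,nat_lit 8,nat_lit 8,nat_lit 15,nat_lit 5,nat_lit 5,nat_lit 13,nat_lit 8,nat_lit 8,nat_lit 15,nat_lit 3,nat_lit 4,nat_lit 8,nat_lit 8,nat_lit 3,nat_lit 3,nat_lit 6,nat_lit 7,nat_lit 7,nat_lit 5,nat_lit 5,nat_lit 13,nat_lit 0,nat_lit 0,nat_lit 3,nat_lit 15,nat_lit 5,nat_lit 12,nat_lit 13,nat_lit 1,nat_lit 1,nat_lit 0,nat_lit 15,nat_lit 14,nat_lit 2,nat_lit 2,nat_lit 12,nat_lit 4,nat_lit 14,nat_lit 2,nat_lit 13,nat_lit 7,nat_lit 7,nat_lit 4,nat_lit 6,nat_lit 15]))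
 (.node (.leaf [nat_lit 1,nat_lit 0,nat_lit 1,nat_lit 2,nat_lit 10,nat_lit 2,nat_lit 2,nat_lit 15,nat_lit 15,nat_lit 12,nat_lit 11,nat_lit 4,nat_lit 4,nat_lit 7,nat_lit 7,nat_lit 12,nat_lit 2,nat_lit 12,nat_lit 2,nat_lit 2,nat_lit 12,nat_lit 6,nat_lit 8,nat_lit 14,nat_lit 15,nat_lit 0,nat_lit 0,nat_lit 3,nat_lit 13,nat_lit 12,nat_lit 5,nat_lit 5,nat_lit 13,nat_lit 0,nat_lit 0,nat_lit 3,nat_lit 15,nat_lit 5,nat_lit 6,nat_lit 6,nat_lit 3,nat_lit 7,nat_lit 8,nat_lit 5,nat_lit 5,nat_lit 13,nat_lit 0,nat_lit 0,nat_lit 3,nat_lit 15,nat_lit 5])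
 (.leaf [nat_lit 9,nat_lit 9,nat_lit 3,nat_lit 6,nat_lit 0,nat_lit 0,nat_lit 3,nat_lit 14,nat_lit 14,nat_lit 13,nat_lit 14,nat_lit 0,nat_lit 0,nat_lit 7,nat_lit 12,nat_lit 2,nat_lit 2,nat_lit 0,nat_lit 0,nat_lit 9,nat_lit 13,nat_lit 9,nat_lit 13,nat_lit 3,nat_lit 15,nat_lit 1,nat_lit 1,nat_lit 14,nat_lit 5,nat_lit 12,nat_lit 1,nat_lit 5,nat_lit 5,nat_lit 15,nat_lit 1,nat_lit 1,nat_lit 7,nat_lit 14,nat_lit 14,nat_lit 6,nat_lit 6,nat_lit 3,nat_lit 7,nat_lit 8,nat_lit 5,nat_lit 5,nat_lit 13,nat_lit 0,nat_lit 0,nat_lit 3,nat_lit 15,nat_lit 5])))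
 (.node (.node (.leaf [nat_lit 6,nat_lit 1,nat_lit 9,nat_lit 11,nat_lit 15,nat_lit 5,nat_lit 5,nat_lit 13,nat_lit 7,nat_lit 14,nat_lit 6,nat_lit 6,nat_lit 12,nat_lit 0,nat_lit 0,nat_lit 6,nat_lit 4,nat_lit 4,nat_lit 5,nat_lit 5,nat_lit 7,nat_lit 14,nat_lit 6,nat_lit 8,nat_lit 8,nat_lit 0,nat_lit 0,nat_lit 13,nat_lit 7,nat_lit 8,nat_lit 15,nat_lit 10,nat_lit 10,nat_lit 3,nat_lit 13,nat_lit 4,nat_lit 14,nat_lit 7,nat_lit 7,nat_lit 0,nat_lit 12,nat_lit 8,nat_lit 8,nat_lit 3,nat_lit 3,nat_lit 6,nat_lit 7,nat_lit 7,nat_lit 5,nat_lit 5,nat_lit 13,nat_lit 0,nat_lit 0,nat_lit 3,nat_lit 15,nat_lit 5])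
 (.leaf [nat_lit 9,nat_lit 0,nat_lit 6,nat_lit 3,nat_lit 3,nat_lit 15,nat_lit 12,nat_lit 10,nat_lit 9,nat_lit 13,nat_lit 8,nat_lit 13,nat_lit 7,nat_lit 6,nat_lit 6,nat_lit 15,nat_lit 8,nat_lit 8,nat_lit 15,nat_lit 4,nat_lit 4,nat_lit 0,nat_lit 13,nat_lit 8,nat_lit 15,nat_lit 3,nat_lit 3,nat_lit 4,nat_lit 7,nat_lit 13,nat_lit 8,nat_lit 8,nat_lit 3,nat_lit 3,nat_lit 6,nat_lit 7,nat_lit 7,nat_lit 13,nat_lit 6,nat_lit 7,nat_lit 7,nat_lit 15,nat_lit 14,nat_lit 15,nat_lit 3,nat_lit 3,nat_lit 0,nat_lit 13,nat_lit 12,nat_lit 13,nat_lit 7,nat_lit 6,nat_lit 6,nat_lit 15]))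
 (.leaf [nat_lit 10,nat_lit 10,nat_lit 6,nat_lit 13,nat_lit 7,nat_lit 7,nat_lit 2,nat_lit 13,nat_lit 8,nat_lit 3,nat_lit 11,nat_lit 10,nat_lit 3,nat_lit 13,nat_lit 10,nat_lit 15,nat_lit 15,nat_lit 4,nat_lit 4,nat_lit 2,nat_lit 5,nat_lit 5,nat_lit 7,nat_lit 7,nat_lit 14,nat_lit 2,nat_lit 2,nat_lit 0,nat_lit 4,nat_lit 5,nat_lit 13,nat_lit 8,nat_lit 8,nat_lit 3,nat_lit 3,nat_lit 6,nat_lit 7,nat_lit 7,nat_lit 6,nat_lit 6,nat_lit 13,nat_lit 13,nat_lit 3,nat_lit 3,nat_lit 5,nat_lit 13,nat_lit 4,nat_lit 6,nat_lit 15,nat_lit 8,nat_lit 8,nat_lit 13,nat_lit 5,nat_lit 5,nat_lit 15,nat_lit 8,nat_lit 8,nat_lit 0,nat_lit 0,nat_lit 13,nat_lit 5]))))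
 (.node (.node (.node (.node (.leaf [nat_lit 1,nat_lit 13,nat_lit 8,nat_lit 8,nat_lit 1,nat_lit 13,nat_lit 7,nat_lit 11,nat_lit 11,nat_lit 3,nat_lit 15,nat_lit 0,nat_lit 0,nat_lit 15,nat_lit 15,nat_lit 0,nat_lit 7,nat_lit 7,nat_lit 14,nat_lit 4,nat_lit 4,nat_lit 14,nat_lit 13,nat_lit 4,nat_lit 13,nat_lit 14,nat_lit 9,nat_lit 6,nat_lit 5,nat_lit 5,nat_lit 13,nat_lit 0,nat_lit 0,nat_lit 3,nat_lit 15,nat_lit 5,nat_lit 6,nat_lit 6,nat_lit 3,nat_lit 7,nat_lit 8,nat_lit 5,nat_lit 5,nat_lit 13,nat_lit 0,nat_lit 0,nat_lit 3,nat_lit 15,nat_lit 5])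
 (.leaf [nat_lit 1,nat_lit 12,nat_lit 13,nat_lit 2,nat_lit 7,nat_lit 7,nat_lit 14,nat_lit 9,nat_lit 2,nat_lit 10,nat_lit 13,nat_lit 6,nat_lit 6,nat_lit 7,nat_lit 4,nat_lit 15,nat_lit 0,nat_lit 0,nat_lit 15,nat_lit 15,nat_lit 0,nat_lit 7,nat_lit 7,nat_lit 14,nat_lit 4,nat_lit 4,nat_lit 14,nat_lit 13,nat_lit 4,nat_lit 13,nat_lit 14,nat_lit 9,nat_lit 6]))
 (.node (.leaf [nat_lit 10,nat_lit 9,nat_lit 15,nat_lit 12,nat_lit 0,nat_lit 8,nat_lit 15,nat_lit 1,nat_lit 12,nat_lit 6,nat_lit 15,nat_lit 15,nat_lit 4,nat_lit 4,nat_lit 2,nat_lit 5,nat_lit 5,nat_lit 12,nat_lit 5,nat_lit 5,nat_lit 14,nat_lit 7,nat_lit 7,nat_lit 2,nat_lit 2,nat_lit 13,nat_lit 3,nat_lit 3,nat_lit 0,nat_lit 4,nat_lit 15,nat_lit 6,nat_lit 6,nat_lit 13,nat_lit 7,nat_lit 7,nat_lit 0,nat_lit 0,nat_lit 15,nat_lit 6,nat_lit 8,nat_lit 8,nat_lit 3,nat_lit 3,nat_lit 6,nat_lit 7,nat_lit 7,nat_lit 5,nat_lit 5,nat_lit 13,nat_lit 3,nat_lit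 3,nat_lit 0,nat_lit 15,nat_lit 5])
 (.leaf [nat_lit 5,nat_lit 9,nat_lit 15,nat_lit 5,nat_lit 0,nat_lit 0,nat_lit 15,nat_lit 2,nat_lit 12,nat_lit 7,nat_lit 6,nat_lit 1,nat_lit 5,nat_lit 6,nat_lit 13,nat_lit 7,nat_lit 7,nat_lit 12,nat_lit 13,nat_lit 12,nat_lit 12,nat_lit 1,nat_lit 1,nat_lit 2,nat_lit 9,nat_lit 12,nat_lit 5,nat_lit 5,nat_lit 13,nat_lit 0,nat_lit 4,nat_lit 3,nat_lit 3,nat_lit 0,nat_lit 15,nat_lit 5,nat_lit 13,nat_lit 6,nat_lit 7,nat_lit 7,nat_lit 15,nat_lit 14,nat_lit 15,nat_lit 3,nat_lit 3,nat_lit 0,nat_lit 13,nat_lit 12,nat_lit 13,nat_lit 7,nat_lit 6,nat_lit 6,nat_lit 15,nat_lit 5,nat_lit 5,nat_lit 13,nat_lit 0,nat_lit 0,nat_lit 3,nat_lit 15,nat_lit 5])))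
 (.node (.node (.leaf [nat_lit 9,nat_lit 0,nat_lit 6,nat_lit 1,nat_lit 1,nat_lit 12,nat_lit 2,nat_lit 2,nat_lit 13,nat_lit 2,nat_lit 14,nat_lit 6,nat_lit 5,nat_lit 6,nat_lit 15,nat_lit 8,nat_lit 8,nat_lit 15,nat_lit 5,nat_lit 5,nat_lit 13,nat_lit 8,nat_lit 8,nat_lit 15,nat_lit 3,nat_lit 4,nat_lit 6,nat_lit 6,nat_lit 13,nat_lit 13,nat_lit 3,nat_lit 3,nat_lit 5,nat_lit 13,nat_lit 4,nat_lit 6,nat_lit 15,nat_lit 8,nat_lit 8,nat_lit 13,nat_lit 5,nat_lit 5,nat_lit 15,nat_lit 8,nat_lit 8,nat_lit 0,nat_lit 0,nat_lit 13,nat_lit 5])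
 (.leaf [nat_lit 9,nat_lit 1,nat_lit 1,nat_lit 5,nat_lit 13,nat_lit 5,nat_lit 0,nat_lit 1,nat_lit 14,nat_lit 15,nat_lit 7,nat_lit 7,nat_lit 15,nat_lit 8,nat_lit 13,nat_lit 7,nat_lit 6,nat_lit 6,nat_lit 3,nat_lit 7,nat_lit 8,nat_lit 5,nat_lit 5,nat_lit 13,nat_lit 0,nat_lit 0,nat_lit 3,nat_lit 15,nat_lit 5,nat_lit 13,nat_lit 6,nat_lit 6,nat_lit 4,nat_lit 4,nat_lit 7,nat_lit 15,nat_lit 2,nat_lit 2,nat_lit 12,nat_lit 4,nat_lit 4,nat_lit 14,nat_lit 2,nat_lit 12,nat_lit 13,nat_lit 0,nat_lit 0,nat_lit 1,nat_lit 15,nat_lit 14]))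
 (.node (.leaf [nat_lit 10,nat_lit 3,nat_lit 13,nat_lit 4,nat_lit 14,nat_lit 7,nat_lit 7,nat_lit 0,nat_lit 12,nat_lit 15,nat_lit 8,nat_lit 15,nat_lit 6,nat_lit 15,nat_lit 3,nat_lit 15,nat_lit 8,nat_lit 8,nat_lit 3,nat_lit 3,nat_lit 6,nat_lit 7,nat_lit 7,nat_lit 12,nat_lit 13,nat_lit 1,nat_lit 1,nat_lit 0,nat_lit 15,nat_lit 14,nat_lit 2,nat_lit 2,nat_lit 12,nat_lit 4,nat_lit 14,nat_lit 2,nat_lit 13,nat_lit 7,nat_lit 7,nat_lit 4,nat_lit 6,nat_lit 15,nat_lit 4,nat_lit 6,nat_lit 6,nat_lit 8,nat_lit 4,nat_lit 4,nat_lit 5,nat_lit 5,nat_lit 1,nat_lit 1,nat_lit 14,nat_lit 0,nat_lit 0,nat_lit 8,nat_lit 12,nat_lit 1,nat_lit 5,nat_lit 6])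
 (.leaf [nat_lit 11,nat_lit 7,nat_lit 14,nat_lit 0,nat_lit 0,nat_lit 12,nat_lit 0,nat_lit 0,nat_lit 9,nat_lit 13,nat_lit 14,nat_lit 14,nat_lit 4,nat_lit 4,nat_lit 13,nat_lit 12,nat_lit 5,nat_lit 2,nat_lit 14,nat_lit 0,nat_lit 4,nat_lit 5,nat_lit 12,nat_lit 13,nat_lit 0,nat_lit 3,nat_lit 4,nat_lit 15,nat_lit 6,nat_lit 6,nat_lit 3,nat_lit 7,nat_lit 8,nat_lit 5,nat_lit 5,nat_lit 13,nat_lit 0,nat_lit 0,nat_lit 3,nat_lit 0,nat_lit 0,nat_lit 3,nat_lit 15,nat_lit 5]))))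
 (.node (.node (.node (.leaf [nat_lit 0,nat_lit 13,nat_lit 13,nat_lit 9,nat_lit 7,nat_lit 7,nat_lit 14,nat_lit 9,nat_lit 2,nat_lit 10,nat_lit 5,nat_lit 5,nat_lit 3,nat_lit 3,nat_lit 0,nat_lit 0,nat_lit 15,nat_lit 3,nat_lit 14,nat_lit 6,nat_lit 6,nat_lit 4,nat_lit 9,nat_lit 12,nat_lit 1,nat_lit 1,nat_lit 0,nat_lit 0,nat_lit 6,nat_lit 13,nat_lit 8,nat_lit 8,nat_lit 3,nat_lit 3,nat_lit 6,nat_lit 7,nat_lit 7,nat_lit 5,nat_lit 5,nat_lit 13,nat_lit 3,nat_lit 3,nat_lit 0,nat_lit 15,nat_lit 5,nat_lit 6,nat_lit 6,nat_lit 3,nat_lit 7,nat_lit 8])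
 (.leaf [nat_lit 9,nat_lit 3,nat_lit 9,nat_lit 5,nat_lit 5,nat_lit 1,nat_lit 15,nat_lit 7,nat_lit 11,nat_lit 14,nat_lit 15,nat_lit 0,nat_lit 13,nat_lit 12,nat_lit 11,nat_lit 11,nat_lit 11,nat_lit 11,nat_lit 11,nat_lit 11,nat_lit 11,nat_lit 11,nat_lit 13,nat_lit 13,nat_lit 13,nat_lit 1,nat_lit 15,nat_lit 2,nat_lit 8,nat_lit 8,nat_lit 15,nat_lit 3,nat_lit 3,nat_lit 0,nat_lit 4,nat_lit 13,nat_lit 8,nat_lit 6,nat_lit 6,nat_lit 3,nat_lit 7,nat_lit 8,nat_lit 4,nat_lit 6,nat_lit 6,nat_lit 8,nat_lit 4,nat_lit 4,nat_lit 5,nat_lit 5,nat_lit 1,nat_lit 1,nat_lit 14,nat_lit 0,nat_lit 0,nat_lit 8,nat_lit 12,nat_lit 1,nat_lit 5,nat_lit 6]))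
 (.node (.leaf [nat_lit 10,nat_lit 9,nat_lit 13,nat_lit 8,nat_lit 15,nat_lit 8,nat_lit 15,nat_lit 6,nat_lit 15,nat_lit 3,nat_lit 15,nat_lit 14,nat_lit 15,nat_lit 3,nat_lit 3,nat_lit 0,nat_lit 13,nat_lit 12,nat_lit 2,nat_lit 2,nat_lit 7,nat_lit 7,nat_lit 1,nat_lit 1,nat_lit 3,nat_lit 14,nat_lit 0,nat_lit 0,nat_lit 14,nat_lit 7,nat_lit 13,nat_lit 3,nat_lit 3,nat_lit 0,nat_lit 15,nat_lit 5])
 (.leaf [nat_lit 1,nat_lit 3,nat_lit 2,nat_lit 2,nat_lit 0,nat_lit 0,nat_lit 15,nat_lit 2,nat_lit 5,nat_lit 5,nat_lit 7,nat_lit 7,nat_lit 0,nat_lit 0,nat_lit 15,nat_lit 6,nat_lit 7,nat_lit 0,nat_lit 0,nat_lit 15,nat_lit 15,nat_lit 0,nat_lit 13,nat_lit 12,nat_lit 3,nat_lit 3,nat_lit 14,nat_lit 15,nat_lit 8,nat_lit 8,nat_lit 13,nat_lit 2,nat_lit 2,nat_lit 10,nat_lit 10,nat_lit 11,nat_lit 6,nat_lit 6,nat_lit 3,nat_lit 7,nat_lit 8])))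
 (.node (.node (.leaf [nat_lit 9,nat_lit 0,nat_lit 1,nat_lit 14,nat_lit 13,nat_lit 0,nat_lit 2,nat_lit 2,nat_lit 3,nat_lit 8,nat_lit 8,nat_lit 14,nat_lit 0,nat_lit 8,nat_lit 1,nat_lit 1,nat_lit 14,nat_lit 4,nat_lit 4,nat_lit 13,nat_lit 12,nat_lit 6,nat_lit 15,nat_lit 3,nat_lit 3,nat_lit 0,nat_lit 6,nat_lit 5,nat_lit 13,nat_lit 7,nat_lit 15,nat_lit 14,nat_lit 2,nat_lit 2,nat_lit 0,nat_lit 9,nat_lit 9,nat_lit 5,nat_lit 12,nat_lit 1,nat_lit 15,nat_lit 8,nat_lit 5,nat_lit 5,nat_lit 13,nat_lit 0,nat_lit 0,nat_lit 3,nat_lit 15,nat_lit 5,nat_lit 8,nat_lit 8,nat_lit 3,nat_lit 3,nat_lit 6,nat_lit 7,nat_lit 7])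
 (.leaf [nat_lit 9,nat_lit 1,nat_lit 12,nat_lit 5,nat_lit 12,nat_lit 2,nat_lit 2,nat_lit 7,nat_lit 3,nat_lit 14,nat_lit 3,nat_lit 3,nat_lit 6,nat_lit 6,nat_lit 11,nat_lit 11,nat_lit 11,nat_lit 11,nat_lit 11,nat_lit 11,nat_lit 11,nat_lit 11,nat_lit 14,nat_lit 5,nat_lit 14,nat_lit 8,nat_lit 14,nat_lit 10,nat_lit 5,nat_lit 10,nat_lit 13,nat_lit 3,nat_lit 3,nat_lit 0,nat_lit 4,nat_lit 15,nat_lit 6,nat_lit 6,nat_lit 13,nat_lit 7,nat_lit 7,nat_lit 0,nat_lit 0,nat_lit 15,nat_lit 6,nat_lit 5,nat_lit 5,nat_lit 13,nat_lit 0,nat_lit 0,nat_lit 3,nat_lit 15,nat_lit 5]))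
 (.leaf [nat_lit 9,nat_lit 12,nat_lit 11,nat_lit 5,nat_lit 8,nat_lit 12,nat_lit 0,nat_lit 2,nat_lit 13,nat_lit 13,nat_lit 7,nat_lit 7,nat_lit 14,nat_lit 4,nat_lit 4,nat_lit 14,nat_lit 6,nat_lit 12,nat_lit 8,nat_lit 5,nat_lit 3,nat_lit 3,nat_lit 15,nat_lit 7,nat_lit 7,nat_lit 5,nat_lit 5,nat_lit 13,nat_lit 3,nat_lit 7,nat_lit 7,nat_lit 0,nat_lit 0,nat_lit 15,nat_lit 5,nat_lit 4,nat_lit 8,nat_lit 8,nat_lit 3,nat_lit 3,nat_lit 6,nat_lit 7,nat_lit 7]))))))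
 (.node (.node (.node (.node (.node (.node (.leaf [nat_lit 3,nat_lit 3,nat_lit 10,nat_lit 9,nat_lit 13,nat_lit 14,nat_lit 0,nat_lit 3,nat_lit 12,nat_lit 15,nat_lit 4,nat_lit 4,nat_lit 12,nat_lit 4,nat_lit 14,nat_lit 4,nat_lit 4,nat_lit 14,nat_lit 4,nat_lit 12,nat_lit 8,nat_lit 3,nat_lit 8,nat_lit 6,nat_lit 4,nat_lit 6,nat_lit 8,nat_lit 8,nat_lit 3,nat_lit 3,nat_lit 6,nat_lit 7,nat_lit 7])
 (.leaf [nat_lit 10,nat_lit 13,nat_lit 9,nat_lit 15,nat_lit 2,nat_lit 2,nat_lit 7,nat_lit 7,nat_lit 10,nat_lit 14,nat_lit 8,nat_lit 8,nat_lit 15,nat_lit 3,nat_lit 4,nat_lit 13,nat_lit 14,nat_lit 6,nat_lit 6,nat_lit 4,nat_lit 9,nat_lit 12,nat_lit 1,nat_lit 1,nat_lit 0,nat_lit 0,nat_lit 6,nat_lit 13,nat_lit 6,nat_lit 6,nat_lit 3,nat_lit 7,nat_lit 8,nat_lit 5,nat_lit 5,nat_lit 13,nat_lit 0,nat_lit 0,nat_lit 3,nat_lit 15,nat_lit 5,nat_lit 12,nat_lit 13,nat_lit 1,nat_lit 1,nat_lit 0,nat_lit 15,nat_lit 14,nat_lit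 2,nat_lit 2,nat_lit 12,nat_lit 4,nat_lit 14,nat_lit 2,nat_lit 13,nat_lit 7,nat_lit 7,nat_lit 4,nat_lit 6,nat_lit 15]))
 (.node (.leaf [nat_lit 1,nat_lit 4,nat_lit 9,nat_lit 5,nat_lit 7,nat_lit 7,nat_lit 12,nat_lit 1,nat_lit 1,nat_lit 9,nat_lit 15,nat_lit 1,nat_lit 9,nat_lit 13,nat_lit 13,nat_lit 7,nat_lit 7,nat_lit 0,nat_lit 0,nat_lit 3,nat_lit 6,nat_lit 15,nat_lit 2,nat_lit 2,nat_lit 13,nat_lit 1,nat_lit 15,nat_lit 2,nat_lit 6,nat_lit 6,nat_lit 15,nat_lit 3,nat_lit 7,nat_lit 15,nat_lit 6,nat_lit 13,nat_lit 7,nat_lit 6,nat_lit 6,nat_lit 4,nat_lit 4,nat_lit 6,nat_lit 6,nat_lit 13,nat_lit 3,nat_lit 13,nat_lit 4,nat_lit 7,nat_lit 7,nat_lit 13,nat_lit 4,nat_lit 4,nat_lit 8,nat_lit 8,nat_lit 15,nat_lit 0,nat_lit 0])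
 (.leaf [nat_lit 9,nat_lit 5,nat_lit 14,nat_lit 0,nat_lit 7,nat_lit 7,nat_lit 1,nat_lit 1,nat_lit 0,nat_lit 15,nat_lit 12,nat_lit 6,nat_lit 6,nat_lit 3,nat_lit 7,nat_lit 8,nat_lit 5,nat_lit 5,nat_lit 6,nat_lit 6,nat_lit 15,nat_lit 7,nat_lit 8,nat_lit 5,nat_lit 5,nat_lit 0,nat_lit 0,nat_lit 13,nat_lit 6,nat_lit 5,nat_lit 6,nat_lit 6,nat_lit 5,nat_lit 5,nat_lit 4,nat_lit 4,nat_lit 15,nat_lit 5,nat_lit 7,nat_lit 5,nat_lit 5,nat_lit 13,nat_lit 0,nat_lit 0,nat_lit 3,nat_lit 15,nat_lit 5,nat_lit 8,nat_lit 8,nat_lit 3,nat_lit 3,nat_lit 6,nat_lit 7,nat_lit 7])))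
 (.node (.node (.leaf [nat_lit 9,nat_lit 10,nat_lit 5,nat_lit 12,nat_lit 7,nat_lit 7,nat_lit 14,nat_lit 2,nat_lit 2,nat_lit 1,nat_lit 4,nat_lit 3,nat_lit 14,nat_lit 5,nat_lit 13,nat_lit 3,nat_lit 5,nat_lit 13,nat_lit 3,nat_lit 14,nat_lit 15,nat_lit 0,nat_lit 0,nat_lit 3,nat_lit 13,nat_lit 12,nat_lit 8,nat_lit 8,nat_lit 3,nat_lit 3,nat_lit 6,nat_lit 7,nat_lit 7,nat_lit 5,nat_lit 5,nat_lit 13,nat_lit 0,nat_lit 0,nat_lit 3,nat_lit 15,nat_lit 5,nat_lit 8,nat_lit 8,nat_lit 3,nat_lit 3,nat_lit 6,nat_lit 7,nat_lit 7,nat_lit 5,nat_lit 5,nat_lit 13,nat_lit 0,nat_lit 0,nat_lit 3,nat_lit 15,nat_lit 5,nat_lit 6,nat_lit 6,nat_lit 3,nat_lit 7,nat_lit 8])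
 (.leaf [nat_lit 0,nat_lit 10,nat_lit 13,nat_lit 14,nat_lit 6,nat_lit 6,nat_lit 4,nat_lit 9,nat_lit 12,nat_lit 12,nat_lit 0,nat_lit 0,nat_lit 14,nat_lit 14,nat_lit 1,nat_lit 1,nat_lit 13,nat_lit 1,nat_lit 1,nat_lit 0,nat_lit 0,nat_lit 15,nat_lit 1,nat_lit 5,nat_lit 5,nat_lit 15,nat_lit 8,nat_lit 8,nat_lit 0,nat_lit 0,nat_lit 13,nat_lit 13,nat_lit 0,nat_lit 0,nat_lit 3,nat_lit 15,nat_lit 5]))
 (.node (.leaf [nat_lit 9,nat_lit 12,nat_lit 0,nat_lit 14,nat_lit 14,nat_lit 14,nat_lit 6,nat_lit 6,nat_lit 0,nat_lit 0,nat_lit 5,nat_lit 0,nat_lit 0,nat_lit 7,nat_lit 12,nat_lit 5,nat_lit 5,nat_lit 13,nat_lit 0,nat_lit 4,nat_lit 0,nat_lit 0,nat_lit 3,nat_lit 15,nat_lit 5,nat_lit 7,nat_lit 6,nat_lit 6,nat_lit 3,nat_lit 8,nat_lit 6,nat_lit 6,nat_lit 4,nat_lit 4,nat_lit 6,nat_lit 6,nat_lit 13,nat_lit 3,nat_lit 13,nat_lit 4,nat_lit 7,nat_lit 7,nat_lit 13,nat_lit 4,nat_lit 4,nat_lit 8,nat_lit 8,nat_lit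 15,nat_lit 0,nat_lit 0])
 (.leaf [nat_lit 9,nat_lit 13,nat_lit 4,nat_lit 13,nat_lit 13,nat_lit 2,nat_lit 8,nat_lit 3,nat_lit 4,nat_lit 7,nat_lit 3,nat_lit 4,nat_lit 5,nat_lit 5,nat_lit 15,nat_lit 2,nat_lit 2,nat_lit 14,nat_lit 14,nat_lit 7,nat_lit 7,nat_lit 13,nat_lit 11,nat_lit 14,nat_lit 13,nat_lit 13,nat_lit 6,nat_lit 6,nat_lit 13,nat_lit 13,nat_lit 4,nat_lit 4,nat_lit 5,nat_lit 5,nat_lit 13,nat_lit 0,nat_lit 7,nat_lit 5,nat_lit 5,nat_lit 13,nat_lit 0,nat_lit 0,nat_lit 3,nat_lit 15,nat_lit 5,nat_lit 8,nat_lit 8,nat_lit 3,nat_lit 3,nat_lit 6,nat_lit 7,nat_lit 7,nat_lit 5,nat_lit 5,nat_lit 13,nat_lit 3,nat_lit 3,nat_lit 0,nat_lit 15,nat_lit 5]))))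
 (.node (.node (.node (.leaf [nat_lit 0,nat_lit 0,nat_lit 7,nat_lit 11,nat_lit 3,nat_lit 3,nat_lit 1,nat_lit 7,nat_lit 2,nat_lit 12,nat_lit 12,nat_lit 0,nat_lit 14,nat_lit 14,nat_lit 7,nat_lit 7,nat_lit 14,nat_lit 8,nat_lit 14,nat_lit 3,nat_lit 3,nat_lit 6,nat_lit 7,nat_lit 7])
 (.leaf [nat_lit 9,nat_lit 4,nat_lit 15,nat_lit 0,nat_lit 7,nat_lit 12,nat_lit 13,nat_lit 3,nat_lit 6,nat_lit 13,nat_lit 14,nat_lit 0,nat_lit 5,nat_lit 9,nat_lit 8,nat_lit 0,nat_lit 0,nat_lit 13,nat_lit 0,nat_lit 6,nat_lit 6,nat_lit 3,nat_lit 7,nat_lit 8,nat_lit 5,nat_lit 5,nat_lit 13,nat_lit 0,nat_lit 4,nat_lit 15,nat_lit 5,nat_lit 7,nat_lit 6,nat_lit 6,nat_lit 3,nat_lit 8,nat_lit 6,nat_lit 6,nat_lit 4,nat_lit 4,nat_lit 6,nat_lit 6,nat_lit 13,nat_lit 3,nat_lit 13,nat_lit 4,nat_lit 7,nat_lit 7,nat_lit 13,nat_lit 4,nat_lit 4,nat_lit 8,nat_lit 8,nat_lit 15,nat_lit 0,nat_lit 0]))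
 (.node (.leaf [nat_lit 9,nat_lit 2,nat_lit 9,nat_lit 11,nat_lit 7,nat_lit 7,nat_lit 0,nat_lit 10,nat_lit 9,nat_lit 10,nat_lit 12,nat_lit 12,nat_lit 0,nat_lit 14,nat_lit 14,nat_lit 7,nat_lit 7,nat_lit 14,nat_lit 8,nat_lit 14,nat_lit 8,nat_lit 6,nat_lit 6,nat_lit 3,nat_lit 7,nat_lit 8,nat_lit 5,nat_lit 5,nat_lit 13,nat_lit 0,nat_lit 0,nat_lit 3,nat_lit 15,nat_lit 5,nat_lit 13,nat_lit 6,nat_lit 7,nat_lit 7,nat_lit 15,nat_lit 14,nat_lit 15,nat_lit 3,nat_lit 3,nat_lit 0,nat_lit 13,nat_lit 12,nat_lit 13,nat_lit 7,nat_lit 6,nat_lit 6,nat_lit 15,nat_lit 5,nat_lit 5,nat_lit 13,nat_lit 0,nat_lit 0,nat_lit 3,nat_lit 15,nat_lit 5])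
 (.leaf [nat_lit 6,nat_lit 5,nat_lit 4,nat_lit 4,nat_lit 15,nat_lit 9,nat_lit 13,nat_lit 13,nat_lit 12,nat_lit 15,nat_lit 6,nat_lit 6,nat_lit 15,nat_lit 3,nat_lit 3,nat_lit 1,nat_lit 1,nat_lit 13,nat_lit 13,nat_lit 3,nat_lit 3,nat_lit 14,nat_lit 15,nat_lit 5,nat_lit 13,nat_lit 3,nat_lit 3,nat_lit 15,nat_lit 3,nat_lit 3,nat_lit 0,nat_lit 15,nat_lit 0,nat_lit 15,nat_lit 6,nat_lit 6,nat_lit 4,nat_lit 4,nat_lit 6,nat_lit 6,nat_lit 13,nat_lit 3,nat_lit 13,nat_lit 4,nat_lit 7,nat_lit 7,nat_lit 13,nat_lit 4,nat_lit 4,nat_lit 8,nat_lit 8,nat_lit 15,nat_lit 0,nat_lit 0])))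
 (.node (.node (.leaf [nat_lit 2,nat_lit 0,nat_lit 15,nat_lit 5,nat_lit 1,nat_lit 1,nat_lit 14,nat_lit 1,nat_lit 1,nat_lit 3,nat_lit 12,nat_lit 1,nat_lit 14,nat_lit 9,nat_lit 1,nat_lit 6,nat_lit 6,nat_lit 12,nat_lit 1,nat_lit 1,nat_lit 0,nat_lit 13,nat_lit 7,nat_lit 5,nat_lit 5,nat_lit 13,nat_lit 0,nat_lit 4,nat_lit 15,nat_lit 5,nat_lit 14,nat_lit 15,nat_lit 3,nat_lit 3,nat_lit 0,nat_lit 13,nat_lit 12,nat_lit 6,nat_lit 6,nat_lit 3,nat_lit 7,nat_lit 8,nat_lit 5,nat_lit 5,nat_lit 13,nat_lit 0,nat_lit 0,nat_lit 3,nat_lit 0,nat_lit 0,nat_lit 3,nat_lit 15,nat_lit 5])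
 (.leaf [nat_lit 12,nat_lit 4,nat_lit 6,nat_lit 13,nat_lit 12,nat_lit 2,nat_lit 2,nat_lit 7,nat_lit 14,nat_lit 3,nat_lit 13,nat_lit 8,nat_lit 8,nat_lit 0,nat_lit 0,nat_lit 5,nat_lit 15,nat_lit 5,nat_lit 13,nat_lit 3,nat_lit 15,nat_lit 1,nat_lit 1,nat_lit 14,nat_lit 5,nat_lit 12,nat_lit 1,nat_lit 5,nat_lit 5,nat_lit 15,nat_lit 1,nat_lit 1,nat_lit 7,nat_lit 14,nat_lit 14,nat_lit 14,nat_lit 15,nat_lit 3,nat_lit 3,nat_lit 0,nat_lit 13,nat_lit 12,nat_lit 3,nat_lit 3,nat_lit 15,nat_lit 4,nat_lit 4,nat_lit 13,nat_lit 3,nat_lit 5,nat_lit 5,nat_lit 2,nat_lit 2,nat_lit 0,nat_lit 0,nat_lit 11,nat_lit 10,nat_lit 13]))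
 (.leaf [nat_lit 9,nat_lit 2,nat_lit 14,nat_lit 9,nat_lit 7,nat_lit 15,nat_lit 11,nat_lit 2,nat_lit 14,nat_lit 14,nat_lit 0,nat_lit 4,nat_lit 10,nat_lit 5,nat_lit 5,nat_lit 10,nat_lit 10,nat_lit 10,nat_lit 10,nat_lit 10,nat_lit 10,nat_lit 10,nat_lit 10,nat_lit 4,nat_lit 5,nat_lit 15,nat_lit 3,nat_lit 3,nat_lit 0,nat_lit 13,nat_lit 12,nat_lit 2,nat_lit 2,nat_lit 7,nat_lit 7,nat_lit 1,nat_lit 1,nat_lit 3,nat_lit 14,nat_lit 0,nat_lit 0,nat_lit 14,nat_lit 7,nat_lit 5,nat_lit 4,nat_lit 6,nat_lit 6,nat_lit 8,nat_lit 4,nat_lit 4,nat_lit 5,nat_lit 5,nat_lit 1,nat_lit 1,nat_lit 14,nat_lit 0,nat_lit 0,nat_lit 8,nat_lit 12,nat_lit 1,nat_lit 5,nat_lit 6]))))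
 (.node (.node (.node (.node (.leaf [nat_lit 6,nat_lit 13,nat_lit 11,nat_lit 12,nat_lit 15,nat_lit 1,nat_lit 13,nat_lit 14,nat_lit 1,nat_lit 11,nat_lit 2,nat_lit 5,nat_lit 7,nat_lit 7,nat_lit 15,nat_lit 15,nat_lit 7,nat_lit 15,nat_lit 8,nat_lit 6,nat_lit 4,nat_lit 15,nat_lit 3,nat_lit 15,nat_lit 6,nat_lit 6,nat_lit 14,nat_lit 1,nat_lit 12,nat_lit 15,nat_lit 7,nat_lit 13,nat_lit 10,nat_lit 6,nat_lit 5,nat_lit 6,nat_lit 6,nat_lit 4,nat_lit 4,nat_lit 6,nat_lit 6,nat_lit 13,nat_lit 3,nat_lit 13,nat_lit 4,nat_lit 7,nat_lit 7,nat_lit 13,nat_lit 4,nat_lit 4,nat_lit 8,nat_lit 8,nat_lit 15,nat_lit 0,nat_lit 0])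
 (.leaf [nat_lit 9,nat_lit 2,nat_lit 5,nat_lit 4,nat_lit 13,nat_lit 9,nat_lit 9,nat_lit 9,nat_lit 9,nat_lit 9,nat_lit 9,nat_lit 9,nat_lit 9,nat_lit 2,nat_lit 2,nat_lit 5,nat_lit 15,nat_lit 4,nat_lit 2,nat_lit 2,nat_lit 13,nat_lit 1,nat_lit 1,nat_lit 15,nat_lit 2,nat_lit 8,nat_lit 8,nat_lit 3,nat_lit 3,nat_lit 6,nat_lit 7,nat_lit 7,nat_lit 12,nat_lit 12,nat_lit 0,nat_lit 14,nat_lit 14,nat_lit 7,nat_lit 7,nat_lit 14,nat_lit 8,nat_lit 14,nat_lit 8]))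
 (.node (.leaf [nat_lit 10,nat_lit 1,nat_lit 2,nat_lit 12,nat_lit 5,nat_lit 5,nat_lit 1,nat_lit 15,nat_lit 7,nat_lit 11,nat_lit 4,nat_lit 15,nat_lit 7,nat_lit 15,nat_lit 5,nat_lit 5,nat_lit 6,nat_lit 6,nat_lit 0,nat_lit 0,nat_lit 3,nat_lit 13,nat_lit 4,nat_lit 4,nat_lit 12,nat_lit 8,nat_lit 8,nat_lit 0,nat_lit 6,nat_lit 15,nat_lit 5,nat_lit 1,nat_lit 14,nat_lit 9,nat_lit 13,nat_lit 7,nat_lit 7,nat_lit 0,nat_lit 4,nat_lit 4,nat_lit 7,nat_lit 15,nat_lit 2,nat_lit 2,nat_lit 12,nat_lit 4,nat_lit 4,nat_lit 14,nat_lit 2,nat_lit 12,nat_lit 13,nat_lit 0,nat_lit 0,nat_lit 1,nat_lit 15,nat_lit 14])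
 (.leaf [nat_lit 9,nat_lit 4,nat_lit 2,nat_lit 2,nat_lit 15,nat_lit 0,nat_lit 14,nat_lit 9,nat_lit 8,nat_lit 15,nat_lit 3,nat_lit 4,nat_lit 13,nat_lit 6,nat_lit 6,nat_lit 3,nat_lit 7,nat_lit 8,nat_lit 6,nat_lit 7,nat_lit 7,nat_lit 13,nat_lit 6,nat_lit 13,nat_lit 5,nat_lit 5,nat_lit 13,nat_lit 0,nat_lit 0,nat_lit 3,nat_lit 15,nat_lit 5,nat_lit 8,nat_lit 8,nat_lit 3,nat_lit 3,nat_lit 6,nat_lit 7,nat_lit 7])))
 (.node (.node (.leaf [nat_lit 1,nat_lit 13,nat_lit 13,nat_lit 4,nat_lit 7,nat_lit 7,nat_lit 12,nat_lit 2,nat_lit 2,nat_lit 9,nat_lit 12,nat_lit 12,nat_lit 13,nat_lit 7,nat_lit 7,nat_lit 0,nat_lit 0,nat_lit 13,nat_lit 5,nat_lit 15,nat_lit 5,nat_lit 5,nat_lit 13,nat_lit 0,nat_lit 4,nat_lit 15,nat_lit 5,nat_lit 14,nat_lit 15,nat_lit 3,nat_lit 3,nat_lit 0,nat_lit 13,nat_lit 12,nat_lit 5,nat_lit 5,nat_lit 13,nat_lit 3,nat_lit 3,nat_lit 0,nat_lit 15,nat_lit 5])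
 (.leaf [nat_lit 1,nat_lit 8,nat_lit 13,nat_lit 12,nat_lit 6,nat_lit 6,nat_lit 12,nat_lit 3,nat_lit 5,nat_lit 4,nat_lit 4,nat_lit 7,nat_lit 7,nat_lit 3,nat_lit 10,nat_lit 11,nat_lit 2,nat_lit 13,nat_lit 2,nat_lit 2,nat_lit 13,nat_lit 0,nat_lit 0,nat_lit 15,nat_lit 2,nat_lit 5,nat_lit 12,nat_lit 1,nat_lit 15,nat_lit 8,nat_lit 7,nat_lit 7,nat_lit 15,nat_lit 0,nat_lit 6,nat_lit 13,nat_lit 8,nat_lit 8,nat_lit 3,nat_lit 3,nat_lit 6,nat_lit 7,nat_lit 7,nat_lit 5,nat_lit 5,nat_lit 13,nat_lit 0,nat_lit 0,nat_lit 3,nat_lit 15,nat_lit 5]))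
 (.node (.leaf [nat_lit 10,nat_lit 1,nat_lit 11,nat_lit 14,nat_lit 5,nat_lit 5,nat_lit 12,nat_lit 1,nat_lit 7,nat_lit 12,nat_lit 8,nat_lit 8,nat_lit 3,nat_lit 14,nat_lit 3,nat_lit 3,nat_lit 0,nat_lit 0,nat_lit 14,nat_lit 13,nat_lit 1,nat_lit 12,nat_lit 12,nat_lit 0,nat_lit 14,nat_lit 14,nat_lit 7,nat_lit 7,nat_lit 14,nat_lit 8,nat_lit 14,nat_lit 8,nat_lit 5,nat_lit 5,nat_lit 13,nat_lit 0,nat_lit 0,nat_lit 3,nat_lit 15,nat_lit 5])
 (.leaf [nat_lit 9,nat_lit 7,nat_lit 13,nat_lit 2,nat_lit 8,nat_lit 8,nat_lit 13,nat_lit 6,nat_lit 6,nat_lit 0,nat_lit 11,nat_lit 13,nat_lit 4,nat_lit 4,nat_lit 14,nat_lit 4,nat_lit 15,nat_lit 1,nat_lit 1,nat_lit 8,nat_lit 8,nat_lit 11,nat_lit 5,nat_lit 14,nat_lit 3,nat_lit 3,nat_lit 15,nat_lit 8,nat_lit 8,nat_lit 15,nat_lit 5,nat_lit 5,nat_lit 13,nat_lit 8,nat_lit 8,nat_lit 15,nat_lit 3,nat_lit 4,nat_lit 8,nat_lit 8,nat_lit 3,nat_lit 3,nat_lit 6,nat_lit 7,nat_lit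 7,nat_lit 0,nat_lit 13,nat_lit 8,nat_lit 4,nat_lit 15,nat_lit 7,nat_lit 4,nat_lit 4,nat_lit 15,nat_lit 3,nat_lit 3,nat_lit 15,nat_lit 6,nat_lit 4,nat_lit 6,nat_lit 8,nat_lit 8,nat_lit 3,nat_lit 3,nat_lit 6,nat_lit 7,nat_lit 7]))))
 (.node (.node (.node (.leaf [nat_lit 5,nat_lit 0,nat_lit 8,nat_lit 11,nat_lit 5,nat_lit 5,nat_lit 14,nat_lit 4,nat_lit 10,nat_lit 8,nat_lit 14,nat_lit 4,nat_lit 4,nat_lit 13,nat_lit 12,nat_lit 5,nat_lit 2,nat_lit 14,nat_lit 0,nat_lit 4,nat_lit 5,nat_lit 12,nat_lit 13,nat_lit 0,nat_lit 3,nat_lit 4,nat_lit 15,nat_lit 0,nat_lit 0,nat_lit 15,nat_lit 15,nat_lit 0,nat_lit 13,nat_lit 12,nat_lit 3,nat_lit 3,nat_lit 14,nat_lit 15,nat_lit 8,nat_lit 8,nat_lit 13,nat_lit 2,nat_lit 2,nat_lit 10,nat_lit 10,nat_lit 11,nat_lit 8,nat_lit 8,nat_lit 3,nat_lit 3,nat_lit 6,nat_lit 7,nat_lit 7,nat_lit 5,nat_lit 5,nat_lit 13,nat_lit 3,nat_lit 3,nat_lit 0,nat_lit 15,nat_lit 5])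
 (.leaf [nat_lit 10,nat_lit 12,nat_lit 5,nat_lit 14,nat_lit 15,nat_lit 6,nat_lit 5,nat_lit 14,nat_lit 13,nat_lit 4,nat_lit 15,nat_lit 7,nat_lit 7,nat_lit 13,nat_lit 3,nat_lit 3,nat_lit 15,nat_lit 3,nat_lit 3,nat_lit 0,nat_lit 15,nat_lit 0,nat_lit 15,nat_lit 8,nat_lit 8,nat_lit 3,nat_lit 3,nat_lit 6,nat_lit 7,nat_lit 7,nat_lit 5,nat_lit 5,nat_lit 13,nat_lit 3,nat_lit 3,nat_lit 0,nat_lit 15,nat_lit 5]))
 (.node (.leaf [nat_lit 11,nat_lit 13,nat_lit 5,nat_lit 12,nat_lit 0,nat_lit 15,nat_lit 9,nat_lit 5,nat_lit 5,nat_lit 14,nat_lit 0,nat_lit 0,nat_lit 7,nat_lit 3,nat_lit 3,nat_lit 5,nat_lit 8,nat_lit 12,nat_lit 5,nat_lit 13,nat_lit 3,nat_lit 5,nat_lit 13,nat_lit 3,nat_lit 5,nat_lit 5,nat_lit 15,nat_lit 7,nat_lit 7,nat_lit 3,nat_lit 3,nat_lit 6,nat_lit 13,nat_lit 13,nat_lit 0,nat_lit 0,nat_lit 3,nat_lit 15,nat_lit 5,nat_lit 6,nat_lit 6,nat_lit 3,nat_lit 7,nat_lit 8,nat_lit 5,nat_lit 5,nat_lit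 13,nat_lit 0,nat_lit 0,nat_lit 3,nat_lit 15,nat_lit 5])
 (.leaf [nat_lit 9,nat_lit 14,nat_lit 5,nat_lit 5,nat_lit 15,nat_lit 2,nat_lit 12,nat_lit 10,nat_lit 6,nat_lit 9,nat_lit 11,nat_lit 5,nat_lit 15,nat_lit 7,nat_lit 6,nat_lit 8,nat_lit 15,nat_lit 8,nat_lit 15,nat_lit 4,nat_lit 4,nat_lit 2,nat_lit 5,nat_lit 5,nat_lit 7,nat_lit 7,nat_lit 14,nat_lit 2,nat_lit 2,nat_lit 0,nat_lit 4,nat_lit 5,nat_lit 13,nat_lit 8,nat_lit 8,nat_lit 3,nat_lit 3,nat_lit 6,nat_lit 7,nat_lit 7])))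
 (.node (.node (.leaf [nat_lit 8,nat_lit 4,nat_lit 12,nat_lit 0,nat_lit 8,nat_lit 12,nat_lit 0,nat_lit 2,nat_lit 13,nat_lit 13,nat_lit 7,nat_lit 13,nat_lit 4,nat_lit 4,nat_lit 9,nat_lit 9,nat_lit 9,nat_lit 9,nat_lit 9,nat_lit 9,nat_lit 9,nat_lit 4,nat_lit 14,nat_lit 10,nat_lit 14,nat_lit 15,nat_lit 5,nat_lit 5,nat_lit 6,nat_lit 13,nat_lit 12,nat_lit 7,nat_lit 15,nat_lit 6,nat_lit 13,nat_lit 7,nat_lit 13,nat_lit 6,nat_lit 6,nat_lit 4,nat_lit 4,nat_lit 7,nat_lit 15,nat_lit 2,nat_lit 2,nat_lit 12,nat_lit 4,nat_lit 4,nat_lit 14,nat_lit 2,nat_lit 12,nat_lit 13,nat_lit 0,nat_lit 0,nat_lit 1,nat_lit 15,nat_lit 14])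
 (.leaf [nat_lit 9,nat_lit 0,nat_lit 3,nat_lit 11,nat_lit 12,nat_lit 2,nat_lit 2,nat_lit 1,nat_lit 1,nat_lit 4,nat_lit 7,nat_lit 10,nat_lit 10,nat_lit 10,nat_lit 10,nat_lit 10,nat_lit 10,nat_lit 10,nat_lit 10,nat_lit 14,nat_lit 8,nat_lit 8,nat_lit 12,nat_lit 10,nat_lit 14,nat_lit 7,nat_lit 7,nat_lit 0,nat_lit 12,nat_lit 13,nat_lit 6,nat_lit 6,nat_lit 4,nat_lit 4,nat_lit 7,nat_lit 15,nat_lit 2,nat_lit 2,nat_lit 12,nat_lit 4,nat_lit 4,nat_lit 14,nat_lit 2,nat_lit 12,nat_lit 13,nat_lit 0,nat_lit 0,nat_lit 1,nat_lit 15,nat_lit 14]))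
 (.leaf [nat_lit 0,nat_lit 10,nat_lit 6,nat_lit 7,nat_lit 7,nat_lit 15,nat_lit 9,nat_lit 5,nat_lit 4,nat_lit 5,nat_lit 10,nat_lit 5,nat_lit 7,nat_lit 7,nat_lit 0,nat_lit 13,nat_lit 7,nat_lit 3,nat_lit 5,nat_lit 5,nat_lit 13,nat_lit 0,nat_lit 4,nat_lit 0,nat_lit 0,nat_lit 3,nat_lit 15,nat_lit 5,nat_lit 8,nat_lit 8,nat_lit 3,nat_lit 3,nat_lit 6,nat_lit 7,nat_lit 7,nat_lit 5,nat_lit 5,nat_lit 13,nat_lit 3,nat_lit 3,nat_lit 0,nat_lit 15,nat_lit 5])))))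
 (.node (.node (.node (.node (.node (.leaf [nat_lit 6,nat_lit 4,nat_lit 6,nat_lit 6,nat_lit 12,nat_lit 7,nat_lit 7,nat_lit 2,nat_lit 2,nat_lit 4,nat_lit 14,nat_lit 7,nat_lit 7,nat_lit 14,nat_lit 4,nat_lit 4,nat_lit 14,nat_lit 6,nat_lit 12,nat_lit 8,nat_lit 15,nat_lit 8,nat_lit 8,nat_lit 0,nat_lit 0,nat_lit 13,nat_lit 13,nat_lit 0,nat_lit 0,nat_lit 3,nat_lit 15,nat_lit 5,nat_lit 6,nat_lit 6,nat_lit 3,nat_lit 7,nat_lit 8,nat_lit 6,nat_lit 6,nat_lit 13,nat_lit 13,nat_lit 3,nat_lit 3,nat_lit 5,nat_lit 13,nat_lit 4,nat_lit 6,nat_lit 15,nat_lit 8,nat_lit 8,nat_lit 13,nat_lit 5,nat_lit 5,nat_lit 15,nat_lit 8,nat_lit 8,nat_lit 0,nat_lit 0,nat_lit 13,nat_lit 5])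
 (.leaf [nat_lit 11,nat_lit 14,nat_lit 14,nat_lit 2,nat_lit 15,nat_lit 12,nat_lit 4,nat_lit 12,nat_lit 7,nat_lit 14,nat_lit 10,nat_lit 10,nat_lit 10,nat_lit 10,nat_lit 10,nat_lit 10,nat_lit 10,nat_lit 0,nat_lit 15,nat_lit 14,nat_lit 14,nat_lit 5,nat_lit 13,nat_lit 4,nat_lit 7,nat_lit 3,nat_lit 4,nat_lit 5,nat_lit 5,nat_lit 13,nat_lit 0,nat_lit 0,nat_lit 3,nat_lit 15,nat_lit 5,nat_lit 12,nat_lit 13,nat_lit 1,nat_lit 1,nat_lit 0,nat_lit 15,nat_lit 14,nat_lit 2,nat_lit 2,nat_lit 12,nat_lit 4,nat_lit 14,nat_lit 2,nat_lit 13,nat_lit 7,nat_lit 7,nat_lit 4,nat_lit 6,nat_lit 15]))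
 (.node (.leaf [nat_lit 1,nat_lit 15,nat_lit 14,nat_lit 7,nat_lit 14,nat_lit 13,nat_lit 2,nat_lit 5,nat_lit 11,nat_lit 2,nat_lit 2,nat_lit 13,nat_lit 1,nat_lit 15,nat_lit 2,nat_lit 13,nat_lit 3,nat_lit 3,nat_lit 0,nat_lit 4,nat_lit 15,nat_lit 6,nat_lit 6,nat_lit 13,nat_lit 7,nat_lit 7,nat_lit 0,nat_lit 0,nat_lit 15,nat_lit 6,nat_lit 5,nat_lit 5,nat_lit 15,nat_lit 0,nat_lit 8,nat_lit 13,nat_lit 5,nat_lit 15,nat_lit 8,nat_lit 13,nat_lit 6,nat_lit 6,nat_lit 4,nat_lit 4,nat_lit 15,nat_lit 5,nat_lit 5,nat_lit 3,nat_lit 15,nat_lit 15,nat_lit 6])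
 (.leaf [nat_lit 9,nat_lit 9,nat_lit 6,nat_lit 3,nat_lit 2,nat_lit 2,nat_lit 7,nat_lit 10,nat_lit 14,nat_lit 15,nat_lit 5,nat_lit 5,nat_lit 3,nat_lit 13,nat_lit 7,nat_lit 2,nat_lit 2,nat_lit 7,nat_lit 7,nat_lit 1,nat_lit 1,nat_lit 3,nat_lit 14,nat_lit 0,nat_lit 0,nat_lit 14,nat_lit 7,nat_lit 5,nat_lit 8,nat_lit 8,nat_lit 3,nat_lit 3,nat_lit 6,nat_lit 7,nat_lit 7,nat_lit 12,nat_lit 13,nat_lit 1,nat_lit 1,nat_lit 0,nat_lit 15,nat_lit 14,nat_lit 2,nat_lit 2,nat_lit 12,nat_lit 4,nat_lit 14,nat_lit 2,nat_lit 13,nat_lit 7,nat_lit 7,nat_lit 4,nat_lit 6,nat_lit 15])))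
 (.node (.node (.leaf [nat_lit 0,nat_lit 0,nat_lit 14,nat_lit 10,nat_lit 3,nat_lit 12,nat_lit 0,nat_lit 2,nat_lit 15,nat_lit 6,nat_lit 5,nat_lit 5,nat_lit 3,nat_lit 3,nat_lit 0,nat_lit 0,nat_lit 15,nat_lit 15,nat_lit 8,nat_lit 8,nat_lit 15,nat_lit 5,nat_lit 5,nat_lit 13,nat_lit 8,nat_lit 8,nat_lit 15,nat_lit 3,nat_lit 4,nat_lit 6,nat_lit 6,nat_lit 3,nat_lit 7,nat_lit 8])
 (.leaf [nat_lit 9,nat_lit 1,nat_lit 10,nat_lit 7,nat_lit 14,nat_lit 1,nat_lit 1,nat_lit 12,nat_lit 9,nat_lit 10,nat_lit 8,nat_lit 6,nat_lit 4,nat_lit 6]))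
 (.node (.leaf [nat_lit 10,nat_lit 2,nat_lit 5,nat_lit 13,nat_lit 6,nat_lit 6,nat_lit 0,nat_lit 0,nat_lit 8,nat_lit 12,nat_lit 4,nat_lit 14,nat_lit 8,nat_lit 8,nat_lit 5,nat_lit 5,nat_lit 3,nat_lit 7,nat_lit 7,nat_lit 0,nat_lit 12,nat_lit 3,nat_lit 3,nat_lit 15,nat_lit 7,nat_lit 7,nat_lit 5,nat_lit 5,nat_lit 13,nat_lit 3,nat_lit 7,nat_lit 7,nat_lit 0,nat_lit 0,nat_lit 15,nat_lit 5,nat_lit 4,nat_lit 5,nat_lit 5,nat_lit 13,nat_lit 3,nat_lit 3,nat_lit 0,nat_lit 15,nat_lit 5])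
 (.leaf [nat_lit 9,nat_lit 12,nat_lit 5,nat_lit 12,nat_lit 15,nat_lit 5,nat_lit 1,nat_lit 14,nat_lit 9,nat_lit 13,nat_lit 7,nat_lit 7,nat_lit 13,nat_lit 13,nat_lit 7,nat_lit 2,nat_lit 2,nat_lit 13,nat_lit 0,nat_lit 0,nat_lit 15,nat_lit 2,nat_lit 5,nat_lit 12,nat_lit 1,nat_lit 15,nat_lit 8,nat_lit 7,nat_lit 7,nat_lit 15,nat_lit 0,nat_lit 6,nat_lit 13,nat_lit 5,nat_lit 5,nat_lit 13,nat_lit 0,nat_lit 0,nat_lit 3,nat_lit 15,nat_lit 5,nat_lit 4,nat_lit 6,nat_lit 6,nat_lit 8,nat_lit 4,nat_lit 4,nat_lit 5,nat_lit 5,nat_lit 1,nat_lit 1,nat_lit 14,nat_lit 0,nat_lit 0,nat_lit 8,nat_lit 12,nat_lit 1,nat_lit 5,nat_lit 6]))))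
 (.node (.node (.node (.leaf [nat_lit 3,nat_lit 10,nat_lit 1,nat_lit 15,nat_lit 12,nat_lit 0,nat_lit 0,nat_lit 4,nat_lit 15,nat_lit 2,nat_lit 5,nat_lit 14,nat_lit 10,nat_lit 0,nat_lit 0,nat_lit 15,nat_lit 15,nat_lit 0,nat_lit 13,nat_lit 6,nat_lit 6,nat_lit 3,nat_lit 3,nat_lit 0,nat_lit 7,nat_lit 15,nat_lit 15,nat_lit 7,nat_lit 7,nat_lit 4,nat_lit 4,nat_lit 3,nat_lit 13,nat_lit 5,nat_lit 5,nat_lit 15,nat_lit 3,nat_lit 3,nat_lit 5,nat_lit 13,nat_lit 5,nat_lit 13,nat_lit 6,nat_lit 7,nat_lit 7,nat_lit 15,nat_lit 14,nat_lit 15,nat_lit 3,nat_lit 3,nat_lit 0,nat_lit 13,nat_lit 12,nat_lit 13,nat_lit 7,nat_lit 6,nat_lit 6,nat_lit 15])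
 (.leaf [nat_lit 10,nat_lit 2,nat_lit 2,nat_lit 6,nat_lit 15,nat_lit 15,nat_lit 7,nat_lit 7,nat_lit 3,nat_lit 15,nat_lit 0,nat_lit 0,nat_lit 8,nat_lit 8,nat_lit 15,nat_lit 15,nat_lit 8,nat_lit 13,nat_lit 6,nat_lit 6,nat_lit 4,nat_lit 4,nat_lit 15,nat_lit 5,nat_lit 5,nat_lit 3,nat_lit 15,nat_lit 15,nat_lit 6,nat_lit 12,nat_lit 13,nat_lit 1,nat_lit 1,nat_lit 0,nat_lit 15,nat_lit 14,nat_lit 2,nat_lit 2,nat_lit 12,nat_lit 4,nat_lit 14,nat_lit 2,nat_lit 13,nat_lit 7,nat_lit 7,nat_lit 4,nat_lit 6,nat_lit 15]))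
 (.node (.leaf [nat_lit 9,nat_lit 9,nat_lit 3,nat_lit 6,nat_lit 8,nat_lit 1,nat_lit 13,nat_lit 13,nat_lit 14,nat_lit 6,nat_lit 6,nat_lit 0,nat_lit 0,nat_lit 5,nat_lit 0,nat_lit 0,nat_lit 7,nat_lit 12,nat_lit 5,nat_lit 5,nat_lit 13,nat_lit 0,nat_lit 4,nat_lit 0,nat_lit 0,nat_lit 3,nat_lit 15,nat_lit 5,nat_lit 6,nat_lit 6,nat_lit 3,nat_lit 7,nat_lit 8,nat_lit 6,nat_lit 6,nat_lit 13,nat_lit 13,nat_lit 3,nat_lit 3,nat_lit 5,nat_lit 13,nat_lit 4,nat_lit 6,nat_lit 15,nat_lit 8,nat_lit 8,nat_lit 13,nat_lit 5,nat_lit 5,nat_lit 15,nat_lit 8,nat_lit 8,nat_lit 0,nat_lit 0,nat_lit 13,nat_lit 5])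
 (.leaf [nat_lit 9,nat_lit 7,nat_lit 5,nat_lit 12,nat_lit 7,nat_lit 7,nat_lit 1,nat_lit 1,nat_lit 12,nat_lit 6,nat_lit 9,nat_lit 13,nat_lit 7,nat_lit 7,nat_lit 4,nat_lit 6,nat_lit 15,nat_lit 3,nat_lit 3,nat_lit 13,nat_lit 6,nat_lit 3,nat_lit 3,nat_lit 15,nat_lit 0,nat_lit 13,nat_lit 3,nat_lit 15,nat_lit 3,nat_lit 3,nat_lit 7,nat_lit 7,nat_lit 2,nat_lit 12,nat_lit 2,nat_lit 2,nat_lit 7,nat_lit 13,nat_lit 7,nat_lit 6,nat_lit 6,nat_lit 4,nat_lit 4,nat_lit 6,nat_lit 6,nat_lit 13,nat_lit 3,nat_lit 13,nat_lit 4,nat_lit 7,nat_lit 7,nat_lit 13,nat_lit 4,nat_lit 4,nat_lit 8,nat_lit 8,nat_lit 15,nat_lit 0,nat_lit 0])))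
 (.node (.node (.leaf [nat_lit 10,nat_lit 5,nat_lit 14,nat_lit 8,nat_lit 3,nat_lit 2,nat_lit 2,nat_lit 7,nat_lit 10,nat_lit 14,nat_lit 13,nat_lit 7,nat_lit 7,nat_lit 4,nat_lit 6,nat_lit 15,nat_lit 6,nat_lit 6,nat_lit 3,nat_lit 7,nat_lit 3,nat_lit 3,nat_lit 6,nat_lit 7,nat_lit 7,nat_lit 5,nat_lit 5,nat_lit 13,nat_lit 0,nat_lit 0,nat_lit 3,nat_lit 15,nat_lit 5,nat_lit 6,nat_lit 6,nat_lit 3,nat_lit 7,nat_lit 8])
 (.leaf [nat_lit 9,nat_lit 12,nat_lit 5,nat_lit 5,nat_lit 3,nat_lit 12,nat_lit 0,nat_lit 2,nat_lit 15,nat_lit 6,nat_lit 5,nat_lit 15,nat_lit 0,nat_lit 5,nat_lit 6,nat_lit 4,nat_lit 15,nat_lit 7,nat_lit 7,nat_lit 14,nat_lit 15,nat_lit 0,nat_lit 0,nat_lit 13,nat_lit 12,nat_lit 7,nat_lit 7,nat_lit 12,nat_lit 1,nat_lit 1,nat_lit 2,nat_lit 14,nat_lit 15,nat_lit 10,nat_lit 5,nat_lit 12,nat_lit 13,nat_lit 1,nat_lit 1,nat_lit 0,nat_lit 15,nat_lit 14,nat_lit 2,nat_lit 2,nat_lit 12,nat_lit 4,nat_lit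 14,nat_lit 2,nat_lit 13,nat_lit 7,nat_lit 7,nat_lit 4,nat_lit 6,nat_lit 15]))
 (.leaf [nat_lit 1,nat_lit 9,nat_lit 2,nat_lit 6,nat_lit 14,nat_lit 1,nat_lit 1,nat_lit 12,nat_lit 9,nat_lit 10,nat_lit 13,nat_lit 0,nat_lit 3,nat_lit 4,nat_lit 15,nat_lit 5,nat_lit 5,nat_lit 15,nat_lit 8,nat_lit 8,nat_lit 0,nat_lit 0,nat_lit 13,nat_lit 5,nat_lit 8,nat_lit 8,nat_lit 3,nat_lit 3,nat_lit 6,nat_lit 7,nat_lit 7,nat_lit 5,nat_lit 5,nat_lit 13,nat_lit 0,nat_lit 0,nat_lit 3,nat_lit 15,nat_lit 5,nat_lit 6,nat_lit 6,nat_lit 3,nat_lit 7,nat_lit 8,nat_lit 6,nat_lit 6,nat_lit 3,nat_lit 7,nat_lit 8]))))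
 (.node (.node (.node (.node (.leaf [nat_lit 11,nat_lit 0,nat_lit 1,nat_lit 9,nat_lit 13,nat_lit 11,nat_lit 11,nat_lit 4,nat_lit 10,nat_lit 4,nat_lit 2,nat_lit 15,nat_lit 8,nat_lit 8,nat_lit 5,nat_lit 5,nat_lit 13,nat_lit 13,nat_lit 13,nat_lit 6,nat_lit 7,nat_lit 7,nat_lit 15,nat_lit 3,nat_lit 3,nat_lit 0,nat_lit 6,nat_lit 5,nat_lit 13,nat_lit 7,nat_lit 15,nat_lit 14,nat_lit 2,nat_lit 2,nat_lit 0,nat_lit 9,nat_lit 9,nat_lit 5,nat_lit 12,nat_lit 1,nat_lit 15,nat_lit 3,nat_lit 3,nat_lit 6,nat_lit 7,nat_lit 7,nat_lit 5,nat_lit 5,nat_lit 13,nat_lit 3,nat_lit 3,nat_lit 0,nat_lit 15,nat_lit 5])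
 (.leaf [nat_lit 9,nat_lit 0,nat_lit 1,nat_lit 14,nat_lit 13,nat_lit 2,nat_lit 2,nat_lit 5,nat_lit 15,nat_lit 7,nat_lit 13,nat_lit 3,nat_lit 3,nat_lit 0,nat_lit 4,nat_lit 15,nat_lit 6,nat_lit 6,nat_lit 13,nat_lit 7,nat_lit 7,nat_lit 0,nat_lit 0,nat_lit 15,nat_lit 3,nat_lit 7,nat_lit 8,nat_lit 5,nat_lit 5,nat_lit 13,nat_lit 0,nat_lit 0,nat_lit 3,nat_lit 15,nat_lit 5]))
 (.node (.leaf [nat_lit 9,nat_lit 8,nat_lit 0,nat_lit 5,nat_lit 9,nat_lit 8,nat_lit 13,nat_lit 3,nat_lit 3,nat_lit 15,nat_lit 8,nat_lit 8,nat_lit 3,nat_lit 3,nat_lit 6,nat_lit 7,nat_lit 7,nat_lit 12,nat_lit 12,nat_lit 0,nat_lit 14,nat_lit 14,nat_lit 7,nat_lit 7,nat_lit 14,nat_lit 8,nat_lit 14,nat_lit 3,nat_lit 3,nat_lit 6,nat_lit 7,nat_lit 7,nat_lit 5,nat_lit 5,nat_lit 13,nat_lit 0,nat_lit 0,nat_lit 3,nat_lit 15,nat_lit 5,nat_lit 7,nat_lit 6,nat_lit 6,nat_lit 3,nat_lit 8,nat_lit 6,nat_lit 6,nat_lit 4,nat_lit 4,nat_lit 6,nat_lit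 6,nat_lit 13,nat_lit 3,nat_lit 13,nat_lit 4,nat_lit 7,nat_lit 7,nat_lit 13,nat_lit 4,nat_lit 4,nat_lit 8,nat_lit 8,nat_lit 15,nat_lit 0,nat_lit 0])
 (.leaf [nat_lit 9,nat_lit 10,nat_lit 3,nat_lit 0,nat_lit 13,nat_lit 12,nat_lit 10,nat_lit 15,nat_lit 7,nat_lit 7,nat_lit 15,nat_lit 4,nat_lit 4,nat_lit 3,nat_lit 3,nat_lit 15,nat_lit 3,nat_lit 8,nat_lit 15,nat_lit 8,nat_lit 15,nat_lit 4,nat_lit 4,nat_lit 2,nat_lit 5,nat_lit 5,nat_lit 7,nat_lit 7,nat_lit 14,nat_lit 2,nat_lit 2,nat_lit 0,nat_lit 4,nat_lit 5,nat_lit 13,nat_lit 8,nat_lit 8,nat_lit 3,nat_lit 3,nat_lit 6,nat_lit 7,nat_lit 7])))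
 (.node (.node (.leaf [nat_lit 3,nat_lit 2,nat_lit 9,nat_lit 9,nat_lit 1,nat_lit 1,nat_lit 14,nat_lit 2,nat_lit 2,nat_lit 8,nat_lit 12,nat_lit 1,nat_lit 13,nat_lit 7,nat_lit 6,nat_lit 6,nat_lit 15,nat_lit 2,nat_lit 2,nat_lit 13,nat_lit 1,nat_lit 15,nat_lit 2,nat_lit 8,nat_lit 8,nat_lit 15,nat_lit 3,nat_lit 3,nat_lit 0,nat_lit 4,nat_lit 13,nat_lit 8,nat_lit 8,nat_lit 6,nat_lit 4,nat_lit 6,nat_lit 8,nat_lit 8,nat_lit 3,nat_lit 3,nat_lit 6,nat_lit 7,nat_lit 7,nat_lit 5,nat_lit 5,nat_lit 13,nat_lit 0,nat_lit 0,nat_lit 3,nat_lit 15,nat_lit 5,nat_lit 6,nat_lit 6,nat_lit 3,nat_lit 7,nat_lit 8,nat_lit 6,nat_lit 6,nat_lit 3,nat_lit 7,nat_lit 8])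
 (.leaf [nat_lit 2,nat_lit 0,nat_lit 1,nat_lit 5,nat_lit 6,nat_lit 12,nat_lit 15,nat_lit 2,nat_lit 2,nat_lit 11,nat_lit 15,nat_lit 1,nat_lit 6,nat_lit 5,nat_lit 6,nat_lit 3,nat_lit 5,nat_lit 5,nat_lit 15,nat_lit 8,nat_lit 8,nat_lit 0,nat_lit 0,nat_lit 13,nat_lit 13,nat_lit 0,nat_lit 4,nat_lit 15,nat_lit 5,nat_lit 6,nat_lit 6,nat_lit 3,nat_lit 7,nat_lit 8,nat_lit 4,nat_lit 6,nat_lit 6,nat_lit 8,nat_lit 4,nat_lit 4,nat_lit 5,nat_lit 5,nat_lit 1,nat_lit 1,nat_lit 14,nat_lit 0,nat_lit 0,nat_lit 8,nat_lit 12,nat_lit 1,nat_lit 5,nat_lit 6]))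
 (.node (.leaf [nat_lit 3,nat_lit 7,nat_lit 9,nat_lit 0,nat_lit 4,nat_lit 10,nat_lit 14,nat_lit 4,nat_lit 4,nat_lit 13,nat_lit 12,nat_lit 5,nat_lit 2,nat_lit 14,nat_lit 0,nat_lit 4,nat_lit 5,nat_lit 12,nat_lit 8,nat_lit 15,nat_lit 3,nat_lit 4,nat_lit 13,nat_lit 7,nat_lit 7,nat_lit 15,nat_lit 4,nat_lit 4,nat_lit 3,nat_lit 3,nat_lit 4,nat_lit 5,nat_lit 13,nat_lit 8,nat_lit 8,nat_lit 3,nat_lit 3,nat_lit 6,nat_lit 7,nat_lit 7])
 (.leaf [nat_lit 10,nat_lit 12,nat_lit 4,nat_lit 4,nat_lit 13,nat_lit 12,nat_lit 3,nat_lit 14,nat_lit 15,nat_lit 4,nat_lit 4,nat_lit 14,nat_lit 14,nat_lit 4,nat_lit 2,nat_lit 2,nat_lit 13,nat_lit 8,nat_lit 15,nat_lit 2,nat_lit 13,nat_lit 3,nat_lit 3,nat_lit 15,nat_lit 3,nat_lit 3,nat_lit 0,nat_lit 15,nat_lit 0,nat_lit 15,nat_lit 8,nat_lit 8,nat_lit 3,nat_lit 3,nat_lit 6,nat_lit 7,nat_lit 7,nat_lit 5,nat_lit 5,nat_lit 13,nat_lit 0,nat_lit 0,nat_lit 3,nat_lit 15,nat_lit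 5,nat_lit 6,nat_lit 6,nat_lit 3,nat_lit 7,nat_lit 8]))))
 (.node (.node (.node (.leaf [nat_lit 1,nat_lit 13,nat_lit 7,nat_lit 5,nat_lit 5,nat_lit 14,nat_lit 0,nat_lit 0,nat_lit 7,nat_lit 12,nat_lit 5,nat_lit 12,nat_lit 1,nat_lit 10,nat_lit 10,nat_lit 8,nat_lit 8,nat_lit 12,nat_lit 1,nat_lit 2,nat_lit 14,nat_lit 1,nat_lit 1,nat_lit 15,nat_lit 12,nat_lit 0,nat_lit 3,nat_lit 12,nat_lit 12,nat_lit 0,nat_lit 14,nat_lit 14,nat_lit 0,nat_lit 0,nat_lit 14,nat_lit 3,nat_lit 13,nat_lit 1,nat_lit 6,nat_lit 6,nat_lit 3,nat_lit 7,nat_lit 8])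
 (.leaf [nat_lit 2,nat_lit 2,nat_lit 9,nat_lit 5,nat_lit 8,nat_lit 8,nat_lit 9,nat_lit 9,nat_lit 9,nat_lit 9,nat_lit 9,nat_lit 9,nat_lit 9,nat_lit 11,nat_lit 10,nat_lit 9,nat_lit 13,nat_lit 7,nat_lit 7,nat_lit 0,nat_lit 0,nat_lit 13,nat_lit 5,nat_lit 15,nat_lit 4,nat_lit 7,nat_lit 3,nat_lit 4,nat_lit 5,nat_lit 5,nat_lit 13,nat_lit 3,nat_lit 3,nat_lit 0,nat_lit 15,nat_lit 5,nat_lit 8,nat_lit 8,nat_lit 3,nat_lit 3,nat_lit 6,nat_lit 7,nat_lit 7,nat_lit 5,nat_lit 5,nat_lit 13,nat_lit 3,nat_lit 3,nat_lit 0,nat_lit 15,nat_lit 5]))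
 (.node (.leaf [nat_lit 9,nat_lit 5,nat_lit 10,nat_lit 6,nat_lit 6,nat_lit 0,nat_lit 0,nat_lit 9,nat_lit 9,nat_lit 4,nat_lit 6,nat_lit 5,nat_lit 6,nat_lit 3,nat_lit 8,nat_lit 6,nat_lit 4,nat_lit 3,nat_lit 7,nat_lit 8,nat_lit 5,nat_lit 5,nat_lit 13,nat_lit 0,nat_lit 0,nat_lit 3,nat_lit 15,nat_lit 5,nat_lit 13,nat_lit 6,nat_lit 7,nat_lit 7,nat_lit 15,nat_lit 14,nat_lit 15,nat_lit 3,nat_lit 3,nat_lit 0,nat_lit 13,nat_lit 12,nat_lit 13,nat_lit 7,nat_lit 6,nat_lit 6,nat_lit 15,nat_lit 5,nat_lit 5,nat_lit 13,nat_lit 0,nat_lit 0,nat_lit 3,nat_lit 15,nat_lit 5])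
 (.leaf [nat_lit 10,nat_lit 8,nat_lit 12,nat_lit 0,nat_lit 0,nat_lit 14,nat_lit 15,nat_lit 14,nat_lit 13,nat_lit 4,nat_lit 1,nat_lit 14,nat_lit 15,nat_lit 14,nat_lit 13,nat_lit 5,nat_lit 15,nat_lit 7,nat_lit 6,nat_lit 8,nat_lit 14,nat_lit 15,nat_lit 0,nat_lit 0,nat_lit 3,nat_lit 13,nat_lit 12,nat_lit 13,nat_lit 13,nat_lit 6,nat_lit 6,nat_lit 13,nat_lit 13,nat_lit 4,nat_lit 4,nat_lit 5,nat_lit 5,nat_lit 13,nat_lit 0,nat_lit 7,nat_lit 5,nat_lit 5,nat_lit 13,nat_lit 0,nat_lit 0,nat_lit 3,nat_lit 15,nat_lit 5,nat_lit 8,nat_lit 8,nat_lit 3,nat_lit 3,nat_lit 6,nat_lit 7,nat_lit 7])))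
 (.node (.node (.leaf [nat_lit 8,nat_lit 6,nat_lit 12,nat_lit 0,nat_lit 3,nat_lit 3,nat_lit 15,nat_lit 2,nat_lit 2,nat_lit 8,nat_lit 14,nat_lit 7,nat_lit 6,nat_lit 6,nat_lit 4,nat_lit 4,nat_lit 15,nat_lit 5,nat_lit 5,nat_lit 0,nat_lit 0,nat_lit 15,nat_lit 0,nat_lit 3,nat_lit 5,nat_lit 5,nat_lit 15,nat_lit 8,nat_lit 8,nat_lit 0,nat_lit 0,nat_lit 13,nat_lit 5,nat_lit 8,nat_lit 8,nat_lit 3,nat_lit 3,nat_lit 6,nat_lit 7,nat_lit 7,nat_lit 5,nat_lit 5,nat_lit 13,nat_lit 3,nat_lit 3,nat_lit 0,nat_lit 15,nat_lit 5,nat_lit 6,nat_lit 6,nat_lit 3,nat_lit 7,nat_lit 8])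
 (.leaf [nat_lit 12,nat_lit 2,nat_lit 11,nat_lit 4,nat_lit 7,nat_lit 5,nat_lit 12,nat_lit 9,nat_lit 15,nat_lit 5,nat_lit 5,nat_lit 3,nat_lit 15,nat_lit 7,nat_lit 15,nat_lit 5,nat_lit 5,nat_lit 0,nat_lit 0,nat_lit 13,nat_lit 6,nat_lit 5,nat_lit 6,nat_lit 6,nat_lit 3,nat_lit 7,nat_lit 3,nat_lit 3,nat_lit 6,nat_lit 7,nat_lit 7,nat_lit 5,nat_lit 5,nat_lit 13,nat_lit 3,nat_lit 3,nat_lit 0,nat_lit 15,nat_lit 5,nat_lit 6,nat_lit 6,nat_lit 3,nat_lit 7,nat_lit 8]))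
 (.leaf [nat_lit 11,nat_lit 6,nat_lit 5,nat_lit 12,nat_lit 12,nat_lit 6,nat_lit 1,nat_lit 13,nat_lit 13,nat_lit 4,nat_lit 7,nat_lit 13,nat_lit 14,nat_lit 13,nat_lit 0,nat_lit 0,nat_lit 14,nat_lit 15,nat_lit 12,nat_lit 8,nat_lit 6,nat_lit 4,nat_lit 15,nat_lit 3,nat_lit 15,nat_lit 6,nat_lit 6,nat_lit 14,nat_lit 1,nat_lit 12,nat_lit 15,nat_lit 7,nat_lit 13,nat_lit 10,nat_lit 6,nat_lit 5,nat_lit 6,nat_lit 6,nat_lit 3,nat_lit 7,nat_lit 8,nat_lit 13,nat_lit 6,nat_lit 6,nat_lit 4,nat_lit 4,nat_lit 7,nat_lit 15,nat_lit 2,nat_lit 2,nat_lit 12,nat_lit 4,nat_lit 4,nat_lit 14,nat_lit 2,nat_lit 12,nat_lit 13,nat_lit 0,nat_lit 0,nat_lit 1,nat_lit 15,nat_lit 14])))))))))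

theorem o8_c_l_0 : allRange (nat_lit 0) (nat_lit 100) (leafIn o8_T [nat_lit 0,nat_lit 3,nat_lit 1,nat_lit 2,nat_lit 4,nat_lit 5,nat_lit 6] (nat_lit 3) (nat_lit 12) (nat_lit 16) (nat_lit 13) o8_c_W o8_c_N0 o8_c_D) = true := by decide +kernel

theorem o8_c_l_1 : allRange (nat_lit 100) (nat_lit 100) (leafIn o8_T [nat_lit 0,nat_lit 3,nat_lit 1,nat_lit 2,nat_lit 4,nat_lit 5,nat_lit 6] (nat_lit 3) (nat_lit 12) (nat_lit 16) (nat_lit 13) o8_c_W o8_c_N0 o8_c_D) = true := by decide +kernel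

theorem o8_c_l_2 : allRange (nat_lit 200) (nat_lit 100) (leafIn o8_T [nat_lit 0,nat_lit 3,nat_lit 1,nat_lit 2,nat_lit 4,nat_lit 5,nat_lit 6] (nat_lit 3) (nat_lit 12) (nat_lit 16) (nat_lit 13) o8_c_W o8_c_N0 o8_c_D) = true := by decide +kernel

theorem o8_c_l_3 : allRange (nat_lit 300) (nat_lit 100) (leafIn o8_T [nat_lit 0,nat_lit 3,nat_lit 1,nat_lit 2,nat_lit 4,nat_lit 5,nat_lit 6] (nat_lit 3) (nat_lit 12) (nat_lit 16) (nat_lit 13) o8_c_W o8_c_N0 o8_c_D) = true := by decide +kernel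

theorem o8_c_l_4 : allRange (nat_lit 400) (nat_lit 81) (leafIn o8_T [nat_lit 0,nat_lit 3,nat_lit 1,nat_lit 2,nat_lit 4,nat_lit 5,nat_lit 6] (nat_lit 3) (nat_lit 12) (nat_lit 16) (nat_lit 13) o8_c_W o8_c_N0 o8_c_D) = true := by decide +kernel

theorem o8_c_l : ∀ i < 481, (leafIn o8_T [nat_lit 0,nat_lit 3,nat_lit 1,nat_lit 2,nat_lit 4,nat_lit 5,nat_lit 6] (nat_lit 3) (nat_lit 12) (nat_lit 16) (nat_lit 13) o8_c_W o8_c_N0 o8_c_D) i = true := range_append 81 (range_append 100 (range_append 100 (range_append 100 (allRange_zero o8_c_l_0) o8_c_l_1 (b := 200)) o8_c_l_2 (b := 300)) o8_c_l_3 (b := 400)) o8_c_l_4 (b := 481)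

theorem o8_c_c0 {G : Type*} [Group G] (M : Mod G) (h : LM (fun i => pts M.x (o8_P i)) 3240 o8_T (M.wl o8_g) 16 [nat_lit 0,nat_lit 3,nat_lit 1,nat_lit 2,nat_lit 4,nat_lit 5,nat_lit 6]) : Cls (M.wl o8_g) 3 12 (ConjIn (genLt (M.wl o8_g) 16) (fun t => pcG (M.wl o8_g) 3 12 0 (o8_c_W t)) 13) 0 o8_c_N0 481 :=
  cls_zero fun j hj => h.leaf (by decide) (o8_c_l j hj)

noncomputable def o8_c_A0 : ℕ → ℕ := fun i => Nat.land (Nat.shiftRight (nat_lit 0x2000000000000000040000000000000000800000000000000000000000000f0800000000000001e0000000000000003be00008000000000000000100000000000000002000000000000000000000000003bc0000000000000077400000000000000ee7bb3a000006a701dbf76740000097e03b60000000000000076fdd8f8000025f80ed7bb1f000006a701da000000000000003b5ee4e40000006c0767dc9c8000001b00ec800000000000001d9f6ea60000006c03b1edd4c0000006c076000000000000000ec000010000000000000000200000000000000004000000000003b7978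000000d80ebf6f2f0000003601d7000000000000003afdb8f00000006c075bb71e0000001b00eb000000000000001d6eda920000006c03abdb5240000006c075400000000000000eaf6c560000003601d4ed8ac0000003603a8000000000000007500000800000000000000010000000000000000200000000000000008000000000000000100000000000000002000000000000000000000000003a60000000000000074800000000000000e8f6986000013f001d0ed30c00001c7a03a000000000000000743b4be8000071e80e7f697d000013f001cf0000000000000039e00008000000000000000100000000000000002000000000000e9df60000000c039dd3bec0000000c073800000000000000e7000010000000000000000200000000000000004000000000000000100000000000000002000000000000000040000000000000000800000000000000010000000000000000200000000000000002000000000000000040000000000000000800000000000735480000000301cde6a900000000c039a000000000000007378ddc8000000300e671bb90000000301cc0000000000000039800004000000000000000080000000000000001000000000000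0000400000000000000008000000000000000100000000000000002000000000000000040000000000000000800000000000000008000000000000000100000000000000002000000000001c08180000000c072f81030000000300e5800000000000001cbddffa000000900395bbff400000090072800000000000000e56ef0a0000004801c9dde14000000480392000000000000007240000800000000000000010000000000000000200000000000000008000000000000000100000000000000002000000000000000040000000000000000800000000000000010000000000006eb50000017bb01c8dd6a000001a9803900000000000000072375a3800006a600e3eeb47000017bb01c70000000000000038e0000000000000071800000000000000e2800000000000001c4dd496000000480387ba92c00000120070c00000000000000e1ee9580000002401c2dd2b000000090038400000000000000708000080000000000000001000000000000000020000000000000000800000000000000010000000000000000200000000000000004000000000000000080000000000000001000000000000000000000000001c10000000000000038000000000000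0006ff2a438000017100df65487000005c401be0000000000000037c000000000000006f400000000000000de000000000000001bbca8a200000b8803759514400000b8806e800000000000000dd651780000002401b9ca2f0000000900372000000000000006e7274f8000002400dc64e9f0000002401b800000000000000370000000000000006dc00000000000000db000000000000001b500004000000000000000080000000000000001000000000000000020000000000000000400000000000000008000000000002eaaa800001e600da5d5550000079901b400000000000000368000000000000006cc00000000000000d9000000000000001b1baa3e00000f3203617547c00000f3006c000000000000000d85d1530000002d01afba2a60000007e035e000000000000006bee8300000001f80d75d0600000002d01ae0000000000000035d66d280000000c06b6cda50000000300d6800000000000001ad00004000000000000000080000000000000001000000000000000010000000000000000200000000000000004000000000002c4a08000088b00d6589410000088b01ac00000000000000359624e00000222c06aec49c0000088b00d5800000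000000001ab00000000000000354000000000000006a400000000000000d40000200000000000000004000000000000000080000000000000001000000000000000020000000000000000400000000000161958000000b4069ec32b0000001f80d3800000000000001a700002000000000000000040000000000000000800000000000584700000002d01a6b08e00000007e034c0000000000000069ac1be8000001f80d2d837d0000002d01a50000000000000034b60a28000000fc0692c1450000001680d2000000000000001a400002000000000000000040000000000000000800000000000000020000000000000000400000000000000008000000000002b3ff8000000300d1d67ff0000000301a300000000000000346000040000000000000000800000000000000010000000000000000200000000000000004000000000000000080000000000000001000000000000000020000000000000000400000000000000000000000000d1000000000000001a10000000000000034000004000000000000000080000000000000001000000000000a02f60000000c033f405ec0000000c067c00000000000000cf8000200000000000000004000000000000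000080000000000000001000000000000000020000000000000000400000000000139f680000000c067a73ed0000000300cf0000000000000019e0000200000000000000004000000000000000080000000000000001000000000000000020000000000000000400000000000000000000000000ce8000000000000019c000000000000003373537800005eec066a6a6f000006a600cd0000000000000019a9a9aa00001a9803333535400005eec066400000000000000cc80001000000000000000020000000000000000400000000000269778000001200cc4d2ef00000048019800000000000000330000080000000000000001000000000000000020000000000009a21200000048032f3442400000120065c00000000000000cbcd0160000004801969a02c00000048032c0000000000000065800010000000000000000200000000000000004000000000001338c000000120065667180000001200ca8000000000000019590dfe00000090032921bfc00000090065000000000000000ca0000000000000019300000000000000324000000000000006464220800002e200c848441000002e20190000000000000003212109800000b88063e4213000002e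200c78000000000000018f9029a00000048031d2053400000120063800000000000000c7453f3000006a7018d8a7e60000097e031a0000000000000063629ec0000025f80c6453d8000006a7018c000000000000003180000000000000062c00000000000000c5000000000000001898a3ae0000003603111475c000000d8062000000000000000c444ff100000036018789fe200000036030e0000000000000061c00008000000000000000100000000000000002000000000000000040000000000000000800000000000000010000000000000000000000000030c0000000000000061400000000000000c200001000000000000000020000000000000000400000000000000010000000000000000200000000000000004000000000000f37980000000c060de6f30000000300c180000000000000183777ba0000006c0304eef740000006c060800000000000000c1000020000000000000000400000000000000008000000000001dcfb8000001b00c0bb9f70000001b0181000000000000003020000000000000060000000000000000bf8000000000000017e7721a000027e002faee434000038f405f400000000000000bebb90400000e3d017c772080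00027e002f8000000000000005f0000080000000000000001000000000000000020000000000000000400000000000000008000000000000000100000000000076c560000003602f6ed8ac000000d805ec00000000000000bdbb5380000001b017a76a700000006c02f4000000000000005e800010000000000000000200000000000000004000000000000000080000000000000001000000000000000020000000000000000200000000000000004000000000000000080000000000039aa4000000060179735480000000602f2000000000000005e5c3d40000001f80bc387a80000002d0178000000000000002f0e104800000f3005ddc209000003cc80bb80000000000000177000000000000002ec000000000000005d400000000000000ba383dc000007990173707b80000079802e6000000000000005cdc1748000001680b9382e90000003f0172000000000000002e400004000000000000000080000000000000001000000000000000000000000002e2000000000000005c000000000000000b780001000000000000000020000000000000000400000000000000010000000000000000200000000000000004000000000000bb788000000fc05b9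76f10000001680b70000000000000016e5d9de0000007e02dabb3bc000000b405b400000000000000b6800010000000000000000200000000000000004000000000001758d8000088b00b62eb1b0000088b016c000000000000002d8bac480000222c05ad75890000088b00b58000000000000016b000000000000002d4000000000000005a400000000000000b400001000000000000000020000000000000000400000000000174918000001680b3ae9230000003f0167000000000000002ceba0c0000000b4059974180000001f80b3000000000000001660000400000000000000008000000000000000100000000000000001000000000000000020000000000000000400000000000166d28000000300b2acda5000000030165000000000000002ca000080000000000000001000000000000000020000000000005681a0000000602c8ad03400000018059000000000000000b200001000000000000000020000000000000000400000000000000010000000000000000200000000000000004000000000000a478400004bf8058d48f0800004bf00b180000000000000163523b0000012fc02c4a476000004bf8058800000000000000b1000000000000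00161000000000000002c00000000000000057d45950000000480af28b2a00000012015e000000000000002bca06b000000048057540d60000000480ae8000000000000015d48bbe0000001202b89177c00000048057000000000000000ae23d5400000012015b47aa80000001202b60000000000000056d1a6d8000079800ad234db000015d7015a000000000000002b40000000000000056400000000000000ac000000000000001574699200002bae02ac8d32400003cc0055800000000000000ab1f9ef0000001201553f3de0000001202aa00000000000000554f8bb000005cd00aa1f176000016e40154000000000000002a80000000000000054c00000000000000a9000000000000001513e2c800002dc802a07c59000002e68054000000000000000a81e8d900000009014f3d1b200000024029e0000000000000053ce2638000000480a71c4c700000012014e0000000000000029c6f0f0000000480534de1e0000000480a68000000000000014d3678600002bae02986cf0c00003cc0053000000000000000a61b3ba00000f30014b3677400002bae02960000000000000052c00000000000000a500000000000000149000000000000002905df900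0000048051cbbf20000000480a3800000000000001472e2a2000025fc028c5c544000025f8051800000000000000a3171480000097e01452e290000025fc028a0000000000000051400000000000000a2000000000000001430000000000000028459f04000000240504b3e08000000900a08000000000000014100000000000000280000000000000004fc000000000000009f12bfd000016e4013d257fa00001734027a000000000000004f495fa000005cd009e12bf4000016e4013c0000000000000027848da40000002404ec91b480000009009d8000000000000013b235bc00000024027446b780000002404e8000000000000009d00001000000000000000020000000000000000400000000000000008000000000000000100000000000000002000000000000000000000000004e4000000000000009c0000000000000013700004000000000000000080000000000000001000000000000000020000000000000000400000000000000008000000000000000000000000009b00000000000000135000000000000002680d0c80000001804cc1a19000000018099800000000000001330685e0000000c02640d0bc0000000c04c800000000000000990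342c00000006013106858000000060262000000000000004c41a1480000003009803429000000030130000000000000002600d0980000001804bc1a130000000180978000000000000012f068460000000c025c0d08c0000000c04b800000000000000970342000000006012d0684000000006025a000000000000004b41a0e8000000300960341d00000003012c000000000000002580d0680000001804ac1a0d0000000180958000000000000012b0682e0000000c02540d05c0000000c04a800000000000000950341400000006012906828000000060252000000000000004a41a0880000003009403411000000030128000000000000002500d03800000018049c1a0700000001809380000000000000127068160000000c024c0d02c0000000c04980000000000000093034080000000601250681000000006024a000000000000004941a0280000003009203405000000030124000000000000002480d00800000018048c1a0100000001809180000000000000123067fe0000000c02440cffc0000000c04880000000000000091033fc000000060121067f80000000602420000000000000048419fc800000030090033f9000000030120000000000000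002400cfd800000018047c19fb00000001808f8000000000000011f067e60000000c023c0cfcc0000000c0478000000000000008f033f000000006011d067e000000006023a0000000000000047419f680000003008e033ed00000003011c000000000000002380cfa800000018046c19f500000001808d8000000000000011b067ce0000000c02340cf9c0000000c0468000000000000008d033e4000000060119067c80000000602320000000000000046419f080000003008c033e1000000030118000000000000002300cf7800000018045c19ef00000001808b80000000000000117067b60000000c022c0cf6c0000000c0458000000000000008b033d8000000060115067b000000006022a0000000000000045419ea80000003008a033d5000000030114000000000000002280cf4800000018044c19e9000000018089800000000000001130679e0000000c02240cf3c0000000c04480000000000000089033cc000000060111067980000000602220000000000000044419e4800000030088033c9000000030110000000000000002200cf1800000018043c19e30000000180878000000000000010f067860000000c021c0cf0c0000000c0438000000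0000000087033c000000006010d0678000000006021a0000000000000043419de800000030086033bd00000003010c000000000000002180cee800000018042c19dd0000000180858000000000000010b0676e0000000c02140cedc0000000c04280000000000000085033b4000000060109067680000000602120000000000000042419d8800000030084033b1000000030108000000000000002100ceb800000018041c19d700000001808380000000000000107067560000000c020c0ceac0000000c04180000000000000083033a80000000601050675000000006020a0000000000000041419d2800000030082033a5000000030104000000000000002080ce8800000018040c19d1000000018081800000000000001030673e0000000c02040ce7c0000000c040800000000000000810339c000000060101067380000000602020000000000000040419cc80000003008003399000000030100000000000000002000ce580000001803fc19cb00000001807f800000000000000ff067260000000c01fc0ce4c0000000c03f8000000000000007f033900000000600fd067200000000601fa000000000000003f419c680000003007e0338d0000000300fc0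00000000000001f80ce280000001803ec19c500000001807d800000000000000fb0670e0000000c01f40ce1c0000000c03e8000000000000007d033840000000600f9067080000000601f2000000000000003e419c080000003007c033810000000300f8000000000000001f00cdf80000001803dc19bf00000001807b800000000000000f7066f60000000c01ec0cdec0000000c03d8000000000000007b033780000000600f5066f00000000601ea000000000000003d419ba80000003007a033750000000300f4000000000000001e80cdc80000001803cc19b9000000018079800000000000000f3066de0000000c01e40cdbc0000000c03c800000000000000790336c0000000600f1066d80000000601e2000000000000003c419b4800000030078033690000000300f0000000000000001e00cd980000001803bc19b3000000018077800000000000000ef066c60000000c01dc0cd8c0000000c03b80000000000000077033600000000600ed066c00000000601da000000000000003b419ae8000000300760335d0000000300ec000000000000001d80cd680000001803ac19ad000000018075800000000000000eb066ae0000000c01d40cd5c0000000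c03a80000000000000075033540000000600e9066a80000000601d2000000000000003a419a8800000030074033510000000300e8000000000000001d00cd3800000018039c19a7000000018073800000000000000e7066960000000c01cc0cd2c0000000c03980000000000000073033480000000600e5066900000000601ca0000000000000039419a2800000030072033450000000300e4000000000000001c80cd0800000018038c19a1000000018071800000000000000e3035220000000601c406a44000000180388000000000000007101a8e0000000300e10351c0000000c01c2000000000000003840d4580000001807001a8b0000000600e0000000000000001c006a200000000c037c0d4400000003006f800000000000000df0350a0000000601bc06a14000000180378000000000000006f01a820000000300dd035040000000c01ba000000000000003740d3f80000001806e01a7f0000000600dc000000000000001b8069f00000000c036c0d3e00000003006d800000000000000db034f20000000601b4069e4000000180368000000000000006d01a760000000300d9034ec0000000c01b2000000000000003640d3980000001806c01a7300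00000600d8000000000000001b0069c00000000c035c0d3800000003006b800000000000000d7034da0000000601ac069b4000000180358000000000000006b01a6a0000000300d5034d40000000c01aa000000000000003540d3380000001806a01a670000000600d4000000000000001a8069900000000c034c0d32000000030069800000000000000d3034c20000000601a406984000000180348000000000000006901a5e0000000300d1034bc0000000c01a2000000000000003440d2d80000001806801a5b0000000600d0000000000000001a0069600000000c033c0d2c000000030067800000000000000cf034aa00000006019c06954000000180338000000000000006701a520000000300cd034a40000000c019a000000000000003340d2780000001806601a4f0000000600cc00000000000000198069300000000c032c0d26000000030065800000000000000cb0349200000006019406924000000180328000000000000006501a460000000300c90348c0000000c0192000000000000003240d2180000001806401a430000000600c800000000000000190069000000000c031c0d20000000030063800000000000000c70347a00000006018c0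68f4000000180318000000000000006301a3a0000000300c5034740000000c018a000000000000003140d1b80000001806201a370000000600c400000000000000188068d00000000c030c0d1a000000030061800000000000000c303462000000060184068c4000000180308000000000000006101a2e0000000300c10345c0000000c0182000000000000003040d1580000001806001a2b0000000600c000000000000000180068a00000000c02fc0d1400000003005f800000000000000bf0344a00000006017c068940000001802f8000000000000005f01a220000000300bd034440000000c017a000000000000002f40d0f80000001805e01a1f0000000600bc00000000000000178068700000000c02ec0d0e00000003005d800000000000000bb03432000000060174068640000001802e8000000000000005d01a160000000300b90342c0000000c0172000000000000002e40d0980000001805c01a130000000600b800000000000000170068400000000c02dc0d0800000003005b800000000000000b70341a00000006016c068340000001802d8000000000000005b01a0a0000000300b5034140000000c016a000000000000002d40d0380000001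805a01a070000000600b400000000000000168068100000000c02cc0d02000000030059800000000000000b303402000000060164068040000001802c80000000000000059019fe0000000300b1033fc0000000c0162000000000000002c40cfd800000018058019fb0000000600b000000000000000160067e00000000c02bc0cfc000000030057800000000000000af033ea00000006015c067d40000001802b80000000000000057019f20000000300ad033e40000000c015a000000000000002b40cf7800000018056019ef0000000600ac00000000000000158067b00000000c02ac0cf6000000030055800000000000000ab033d2000000060154067a40000001802a80000000000000055019e60000000300a9033cc0000000c0152000000000000002a40cf1800000018054019e30000000600a800000000000000150067800000000c029c0cf0000000030053800000000000000a7033ba00000006014c067740000001802980000000000000053019da0000000300a5033b40000000c014a000000000000002940ceb800000018052019d70000000600a400000000000000148067500000000c028c0cea000000030051800000000000000a3033a200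0000060144067440000001802880000000000000051019ce0000000300a10339c0000000c0142000000000000002840ce5800000018050019cb0000000600a000000000000000140067200000000c027c0ce400000003004f8000000000000009f0338a00000006013c06714000000180278000000000000004f019c200000003009d033840000000c013a000000000000002740cdf80000001804e019bf00000006009c00000000000000138066f00000000c026c0cde00000003004d8000000000000009b03372000000060134066e4000000180268000000000000004d019b60000000300990336c0000000c0132000000000000002640cd980000001804c019b300000006009800000000000000130066c00000000c025c0cd800000003004b800000000000000970335a00000006012c066b4000000180258000000000000004b019aa000000030095033540000000c012a000000000000002540cd380000001804a019a700000006009400000000000000128066900000000c024c0cd20000000300498000000000000009303342000000060124066840000001802480000000000000049018b400000009009103168000000240122000000000000002440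c58800000048048018b100000012009000000000000000120062b800000024023c0c570000000900478000000000000008f02f9a00000012011c05f340000004802380000000000000047017c400000009008d02f8800000024011a000000000000002340be0800000048046017c100000012008c0000000000000011805ef800000024022c0bdf0000000900458000000000000008b02f7600000012011405eec0000004802280000000000000045016fe00000009008902dfc000000240112000000000000002240b74800000048044016e90000001200880000000000000011005b9800000024021c0b730000000900438000000000000008702dc600000012010c05b8c0000004802180000000000000043016c800000009008502d9000000024010a000000000000002140b058000000480420160b00000012008400000000000000108057c000000024020c0af80000000900418000000000000008302bb60000001201040576c0000004802080000000000000041015d800000009008102bb0000000240102000000000000002040aea800000048040015d500000012008000000000000000100053a00000002401fc0a7400000009003f8000000000000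007f029ca0000001200fc053940000004801f8000000000000003f014e200000009007d029c40000002400fa000000000000001f40a0080000004803e0140100000012007c000000000000000f804fe00000002401ec09fc00000009003d8000000000000007b027ea0000001200f404fd40000004801e8000000000000003d013f2000000090079027e40000002400f2000000000000001e409f780000004803c013ef000000120078000000000000000f004cc80000002401dc099900000009003b800000000000000770262e0000001200ec04c5c0000004801d8000000000000003b01302000000090075026040000002400ea000000000000001d4097f80000004803a012ff000000120074000000000000000e804bf00000002401cc097e000000090039800000000000000730241e0000001200e40483c0000004801c800000000000000390120c000000090071024180000002400e2000000000000001c4090480000004803801209000000120070000000000000000e0044a00000002401bc08940000000900378000000000000006f0223e0000001200dc0447c0000004801b800000000000000370111c00000009006d022380000002400da0000000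00000001b4088c8000000480360111900000012006c000000000000000d8044580000002401ac088b0000000900358000000000000006b020520000002400d4040a40000002401a80000000000000035010260000001200690204c0000001200d2000000000000001a4081180000009003401023000000090068000000000000000d003d9800000048019c07b30000000480338000000000000006701e960000002400cc03d2c000000240198000000000000003300f3600000012006501e6c0000001200ca00000000000000194079980000009003200f33000000090064000000000000000c803cc000000048018c07980000000480318000000000000006301c9e0000002400c40393c000000240188000000000000003100e4600000012006101c8c0000001200c200000000000000184072180000009003000e43000000090060000000000000000c00390000000048017c072000000004802f8000000000000005f01c7a0000002400bc038f4000000240178000000000000002f00d5c00000012005d01ab80000001200ba0000000000000017406a980000009002e00d5300000009005c000000000000000b80354000000048016c06a800000004802d80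00000000000005b01a9a0000002400b403534000000240168000000000000002d00d4a00000012005901a940000001200b200000000000000164062e80000009002c00c5d000000090058000000000000000b00316800000048015c062d00000004802b80000000000000057018ae0000002400ac0315c000000240158000000000000002b00ba0000000120055017400000001200aa0000000000000015405ce80000009002a00b9d000000090054000000000000000a802e6800000048014c05cd00000004802980000000000000053016fe0000002400a402dfc000000240148000000000000002900b64000000120051016c80000001200a200000000000000144053b80000009002800a77000000090050000000000000000a0029d000000048013c053a0000000480278000000000000004f014e200000024009c029c40000002401380000000000000027009b400000012004d0136800000012009a0000000000000013404cc8000000900260099900000009004c000000000000000980261000000048012c04c20000000480258000000000000004b013020000002400940260400000024012800000000000000250097e000000120049012fc00000012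009200000000000000124044e8000000900240089d000000090048000000000000000900225000000048011c044a000000048023800000000000000470112200000024008c0224400000024011800000000000000230088e0000001200450111c00000012008a0000000000000011404458000000900220088b0000000900440000000000000008801ea80000006c010c03d50000001b00218000000000000004300f4200000036008401e84000000d8010800000000000000210079e0000001b004100f3c0000006c00820000000000000010403cd8000000d80200079b0000003600400000000000000008001e600000006c00fc03cc0000001b001f8000000000000003f00d6e00000036007c01adc000000d800f8000000000000001f006ae0000001b003d00d5c0000006c007a000000000000000f403558000000d801e006ab00000036003c0000000000000007801aa00000006c00ec03540000001b001d8000000000000003b00d4a00000036007401a94000000d800e8000000000000001d005ca0000001b003900b940000006c0072000000000000000e402e38000000d801c005c700000036003800000000000000070017100000006c00dc02e2000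0001b001b8000000000000003700b7600000036006c016ec000000d800d8000000000000001b005b20000001b003500b640000006c006a000000000000000d402688000001b001a004d10000001b00340000000000000006801320000000d800cc02640000000d8019800000000000000330098a0000006c0064013140000006c00c80000000000000019004c200000036003100984000000360062000000000000000c4025f8000001b0018004bf0000001b00300000000000000006000f78000000d800bc01ef0000000d80178000000000000002f007aa0000006c005c00f540000006c00b80000000000000017003d200000036002d007a400000036005a000000000000000b401e78000001b0016003cf0000001b002c0000000000000005800f30000000d800ac01e60000000d80158000000000000002b005d60000006c005400bac0000006c00a80000000000000015002e8000000360029005d0000000360052000000000000000a401728000001b0014002e50000001b00280000000000000005000b88000000d8009c01710000000d801380000000000000027005b20000006c004c00b640000006c00980000000000000013001ec000000a2002500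3d8000000a2004a0000000000000009400f4800000510012001e9000000510024000000000000000480079800000288008c00f300000028801180000000000000023001f2000000a20044003e40000028800880000000000000011000f6000000510021001ec000001440042000000000000000840079800000288010000f3000000a2002000000000000000040003a8000003cc007c0075000000f3000f8000000000000001f001c2000001e6003c00384000007980078000000000000000f000d8000000f3001d001b0000003cc003a00000000000000074006780000079800e000cf000001e6001c0000000000000003800318000003cc006c0063000000f3000d8000000000000001b0017a000001e60034002f4000007980068000000000000000d000b4000000f3001900168000003cc003200000000000000064005580000079800c000ab000001e600180000000000000003000288000003cc005c0051000000f3000b8000000000000001700132000003cc002c00264000003cc0058000000000000000b00090000001e6001500120000001e6002a000000000000000540043800000f3000a00087000000f3001400000000000000028001f800000798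004c003f00000079800980000000000000013000ea000003cc0024001d4000003cc004800000000000000090006c000001e60011000d8000001e60022000000000000000440031800000f3000800063000000f30010000000000000000200016800000798003c002d0000007980078000000000000000f000a2000003cc001c00144000003cc0038000000000000000700048000005b2000d00090000005b2001a00000000000000034001f800002d900060003f000002d9000c00000000000000018000d8000016c8002c001b0000016c80058000000000000000b0005a000005b20014000b4000016c80028000000000000000500024000002d900090004800000b64001200000000000000024000d8000016c80040001b000005b20008000000000000000100004800004458001c0009000004458003800000000000000070001200001116000c00024000044580018000000000000000300006000019a100050000c00006684000a000000000000000140001800019a1000200003000019a10004000000000000000080000000000000000c000000000000000100000000000000001) (Nat.mul (nat_lit 67) i)) (nat_lit 0x7ffffffffffffffff)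

theorem o8_c_s0_0 : allRange (nat_lit 0) (nat_lit 300) (nodeOK o8_T (nat_lit 3) (nat_lit 12) [nat_lit 3,nat_lit 0,nat_lit 1,nat_lit 2,nat_lit 4] (nat_lit 0) (nat_lit 12) (nat_lit 1) o8_c_N0 (nat_lit 481) o8_c_N1 o8_c_A0) = true := by decide +kernel

theorem o8_c_s0_1 : allRange (nat_lit 300) (nat_lit 191) (nodeOK o8_T (nat_lit 3) (nat_lit 12) [nat_lit 3,nat_lit 0,nat_lit 1,nat_lit 2,nat_lit 4] (nat_lit 0) (nat_lit 12) (nat_lit 1) o8_c_N0 (nat_lit 481) o8_c_N1 o8_c_A0) = true := by decide +kernel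

theorem o8_c_s0 : ∀ i < 491, (nodeOK o8_T (nat_lit 3) (nat_lit 12) [nat_lit 3,nat_lit 0,nat_lit 1,nat_lit 2,nat_lit 4] (nat_lit 0) (nat_lit 12) (nat_lit 1) o8_c_N0 (nat_lit 481) o8_c_N1 o8_c_A0) i = true := range_append 191 (allRange_zero o8_c_s0_0) o8_c_s0_1 (b := 491)

theorem o8_c_c1 {G : Type*} [Group G] (M : Mod G) (h : LM (fun i => pts M.x (o8_P i)) 3240 o8_T (M.wl o8_g) 16 [nat_lit 0,nat_lit 3,nat_lit 1,nat_lit 2,nat_lit 4,nat_lit 5,nat_lit 6]) : Cls (M.wl o8_g) 3 12 (ConjIn (genLt (M.wl o8_g) 16) (fun t => pcG (M.wl o8_g) 3 12 0 (o8_c_W t)) 13) 1 o8_c_N1 491 :=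
  have := M.fin
  cls_step (o8_p_lm M) (o8_p_pc M) (o8_p_cb M).1.ge (fun _ hu _ k => k.of_conj (genLt_mono _ (by decide) hu)) (o8_c_c0 M h) o8_c_s0 (by decide)

noncomputable def o8_c_A1 : ℕ → ℕ := fun i => Nat.land (Nat.shiftRight (nat_lit 0x50000000000000000500000000000000005000000000000000060000000000000000600000000000000006000000000000808030000000901eb808040000001201eb000000000000001eb0000700000000000000007000000000000000070000000000008061d0000000901ea8061e0000001201ea000000000000001ea000030000000000000000300000000000000003000000000000804370000000901e9804380000001201e9000000000000001e90000500000000000000005000000000000000050000000000000000600000000000000006000000000000000060000000000000000600000000000000006000000000000000060000000000000000400000000000000004000000000000000040000000000007bb570000000901e87bb560000001201e8000000000000001e87bb3c0000000901e77bb3b0000001201e70000000000000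01e77bb210000000901e67bb200000001201e6000000000000001e60000400000000000000004000000000000000040000000000007b93b0000000901e57b93a0000001201e5000000000000001e50000600000000000000006000000000000000060000000000007b7550000000901e47b7540000001201e4000000000000001e4000060000000000000000600000000000000006000000000000000040000000000000000400000000000000004000000000000770220000000901e3770220000001201e3000000000000001e376f2f0000000901e276f2f0000001201e2000000000000001e276e3c0000000901e176e3c0000001201e1000000000000001e176d490000000901e076d490000001201e0000000000000001e076c560000000901df76c560000001201df000000000000001df76b630000000901de76b630000001201de000000000000001de76a700000000901dd76a700000001201dd000000000000001dd7698f0000000901dc7698f0000001201dc000000000000001dc769860000000901db769860000001201db000000000000001db7697d0000000901da7697d0000001201da000000000000001da7688a0000000901d97688a000000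1201d9000000000000001d974efc0000000901d874efd0000001201d8000000000000001d874ef30000000901d774ef40000001201d7000000000000001d774eea0000000901d674eeb0000001201d6000000000000001d67355c0000000901d57355b0000001201d5000000000000001d5735530000000901d4735520000001201d4000000000000001d47354a0000000901d3735490000001201d3000000000000001d371bb90000000901d271bb90000001201d2000000000000001d271bb00000000901d171bb00000001201d1000000000000001d171ba70000000901d071ba70000001201d0000000000000001d0702190000000901cf7021a0000001201cf000000000000001cf702100000000901ce702110000001201ce000000000000001ce702070000000901cd702080000001201cd000000000000001cd6efff0000000901cc6effe0000001201cc000000000000001cc6ef0c0000000901cb6ef0b0000001201cb000000000000001cb6ee190000000901ca6ee180000001201ca000000000000001ca6ed260000000901c96ed250000001201c9000000000000001c96ec330000000901c86ec320000001201c8000000000000001c86eb520000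000901c76eb510000001201c7000000000000001c76eb490000000901c66eb480000001201c6000000000000001c66eb400000000901c56eb3f0000001201c5000000000000001c56ea4d0000000901c46ea4c0000001201c4000000000000001c46e95a0000000901c36e9590000001201c3000000000000001c36e8670000000901c26e8660000001201c2000000000000001c26a31a0000000901c16a31a0000001201c1000000000000001c10000400000000000000004000000000000000040000000000000000700000000000000007000000000000000070000000000006a0410000000901c06a0410000001201c0000000000000001c000004000000000000000040000000000000000400000000000000007000000000000000070000000000000000700000000000069d680000000901bf69d680000001201bf000000000000001bf000050000000000000000500000000000000005000000000000000080000000000000000800000000000000008000000000000000070000000000000000700000000000000007000000000000000030000000000000000300000000000000003000000000000654880000000901be654890000001201be0000000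00000001be6546d0000000901bd6546e0000001201bd000000000000001bd654520000000901bc654530000001201bc000000000000001bc000070000000000000000700000000000000007000000000000000030000000000000000300000000000000003000000000000651790000000901bb6517a0000001201bb000000000000001bb00007000000000000000070000000000000000700000000000000003000000000000000030000000000000000300000000000064ea00000000901ba64ea10000001201ba000000000000001ba622f50000000901b9622f50000001201b9000000000000001b900005000000000000000050000000000000000500000000000000008000000000000000080000000000000000800000000000000007000000000000000070000000000000000700000000000061f290000000901b861f290000001201b8000000000000001b800004000000000000000040000000000000000400000000000000004000000000000000040000000000000000400000000000000007000000000000000070000000000000000700000000000061b5d0000000901b761b5d0000001201b7000000000000001b70000300000000000000003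000000000000000030000000000005d5560000000901b65d5570000001201b6000000000000001b65d53b0000000901b55d53c0000001201b5000000000000001b55d5200000000901b45d5210000001201b4000000000000001b40000700000000000000007000000000000000070000000000000000700000000000000007000000000000000070000000000000000300000000000000003000000000000000030000000000005d1540000000901b35d1550000001201b3000000000000001b35d0610000000901b25d0620000001201b2000000000000001b200007000000000000000070000000000000000700000000000000003000000000000000030000000000000000300000000000059b4b0000000901b159b4c0000001201b1000000000000001b159b420000000901b059b430000001201b0000000000000001b059b390000000901af59b3a0000001201af000000000000001af589430000000901ae589420000001201ae000000000000001ae5893a0000000901ad589390000001201ad000000000000001ad589310000000901ac589300000001201ac000000000000001ac5883e0000000901ab5883d0000001201ab000000000000001ab587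4b0000000901aa5874a0000001201aa000000000000001aa586580000000901a9586570000001201a9000000000000001a9585650000000901a8585640000001201a8000000000000001a8584720000000901a7584710000001201a7000000000000001a75837f0000000901a65837e0000001201a6000000000000001a65828c0000000901a55828b0000001201a5000000000000001a5581990000000901a4581980000001201a4000000000000001a4568080000000901a3568080000001201a3000000000000001a3567ff0000000901a2567ff0000001201a2000000000000001a2567f60000000901a1567f60000001201a1000000000000001a1000040000000000000000400000000000000004000000000000000060000000000000000600000000000000006000000000000520c70000001201a0520c60000000901a0000000000000001a000004000000000000000040000000000000000400000000000000006000000000000000060000000000000000600000000000051dee00000012019f51ded00000009019f0000000000000019f00003000000000000000030000000000000000300000000000000008000000000000000080000000000000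000800000000000051b1500000012019e51b1400000009019e0000000000000019e5018500000012019d5018600000009019d0000000000000019d5017c00000012019c5017d00000009019c0000000000000019c5017300000012019b5017400000009019b0000000000000019b4e7e400000012019a4e7e500000009019a0000000000000019a4e7db0000001201994e7dc000000090199000000000000001994e7d20000001201984e7d3000000090198000000000000001984d5c90000001201974d5ca000000090197000000000000001974d4e80000001201964d4e9000000090196000000000000001964d4df0000001201954d4e0000000090195000000000000001954d4d60000001201944d4d7000000090194000000000000001944d3e30000001201934d3e4000000090193000000000000001934d2f00000001201924d2f1000000090192000000000000001924d1fd0000001201914d1fe000000090191000000000000001914d10a0000001201904d10b000000090190000000000000001904d01700000012018f4d01800000009018f0000000000000018f4cf2400000012018e4cf2500000009018e0000000000000018e4ce3100000012018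d4ce3200000009018d0000000000000018d000070000000000000000700000000000000007000000000000000040000000000000000400000000000000004000000000000486ff00000012018c486ff00000009018c0000000000000018c0000700000000000000007000000000000000070000000000000000400000000000000004000000000000000040000000000004845c00000012018b4845c00000009018b0000000000000018b4844100000012018a4844100000009018a0000000000000018a4842600000012018948426000000090189000000000000001890000700000000000000007000000000000000070000000000000000400000000000000004000000000000000040000000000004814d0000001201884814d00000009018800000000000000188000060000000000000000600000000000000006000000000000000050000000000000000500000000000000005000000000000453f4000000120187453f500000009018700000000000000187453d9000000120186453da00000009018600000000000000186453be000000120185453bf00000009018500000000000000185000050000000000000000500000000000000005000000000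000451d8000000120184451d90000000901840000000000000018400006000000000000000060000000000000000600000000000044ff200000012018344ff300000009018300000000000000183000060000000000000000600000000000000006000000000000000050000000000000000500000000000000005000000000000000050000000000000000500000000000000005000000000000000080000000000000000800000000000000008000000000000406da000000120182406da00000009018200000000000000182000080000000000000000800000000000000008000000000000404f4000000120181404f4000000090181000000000000001810000500000000000000005000000000000000050000000000004030e0000001201804030e000000090180000000000000001800000400000000000000004000000000000000040000000000000000700000000000000007000000000000000070000000000003cdfa00000012017f3cdf900000009017f0000000000000017f3cdf100000012017e3cdf000000009017e0000000000000017e3cde800000012017d3cde700000009017d0000000000000017d3bbdf00000012017c3bbde0000000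9017c0000000000000017c3baec00000012017b3baeb00000009017b0000000000000017b3b9f900000012017a3b9f800000009017a0000000000000017a3b9180000001201793b917000000090179000000000000001793b90f0000001201783b90e000000090178000000000000001783b9060000001201773b905000000090177000000000000001773b8130000001201763b812000000090176000000000000001763b7200000001201753b71f000000090175000000000000001753b62d0000001201743b62c000000090174000000000000001743b53a0000001201733b539000000090173000000000000001733b4470000001201723b4460000000901720000000000000017239ab800000012017139ab70000000901710000000000000017139aaf00000012017039aae0000000901700000000000000017039aa600000012016f39aa500000009016f0000000000000016f000040000000000000000400000000000000004000000000000387a800000012016e387a800000009016e0000000000000016e0000700000000000000007000000000000000070000000000000000700000000000000007000000000000000070000000000000000400000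000000000004000000000000000040000000000003841200000012016d3841200000009016d0000000000000016d383f700000012016c383f700000009016c0000000000000016c383dc00000012016b383dc00000009016b0000000000000016b382e900000012016a382e900000009016a0000000000000016a00007000000000000000070000000000000000700000000000000004000000000000000040000000000000000400000000000000006000000000000000060000000000000000600000000000033ac700000012016933ac600000009016900000000000000169000040000000000000000400000000000000004000000000000000030000000000000000300000000000000003000000000000000080000000000000000800000000000000008000000000000336fb000000120168336fa000000090168000000000000001683360800000012016733607000000090167000000000000001670000400000000000000004000000000000000040000000000000000600000000000000006000000000000000060000000000002eed60000001201662eed7000000090166000000000000001662ede30000001201652ede400000009016500000000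0000001652ecf00000001201642ecf1000000090164000000000000001642ebfd0000001201632ebfe000000090163000000000000001632eb1c0000001201622eb1d000000090162000000000000001622eb130000001201612eb14000000090161000000000000001612eb0a0000001201602eb0b000000090160000000000000001602ea1700000012015f2ea1800000009015f0000000000000015f2e92400000012015e2e92500000009015e0000000000000015e2e83100000012015d2e83200000009015d0000000000000015d2e73e00000012015c2e73f00000009015c0000000000000015c2cdaf00000012015b2cdb000000009015b0000000000000015b2cda600000012015a2cda700000009015a0000000000000015a2cd9d0000001201592cd9e000000090159000000000000001592b40e0000001201582b40f000000090158000000000000001582b4050000001201572b406000000090157000000000000001572b3fc0000001201562b3fd00000009015600000000000000156000040000000000000000400000000000000004000000000000000080000000000000000800000000000000008000000000000291e2000000360155291e30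000001b015500000000000000155291d9000000360154291da0000001b015400000000000000154291d0000000360153291d10000001b01530000000000000015328b2a00000036015228b2a0000001b015200000000000000152000040000000000000000400000000000000004000000000000000080000000000000000800000000000000008000000000000000080000000000000000800000000000000008000000000000281ae000000360151281ad0000001b015100000000000000151000040000000000000000400000000000000004000000000000000060000000000000000600000000000000006000000000000245df000000360150245df0000001b01500000000000000015000003000000000000000030000000000000000300000000000000007000000000000000070000000000000000700000000000023d5600000036014f23d550000001b014f0000000000000014f000050000000000000000500000000000000005000000000000000080000000000000000800000000000000008000000000000234dc00000036014e234dd0000001b014e0000000000000014e234d300000036014d234d40000001b014d0000000000000014d234c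a00000036014c234cb0000001b014c0000000000000014c0000400000000000000004000000000000000040000000000001f9f100000036014b1f9f00000001b014b0000000000000014b0000300000000000000003000000000000000030000000000000000600000000000000006000000000000000060000000000001f17700000036014a1f1780000001b014a0000000000000014a1f16e0000003601491f16f0000001b0149000000000000001491f1650000003601481f1660000001b0148000000000000001480000400000000000000004000000000000000040000000000000000800000000000000008000000000000000080000000000001e8d90000003601471e8d90000001b0147000000000000001470000500000000000000005000000000000000050000000000000000700000000000000007000000000000000070000000000000000400000000000000004000000000000000040000000000000000800000000000000008000000000000000080000000000001c4c80000001b01461c4c900000036014600000000000000146000050000000000000000500000000000000005000000000000000070000000000000000700000000000000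0070000000000001bc3e0000001b01451bc3d000000360145000000000000001450000300000000000000003000000000000000030000000000000000600000000000000006000000000000000060000000000001b3c30000001b01441b3c3000000360144000000000000001441b3ba0000001b01431b3ba000000360143000000000000001431b3b10000001b01421b3b100000036014200000000000000142000030000000000000000300000000000000003000000000000000060000000000000000600000000000000006000000000000177e60000001b0141177e500000036014100000000000000141171510000001b01401715100000036014000000000000000140171480000001b013f1714800000036013f0000000000000013f1713f0000001b013e1713f00000036013e0000000000000013e000030000000000000000300000000000000003000000000000000060000000000000000600000000000000006000000000000000060000000000000000600000000000000006000000000000167c20000001b013d167c300000036013d0000000000000013d00003000000000000000030000000000000000300000000000000006000000000000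000060000000000000000600000000000012c060000001b013c12c0600000036013c0000000000000013c12bfd0000001b013b12bfd00000036013b0000000000000013b12bf40000001b013a12bf400000036013a0000000000000013a0000300000000000000003000000000000000030000000000000000700000000000000007000000000000000070000000000001236a0000001b01391236b0000003601390000000000000013900005000000000000000050000000000000000500000000000000008000000000000000080000000000000000800000000000011ae00000001b013811adf000000360138000000000000001380000400000000000000004000000000000000040000000000000000700000000000000007000000000000000070000000000000000600000000000000006000000000000000060000000000000000700000000000000007000000000000000070000000000000a8030000005101370a803000000a20137000000000000001370a52b0000005101360a52c000000a20136000000000000001360a2530000005101350a252000000a20135000000000000001350000400000000000000004000000000000000040000000000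00000050000000000000000500000000000000005000000000000000050000000000000000500000000000000005000000000000063ac000000a20134063ad00000051013400000000000000134060d2000000a20133060d20000005101330000000000000013305dfb000000a2013205dfa0000005101320000000000000013200003000000000000000030000000000000000300000000000000005000000000000000050000000000000000500000000000000005000000000000000050000000000000000500000000000000007000000000000000070000000000000000700000000000000008000000000000000080000000000000000800000000000000007000000000000000070000000000000000700000000000000000000000000131000000000000001300000000000000012f0000000000000012e0000000000000012d0000000000000012c0000000000000012b0000000000000012a000000000000001290000000000000012800000000000000127000000000000001260000000000000012500000000000000124000000000000001230000000000000012200000000000000121000000000000001200000000000000011f0000000000000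011e0000000000000011d0000000000000011c0000000000000011b0000000000000011a000000000000001190000000000000011800000000000000117000000000000001160000000000000011500000000000000114000000000000001130000000000000011200000000000000111000000000000001100000000000000010f0000000000000010e0000000000000010d0000000000000010c0000000000000010b0000000000000010a00000000000000109000000000000001080000000000000010700000000000000106000000000000001050000000000000010400000000000000103000000000000001020000000000000010100000000000000100000000000000000ff000000000000000fe000000000000000fd000000000000000fc000000000000000fb000000000000000fa000000000000000f9000000000000000f8000000000000000f7000000000000000f6000000000000000f5000000000000000f4000000000000000f3000000000000000f2000000000000000f1000000000000000f0000000000000000ef000000000000000ee000000000000000ed000000000000000ec000000000000000eb000000000000000ea00000000000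0000e9000000000000000e8000000000000000e7000000000000000e6000000000000000e5000000000000000e4000000000000000e3000000000000000e2000000000000000e1000000000000000e0000000000000000df000000000000000de000000000000000dd000000000000000dc000000000000000db000000000000000da000000000000000d9000000000000000d8000000000000000d7000000000000000d6000000000000000d5000000000000000d4000000000000000d3000000000000000d2000000000000000d1000000000000000d0000000000000000cf000000000000000ce000000000000000cd000000000000000cc000000000000000cb000000000000000ca000000000000000c9000000000000000c8000000000000000c7000000000000000c6000000000000000c5000000000000000c4000000000000000c3000000000000000c2000000000000000c1000000000000000c0000000000000000bf000000000000000be000000000000000bd000000000000000bc000000000000000bb000000000000000ba000000000000000b9000000000000000b8000000000000000b7000000000000000b6000000000000000b5000000000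000000b4000000000000000b3000000000000000b2000000000000000b1000000000000000b0000000000000000af000000000000000ae000000000000000ad000000000000000ac000000000000000ab000000000000000aa000000000000000a9000000000000000a8000000000000000a7000000000000000a6000000000000000a5000000000000000a4000000000000000a3000000000000000a2000000000000000a1000000000000000a00000000000000009f0000000000000009e0000000000000009d0000000000000009c0000000000000009b0000000000000009a000000000000000990000000000000009800000000000000097000000000000000960000000000000009500000000000000094000000000000000930000000000000009200000000000000091000000000000000900000000000000008f0000000000000008e0000000000000008d017ce0006f69c008c017cf0004cfb3008c0000000000000008c017c50004cfb3008b017c60006f69c008b0000000000000008b0000000000000008a0000000000000008900000000000000088016fe0001cd520087017000000e6a9008700000000000000087000000000000000860000000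000000008500000000000000084016c90000e6a90083016c80001cd520083000000000000000830160b0001806f00820160c00021ba7008200000000000000082015f000021ba70081015f20001806f008100000000000000081000000000000000800000000000000007f0000000000000007e0000000000000007d0000000000000007c0000000000000007b0140200074d81007a0140100039d7b007a0000000000000007a013f900039d7b0079013f900074d81007900000000000000079000000000000000780000000000000007700000000000000076013320001338c007501333000269e500750000000000000007501319000269e50074013170001338c007400000000000000074000000000000000730000000000000007200000000000000071000000000000000700000000000000006f0000000000000006e0112a000567f6006d011280002b3fb006d0000000000000006d011210002b3fb006c01121000567f6006c0000000000000006c0000000000000006b0000000000000006a0000000000000006900000000000000068000000000000000670000000000000006600f670001806f006500f6600021ba700650000000000000006500f4d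00021ba7006400f4b0001806f00640000000000000006400000000000000063000000000000000620000000000000006100e5100074d81006000e5100039d7b00600000000000000006000e4600039d7b005f00e4800074d81005f0000000000000005f0000000000000005e0000000000000005d0000000000000005c00d5d0006f69c005b00d5e0004cfb3005b0000000000000005b00d540004cfb3005a00d550006f69c005a0000000000000005a00000000000000059000000000000000580000000000000005700000000000000056000000000000000550000000000000005400000000000000053000000000000000520000000000000005100b800000e6a9005000b7f0001cd5200500000000000000005000b640001cd52004f00b660000e6a9004f0000000000000004f0000000000000004e0000000000000004d0000000000000004c009b40001338c004b009b5000269e5004b0000000000000004b0099b000269e5004a009990001338c004a0000000000000004a0000000000000004900000000000000048000000000000000470089e000567f600460089e0002b3fb004600000000000000046008940002b3fb004500895000567f60045000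00000000000045000000000000000440000000000000004300000000000000042007aa0005b65e0041007ac00034dc1004100000000000000041007a300034dc10040007a30005b65e0040000000000000000400000000000000003f0000000000000003e0000000000000003d006b900079b25003c006b90004346a003c0000000000000003c006af0004346a003b006af00079b25003b0000000000000003b0000000000000003a0000000000000003900000000000000038000000000000000370000000000000003600000000000000035005bd00065ab70034005bc0004814d003400000000000000034005b30004814d0033005b400065ab7003300000000000000033004d300079b250032004d30004346a003200000000000000032004c90004346a0031004c900079b25003100000000000000031000000000000000300000000000000002f0000000000000002e003df0005b65e002d003df00034dc1002d0000000000000002d003d600034dc1002c003d50005b65e002c0000000000000002c0000000000000002b0000000000000002a00000000000000029002ed0004814d0028002ec00065ab7002800000000000000028000000000000000270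000000000000002600000000000000025002da00065ab70024002db0004814d002400000000000000024000000000000000230000000000000002200000000000000021000000000000000200000000000000001f0000000000000001e000ec000099c6001d000eb00004ce3001d0000000000000001d000e1000099c6001c000e100004ce3001c0000000000000001c000d9000099c6001b000da00004ce3001b0000000000000001b000cf000099c6001a000cf00004ce3001a0000000000000001a000c7000099c60019000c800004ce3001900000000000000019000bf000099c60018000be00004ce3001800000000000000018000b5000099c60017000b600004ce3001700000000000000017000ad000099c60016000ac00004ce3001600000000000000016000a2000099c60015000a200004ce30015000000000000000150009a00004ce300140009b000099c60014000000000000000140009000004ce3001300090000099c60013000000000000000130008900004ce3001200088000099c60012000000000000000120007e00004ce300110007e000099c60011000000000000000110007700004ce3001000076000099c600100000000000000001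00006d00004ce3000f0006e000099c6000f0000000000000000f0006500004ce3000e00064000099c6000e0000000000000000e0005b00004ce3000d0005c000099c6000d0000000000000000d0005100004ce3000c00051000099c6000c0000000000000000c000490000e6a9000b000480001cd52000b0000000000000000b000400000e6a9000a0003f0001cd52000a0000000000000000a000370000e6a90009000360001cd520009000000000000000090002d0001cd5200080002f0000e6a9000800000000000000008000240001cd520007000260000e6a90007000000000000000070001b0001cd5200060001d0000e6a900060000000000000000600012000567f60005000140002b3fb0005000000000000000050000a0002b3fb000400009000567f6000400000000000000004000000000000000030000000000000000200000000000000001) (Nat.mul (nat_lit 68) i)) (nat_lit 0xfffffffffffffffff)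

theorem o8_c_s1_0 : allRange (nat_lit 0) (nat_lit 300) (nodeOK o8_T (nat_lit 3) (nat_lit 12) [nat_lit 3,nat_lit 0,nat_lit 1,nat_lit 2,nat_lit 4] (nat_lit 1) (nat_lit 11) (nat_lit 3) o8_c_N1 (nat_lit 491) o8_c_N2 o8_c_A1) = true := by decide +kernel

theorem o8_c_s1_1 : allRange (nat_lit 300) (nat_lit 149) (nodeOK o8_T (nat_lit 3) (nat_lit 12) [nat_lit 3,nat_lit 0,nat_lit 1,nat_lit 2,nat_lit 4] (nat_lit 1) (nat_lit 11) (nat_lit 3) o8_c_N1 (nat_lit 491) o8_c_N2 o8_c_A1) = true := by decide +kernel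

theorem o8_c_s1 : ∀ i < 449, (nodeOK o8_T (nat_lit 3) (nat_lit 12) [nat_lit 3,nat_lit 0,nat_lit 1,nat_lit 2,nat_lit 4] (nat_lit 1) (nat_lit 11) (nat_lit 3) o8_c_N1 (nat_lit 491) o8_c_N2 o8_c_A1) i = true := range_append 149 (allRange_zero o8_c_s1_0) o8_c_s1_1 (b := 449)

theorem o8_c_c2 {G : Type*} [Group G] (M : Mod G) (h : LM (fun i => pts M.x (o8_P i)) 3240 o8_T (M.wl o8_g) 16 [nat_lit 0,nat_lit 3,nat_lit 1,nat_lit 2,nat_lit 4,nat_lit 5,nat_lit 6]) : Cls (M.wl o8_g) 3 12 (ConjIn (genLt (M.wl o8_g) 16) (fun t => pcG (M.wl o8_g) 3 12 0 (o8_c_W t)) 13) 2 o8_c_N2 449 :=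
  have := M.fin
  cls_step (o8_p_lm M) (o8_p_pc M) (o8_p_cb M).1.ge (fun _ hu _ k => k.of_conj (genLt_mono _ (by decide) hu)) (o8_c_c1 M h) o8_c_s1 (by decide)

noncomputable def o8_c_A2 : ℕ → ℕ := fun i => Nat.land (Nat.shiftRight (nat_lit 0x809ec00000f3201c1809ef000015d501c1000000000000001c1808fa00000f3201c0808fb000015d501c0000000000000001c08080500000f3201bf8080a000015d501bf000000000000001bf8071400000f3201be80715000015d501be000000000000001be8061f00000f3201bd80624000015d501bd000000000000001bd8052d00000f3201bc80530000015d501bc000000000000001bc8043900000f3201bb8043e000015d501bb000000000000001bb8034700000f3201ba8034a000015d501ba000000000000001ba8025500000f3201b980256000015d501b9000000000000001b97bd050000097e01b87bd07000012fe01b8000000000000001b87bc140000097e01b77bc12000012fe01b7000000000000001b77bb550000097e01b67bb57000012fe01b6000000000000001b67bb3c0000097e01b57bb3a000012fe01b5000000000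000001b57bb200000097e01b47bb20000012fe01b4000000000000001b47ba2d0000097e01b37ba2d000012fe01b3000000000000001b37b9390000097e01b27b93b000012fe01b2000000000000001b27b8480000097e01b17b846000012fe01b1000000000000001b17b7550000097e01b07b753000012fe01b0000000000000001b07b6610000097e01af7b661000012fe01af000000000000001af7b56d0000097e01ae7b56f000012fe01ae000000000000001ae7702800011bd101ad770270001edd801ad000000000000001ad76f3400009bbe01ac76f3700004dd601ac000000000000001ac76e4400004dd601ab76e3f00009bbe01ab000000000000001ab76d4d00009fc201aa76d4f00004fbd01aa000000000000001aa76c5d00004fbd01a976c5a00009fc201a9000000000000001a976b650001ea2201a876b6500011cc501a8000000000000001a876a780000547c01a776a7300009dbf01a7000000000000001a7000000000000001a6000000000000001a5000000000000001a47688e00009dbf01a3768900000547c01a3000000000000001a3000000000000001a2000000000000001a1000000000000001a00000000000000019f0000000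000000019e0000000000000019d0000000000000019c0000000000000019b0000000000000019a0000000000000019900000000000000198000000000000001976f00200009ac201966f00500004ec90196000000000000001966ef1200004ec901956ef0d00009ac20195000000000000001956ee1e0001e9b001946ee1a000120920194000000000000001946ed2b0000a0a101936ed27000051a40193000000000000001936ec35000051a401926ec380000a0a101920000000000000019200000000000000191000000000000001900000000000000018f6ea4c00009dbf018e6ea4b0000547c018e0000000000000018e6e95a0000547c018d6e95800009dbf018d0000000000000018d6e86a00012184018c6e86b0001e899018c0000000000000018c6a32200000b64018b6a31d000016ca018b0000000000000018b6a22f00000b64018a6a22a000016ca018a0000000000000018a6a13c00000b6401896a137000016ca0189000000000000001896a04800000b6401886a045000016ca01880000000000000018869f5500000b64018769f52000016ca01870000000000000018769e6200000b64018669e5f000016ca01860000000000000018669d6e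00000b64018569d6d000016ca01850000000000000018569c7b00000b64018469c7a000016ca01840000000000000018469b8800000b64018369b87000016ca018300000000000000183656370000097e018265639000012fe018200000000000000182655460000097e018165544000012fe018100000000000000181654870000097e018065489000012fe0180000000000000001806546e0000097e017f6546c000012fe017f0000000000000017f654520000097e017e65452000012fe017e0000000000000017e6535f0000097e017d6535f000012fe017d0000000000000017d6526b0000097e017c6526d000012fe017c0000000000000017c6517a0000097e017b65178000012fe017b0000000000000017b650870000097e017a65085000012fe017a0000000000000017a64f930000097e017964f93000012fe01790000000000000017964e9f0000097e017864ea1000012fe017800000000000000178622f70000097e0177622f5000012fe017700000000000000177622030000097e017662203000012fe0176000000000000001766210f0000097e017562111000012fe0175000000000000001756201c0000097e01746201e000012fe0174000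0000000000017461f2b0000097e017361f29000012fe01730000000000000017361e370000097e017261e37000012fe01720000000000000017261d440000097e017161d44000012fe01710000000000000017161c500000097e017061c52000012fe01700000000000000017061b5f0000097e016f61b5d000012fe016f0000000000000016f5d61500000a71016e5d61a0000120a016e0000000000000016e5d55900000a71016d5d55c0000120a016d0000000000000016d5d53d00000a71016c5d5420000120a016c0000000000000016c5d52400000a71016b5d5250000120a016b0000000000000016b5d43000000a71016a5d4330000120a016a0000000000000016a5d33c00000a7101695d3410000120a0169000000000000001695d24b00000a7101685d24c0000120a0168000000000000001685d15700000a7101675d15a0000120a0167000000000000001675d06300000a7101665d0680000120a0166000000000000001665cf7200000a7101655cf730000120a0165000000000000001655ce7e00000a7101645ce810000120a016400000000000000164000000000000001630000000000000016200000000000000161000000000000001600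000000000000015f0000000000000015e5883f000099c6015d5884300004ce3015d0000000000000015d5875000004ce3015c5874d000099c6015c0000000000000015c5865c000050af015b5865b0000a19e015b0000000000000015b5856800011bd1015a585690001edd8015a0000000000000015a584750000a19e015958478000050af0159000000000000001595838200009dbf0158583850000547c015800000000000000158582910000547c01575828e00009dbf015700000000000000157581970001e7d301565819800011f9d015600000000000000156000000000000001550000000000000015400000000000000153522af000016ca0152522b100000b64015200000000000000152521bc000016ca0151521be00000b64015100000000000000151520c9000016ca0150520cb00000b6401500000000000000015051fd7000016ca014f51fda00000b64014f0000000000000014f51ee4000016ca014e51ee700000b64014e0000000000000014e51df1000016ca014d51df400000b64014d0000000000000014d51cfc000016ca014c51d0000000b64014c0000000000000014c51c09000016ca014b51c0d00000b64014b0000000000000014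b51b16000016ca014a51b1a00000b64014a0000000000000014a0000000000000014900000000000000148000000000000001470000000000000014600000000000000145000000000000001444d5c800004fbc01434d5ca00009fc00143000000000000001430000000000000014200000000000000141000000000000001404d3e400009fc0013f4d3e400004fbc013f0000000000000013f4d2f500004ce3013e4d2f4000099c6013e0000000000000013e4d1fc00011ade013d4d1fe0001ee9e013d0000000000000013d4d10d000099c6013c4d10f00004ce3013c0000000000000013c4d01900005295013b4d01e00009cc3013b0000000000000013b4cf230001edd8013a4cf2400011bd1013a0000000000000013a4ce3600009cc301394ce3400005295013900000000000000139488eb000012fe0138488e90000097e013800000000000000138487f9000012fe0137487f50000097e01370000000000000013748707000012fe0136487040000097e01360000000000000013648614000012fe0135486110000097e0135000000000000001354851f000012fe01344851d0000097e01340000000000000013448464000012fe0133484610000097e0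1330000000000000013348447000012fe0132484450000097e0132000000000000001324842d000012fe0131484290000097e0131000000000000001314833a000012fe0130483360000097e01300000000000000013048248000012fe012f482450000097e012f0000000000000012f48153000012fe012e481510000097e012e0000000000000012e455ab000012fe012d455a80000097e012d0000000000000012d454b6000012fe012c454b40000097e012c0000000000000012c453fb000012fe012b453f80000097e012b0000000000000012b453de000012fe012a453dc0000097e012a0000000000000012a453c4000012fe0129453c00000097e012900000000000000129452d1000012fe0128452cd0000097e012800000000000000128451df000012fe0127451dc0000097e012700000000000000127450ea000012fe0126450e80000097e01260000000000000012644ff7000012fe012544ff50000097e01250000000000000012544f05000012fe012444f010000097e01240000000000000012444e13000012fe012344e100000097e012300000000000000123408c1000015d50122408c000000f32012200000000000000122407cd000015d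50121407ce00000f32012100000000000000121406dc000015d50120406dc00000f32012000000000000000120405e7000015d5011f405e800000f32011f0000000000000011f404f6000015d5011e404f600000f32011e0000000000000011e40402000015d5011d4040100000f32011d0000000000000011d40310000015d5011c4031000000f32011c0000000000000011c4021c000015d5011b4021b00000f32011b0000000000000011b40128000015d5011a4012900000f32011a0000000000000011a0000000000000011900000000000000118000000000000001173bbe200004ec901163bbe300009ac20116000000000000001163baef0001eb3901153baf200011eaa0115000000000000001153b9ff00009ac201143b9fc00004ec90114000000000000001140000000000000011300000000000000112000000000000001113b81900009cc301103b816000052950110000000000000001103b72200005295010f3b72500009cc3010f0000000000000010f3b6330000a19f010e3b630000050b1010e0000000000000010e3b53b000050b1010d3b5400000a19f010d0000000000000010d3b44a00011f9d010c3b44b0001e7d3010c0000000000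000010c0000000000000010b0000000000000010a000000000000001093889b0000120a01083889c00000a71010800000000000000108387a90000120a0107387a800000a71010700000000000000107386b70000120a0106386b700000a71010600000000000000106385c20000120a0105385c300000a71010500000000000000105384d00000120a0104384cf00000a71010400000000000000104384120000120a01033841300000a71010300000000000000103383f80000120a0102383f700000a71010200000000000000102383de0000120a0101383de00000a71010100000000000000101382e90000120a0100382ea00000a71010000000000000000100381f70000120a00ff381f600000a7100ff000000000000000ff381050000120a00fe3810500000a7100fe000000000000000fe33bbf000012fe00fd33bbb0000097e00fd000000000000000fd33acd000012fe00fc33aca0000097e00fc000000000000000fc339d8000012fe00fb339d60000097e00fb000000000000000fb338e5000012fe00fa338e30000097e00fa000000000000000fa337f3000012fe00f9337ef0000097e00f9000000000000000f933701000012fe00f8336fe000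0097e00f8000000000000000f83360e000012fe00f73360b0000097e00f7000000000000000f733519000012fe00f6335170000097e00f6000000000000000f633427000012fe00f5334230000097e00f5000000000000000f52eed50001eb3800f42eed600011eab00f4000000000000000f42ede20000a0a200f32ede3000051a300f3000000000000000f32ecf1000051a300f22ecef0000a0a200f2000000000000000f22ebfc00004dd600f12ebfe00009bbe00f1000000000000000f1000000000000000f0000000000000000ef000000000000000ee2ea1700009bbe00ed2ea1600004dd600ed000000000000000ed2e92500009cc300ec2e9250000529500ec000000000000000ec2e8310000529500eb2e83100009cc300eb000000000000000eb2e740000119eb00ea2e7450001ecc100ea000000000000000ea000000000000000e9000000000000000e8000000000000000e7000000000000000e6000000000000000e5000000000000000e4293b600009ac200e3293b500004ec900e3000000000000000e3292c200004ec900e2292c400009ac200e2000000000000000e2000000000000000e1000000000000000e0000000000000000df28b300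0004fbc00de28b2f00009fc000de000000000000000de28a3900058e5300dd28a3c0002eed500dd000000000000000dd2894900009fc000dc2894c00004fbc00dc000000000000000dc282a00002e73d00db282a600058aaa00db000000000000000db281b200009ea200da281b00000538800da000000000000000da280bc0000538800d9280c100009ea200d9000000000000000d9246da00009ac200d8246d700004ec900d8000000000000000d8245e400004ec900d7245e500009ac200d7000000000000000d7244ed00058c4c00d6244ef0002e83000d6000000000000000d623e4e0002ede200d523e4800058f9400d5000000000000000d523d550000a0a300d423d54000051a200d4000000000000000d423c62000051a200d323c620000a0a300d3000000000000000d3235c40000547b00d2235bf00009dc000d2000000000000000d2000000000000000d1000000000000000d0000000000000000cf233da00009dc000ce233dc0000547b00ce000000000000000ce1f9f200009ac200cd1f9f600004ec900cd000000000000000cd1f90300004ec900cc1f90000009ac200cc000000000000000cc1f80f0002ecef00cb1f80b00058d0000cb0000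00000000000cb000000000000000ca000000000000000c9000000000000000c81f0770000a19e00c71f075000050af00c7000000000000000c71ef83000050af00c61ef840000a19e00c6000000000000000c61e8db0000529500c51e8d900009cc300c5000000000000000c51e7e800058c0500c41e7eb0002e92300c4000000000000000c41e6f400009cc300c31e6f30000529500c3000000000000000c31c6b1000590f800c21c6ad0002ebfc00c2000000000000000c21c5be00009fc000c11c5c000004fbc00c1000000000000000c11c4ce00004fbc00c01c4cb00009fc000c0000000000000000c01be2800004ce300bf1be27000099c600bf000000000000000bf1bd310002eed500be1bd3500058e5300be000000000000000be1bc40000099c600bd1bc4200004ce300bd000000000000000bd1b59c00009cc300bc1b59f0000529500bc000000000000000bc1b4ab0000529500bb1b4a800009cc300bb000000000000000bb000000000000000ba000000000000000b9000000000000000b8179d1000050af00b7179ce0000a19e00b7000000000000000b7178d90002ecef00b6178dd00058d0000b6000000000000000b6177e80000a19e00b517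7ea000050af00b5000000000000000b5000000000000000b4000000000000000b3000000000000000b217053000099c600b11704f00004ce300b1000000000000000b116f5c00004ce300b016f61000099c600b0000000000000000b0168b600009dc000af168b60000547b00af000000000000000af167c20000547b00ae167c200009dc000ae000000000000000ae166d000058c4c00ad166d30002e83000ad000000000000000ad12ced000051a200ac12cec0000a0a300ac000000000000000ac000000000000000ab000000000000000aa000000000000000a912b060000a0a300a812b09000051a200a8000000000000000a81245e000099c600a71245e00004ce300a7000000000000000a71236b00004ce300a612369000099c600a6000000000000000a61227d00058aaa00a51227c0002e73d00a5000000000000000a511bd40002ebfc00a411bd6000590f800a4000000000000000a411ae400009ea200a311ae20000538800a3000000000000000a3119ee0000538800a2119f300009ea200a2000000000000000a20000b0000000000000000b0000000000000000b000000000000000190000000000000001900000000000000019000000000000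0b090000000f300a10b08f000001e600a1000000000000000a10adb6000000f300a00adb7000001e600a0000000000000000a00aadc000000f3009f0aadc000001e6009f0000000000000009f0a804000000f3009e0a805000001e6009e0000000000000009e0a52a000000f3009d0a52a000001e6009d0000000000000009d0a253000000f3009c0a252000001e6009c0000000000000009c09f78000000f3009b09f78000001e6009b0000000000000009b09ca1000000f3009a09ca0000001e6009a0000000000000009a099c7000000f30099099c8000001e60099000000000000000990000c0000000000000000c0000000000000000c000000000000000120000000000000001200000000000000012000000000000063ac000001e60098063ad000000f3009800000000000000098060d4000001e60097060d3000000f300970000000000000009705df9000001e6009605df9000000f300960000000000000009605b21000001e6009505b22000000f300950000000000000009505849000001e6009405848000000f30094000000000000000940556e000001e600930556e000000f300930000000000000009305296000001e6009205297000000f300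920000000000000009204fbe000001e6009104fbd000000f300910000000000000009104ce3000001e6009004ce3000000f30090000000000000000900000000000000008f0000000000000008e0000000000000008d0000000000000008c0000000000000008b0000000000000008a000000000000000890000000000000008800000000000000087000000000000000860000000000000008500000000000000084000000000000000830000000000000008200000000000000081000000000000000800000000000000007f0000000000000007e0000000000000007d0000000000000007c0000000000000007b0000000000000007a000000000000000790000000000000007800000000000000077000000000000000760000000000000007500000000000000074000000000000000730000000000000007200000000000000071000000000000000700000000000000006f0000000000000006e0000000000000006d0000000000000006c0000000000000006b0000000000000006a000000000000000690000000000000006800000000000000067000000000000000660000000000000006500000000000000064000000000000000630000000000000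006200000000000000061000000000000000600000000000000005f0000000000000005e0000000000000005d0000000000000005c0000000000000005b0000000000000005a018b600065ab70059018b50004814d005900000000000000059000000000000000580000000000000005700000000000000056017060005b65e00550170400034dc1005500000000000000055016e40005b65e0054016e800034dc1005400000000000000054016cb0005b65e0053016c900034dc1005300000000000000053016110005b65e00520161300034dc1005200000000000000052015f20005b65e0051015f400034dc1005100000000000000051015d90005b65e0050015d500034dc1005000000000000000050014e200079b25004f014e60004346a004f0000000000000004f0000000000000004e0000000000000004d0000000000000004c0133600060479004b01334000300de004b0000000000000004b0131f00060479004a0131f000300de004a0000000000000004a012fc00060479004901301000300de0049000000000000000490120e0005b65e00480120b00034dc1004800000000000000048000000000000000470000000000000004600000000000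0000450102a0004346a00440102400079b2500440000000000000004400f6d00034dc1004300f680005b65e00430000000000000004300f4e00034dc1004200f4f0005b65e00420000000000000004200f3200034dc1004100f360005b65e004100000000000000041000000000000000400000000000000003f0000000000000003e0000000000000003d0000000000000003c0000000000000003b00c5b0004814d003a00c5c00065ab7003a0000000000000003a00ba000034dc1003900b9a0005b65e00390000000000000003900b8400034dc1003800b840005b65e00380000000000000003800b6500034dc1003700b6b0005b65e00370000000000000003700a7100034dc1003600a790005b65e003600000000000000036009b7000300de0035009b90006047900350000000000000003500999000300de00340099f0006047900340000000000000003400984000300de00330097f000604790033000000000000000330000000000000003200000000000000031000000000000000300000000000000002f0000000000000002e0000000000000002d0000000000000002c0000000000000002b0000000000000002a00000000000000029000000000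0000002800000000000000027000000000000000260000000000000002500000000000000024000000000000000230000000000000002200000000000000021000000000000000200000000000000001f0000000000000001e001e7000099c6001d001e600004ce3001d0000000000000001d000f300004ce3001c000f5000099c6001c0000000000000001c0000000000000001b0000000000000001a000000000000000190000000000000001800000000000000017000000000000000160000000000000001500000000000000014000000000000000130000000000000001200000000000000011000000000000000100000000000000000f0000000000000000e0000000000000000d0000000000000000c0000000000000000b0000000000000000a000000000000000090000000000000000800000000000000007000000000000000060000000000000000500000000000000004000000000000000030000000000000000200000000000000001) (Nat.mul (nat_lit 68) i)) (nat_lit 0xfffffffffffffffff)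

theorem o8_c_s2_0 : allRange (nat_lit 0) (nat_lit 300) (nodeOK o8_T (nat_lit 3) (nat_lit 12) [nat_lit 3,nat_lit 0,nat_lit 1,nat_lit 2,nat_lit 4] (nat_lit 2) (nat_lit 10) (nat_lit 9) o8_c_N2 (nat_lit 449) o8_c_N3 o8_c_A2) = true := by decide +kernel

theorem o8_c_s2_1 : allRange (nat_lit 300) (nat_lit 27) (nodeOK o8_T (nat_lit 3) (nat_lit 12) [nat_lit 3,nat_lit 0,nat_lit 1,nat_lit 2,nat_lit 4] (nat_lit 2) (nat_lit 10) (nat_lit 9) o8_c_N2 (nat_lit 449) o8_c_N3 o8_c_A2) = true := by decide +kernel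

theorem o8_c_s2 : ∀ i < 327, (nodeOK o8_T (nat_lit 3) (nat_lit 12) [nat_lit 3,nat_lit 0,nat_lit 1,nat_lit 2,nat_lit 4] (nat_lit 2) (nat_lit 10) (nat_lit 9) o8_c_N2 (nat_lit 449) o8_c_N3 o8_c_A2) i = true := range_append 27 (allRange_zero o8_c_s2_0) o8_c_s2_1 (b := 327)

theorem o8_c_c3 {G : Type*} [Group G] (M : Mod G) (h : LM (fun i => pts M.x (o8_P i)) 3240 o8_T (M.wl o8_g) 16 [nat_lit 0,nat_lit 3,nat_lit 1,nat_lit 2,nat_lit 4,nat_lit 5,nat_lit 6]) : Cls (M.wl o8_g) 3 12 (ConjIn (genLt (M.wl o8_g) 16) (fun t => pcG (M.wl o8_g) 3 12 0 (o8_c_W t)) 13) 3 o8_c_N3 327 :=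
  have := M.fin
  cls_step (o8_p_lm M) (o8_p_pc M) (o8_p_cb M).1.ge (fun _ hu _ k => k.of_conj (genLt_mono _ (by decide) hu)) (o8_c_c2 M h) o8_c_s2 (by decide)

noncomputable def o8_c_A3 : ℕ → ℕ := fun i => Nat.land (Nat.shiftRight (nat_lit 0x809e8000006a70147809e9000004bf014700000000000000147808f7000006a70146808f7000004bf01460000000000000014680803000006a7014580802000004bf0145000000000000001458070f000006a7014480710000004bf0144000000000000001448061e000006a701438061e000004bf0143000000000000001438052a000006a7014280529000004bf01420000000000000014280436000006a7014180437000004bf01410000000000000014180345000006a7014080345000004bf01400000000000000014080251000006a7013f80250000004bf013f0000000000000013f7bd0c0001ecc1013e7bd05000119eb013e0000000000000013e7bc26000119eb013d7bc200001ecc1013d0000000000000013d0000000000000013c0000000000000013b0000000000000013a7ba3c00009bbe01397ba4300004dd60139000000000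000001397b95200009bbe01387b94600004dd60138000000000000001387b84d00009bbe01377b84900004dd60137000000000000001377b75f00004dd601367b76b00009bbe0136000000000000001367b66500004dd601357b66600009bbe0135000000000000001357b58300004dd601347b57c00009bbe01340000000000000013477023000004bf013377023000006a701330000000000000013376f31000004bf013276f2f000006a701320000000000000013276e3c000004bf013176e3e000006a701310000000000000013176d49000004bf013076d4b000006a701300000000000000013076c57000004bf012f76c57000006a7012f0000000000000012f76b65000004bf012e76b63000006a7012e0000000000000012e76a72000004bf012d76a70000006a7012d0000000000000012d7697d000004bf012c7697f000006a7012c0000000000000012c7688b000004bf012b7688b000006a7012b0000000000000012b74eea000004bf012a74eea000006a7012a0000000000000012a73549000004bf012973549000006a701290000000000000012971bb6000002d9012871bbe000005b201280000000000000012870217000002d901277021b00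0005b20127000000000000001276f00c000002d901266f014000005b20126000000000000001266ef1a000002d901256ef20000005b20125000000000000001256ee28000002d901246ee2c000005b20124000000000000001246ed34000002d901236ed3a000005b20123000000000000001236ec42000002d901226ec46000005b20122000000000000001226eb4d000002d901216eb55000005b20121000000000000001216ea5c000002d901206ea60000005b20120000000000000001206e967000002d9011f6e96f000005b2011f0000000000000011f6e875000002d9011e6e87b000005b2011e0000000000000011e6a327000005b2011d6a332000002d9011d0000000000000011d6a233000005b2011c6a240000002d9011c0000000000000011c6a142000005b2011b6a14e000002d9011b0000000000000011b6a04f000005b2011a6a05b000002d9011a0000000000000011a69f5b000005b2011969f66000002d901190000000000000011969e67000005b2011869e74000002d901180000000000000011869d74000005b2011769d81000002d901170000000000000011769c83000005b2011669c8f000002d901160000000000000011669b8f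000005b2011569b9a000002d9011500000000000000115656390001edd801146563f00011bd10114000000000000001146555d00011bd10113655530001edd80113000000000000001130000000000000011200000000000000111000000000000001106536c00009ac2010f6537700004ec9010f0000000000000010f6528200009ac2010e6527a00004ec9010e0000000000000010e6517d00009ac2010d6518000004ec9010d0000000000000010d6509500004ec9010c6509c00009ac2010c0000000000000010c64f9800004ec9010b64f9700009ac2010b0000000000000010b64eb900004ec9010a64ead00009ac2010a0000000000000010a6230900000799010962300000003cc010900000000000000109622150000079901086220b000003cc0108000000000000001086212100000799010762119000003cc0107000000000000001076202f00000799010662025000003cc01060000000000000010661f3b00000799010561f33000003cc01050000000000000010561e4a00000799010461e41000003cc01040000000000000010461d5500000799010361d4d000003cc01030000000000000010361c6400000799010261c5b000003cc0102000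0000000000010261b7000000799010161b66000003cc0101000000000000001015d62b00011ade01005d6210001ee9e010000000000000000100000000000000000ff000000000000000fe000000000000000fd5d42e0001ee9e00fc5d43400011ade00fc000000000000000fc5d34d000099c600fb5d34200004ce300fb000000000000000fb5d248000099c600fa5d24800004ce300fa000000000000000fa5d15e000099c600f95d16600004ce300f9000000000000000f95d06200004ce300f85d060000099c600f8000000000000000f85cf8000004ce300f75cf76000099c600f7000000000000000f75ce8300004ce300f65ce8c000099c600f6000000000000000f659b4a000003cc00f559b430000079900f5000000000000000f558941000003cc00f45893a0000079900f4000000000000000f45884f000003cc00f3588460000079900f3000000000000000f35875d000003cc00f2587520000079900f2000000000000000f258668000003cc00f1586610000079900f1000000000000000f158576000003cc00f05856d0000079900f0000000000000000f058484000003cc00ef584790000079900ef000000000000000ef5838f000003cc00ee5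83880000079900ee000000000000000ee5829d000003cc00ed582940000079900ed000000000000000ed581ab000003cc00ec581a00000079900ec000000000000000ec56809000003cc00eb568000000079900eb000000000000000eb522b7000002d900ea522c5000005b200ea000000000000000ea521c5000002d900e9521d1000005b200e9000000000000000e9520d3000002d900e8520dd000005b200e8000000000000000e851fdf000002d900e751feb000005b200e7000000000000000e751eed000002d900e651ef7000005b200e6000000000000000e651df8000002d900e551e06000005b200e5000000000000000e551d07000002d900e451d11000005b200e4000000000000000e451c12000002d900e351c20000005b200e3000000000000000e351b20000002d900e251b2c000005b200e2000000000000000e250181000005b200e150188000002d900e1000000000000000e14e7e2000005b200e04e7e8000002d900e0000000000000000e04d5d8000005b200df4d5dd000002d900df000000000000000df4d4e4000005b200de4d4eb000002d900de000000000000000de4d3f3000005b200dd4d3f9000002d900dd000000000000000d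d4d300000005b200dc4d306000002d900dc000000000000000dc4d20c000005b200db4d211000002d900db000000000000000db4d118000005b200da4d11f000002d900da000000000000000da4d025000005b200d94d02c000002d900d9000000000000000d94cf34000005b200d84cf3a000002d900d8000000000000000d84ce40000005b200d74ce45000002d900d7000000000000000d7488fd00004ce300d6488f2000099c600d6000000000000000d64880300004ce300d548808000099c600d5000000000000000d54870600004ce300d448703000099c600d4000000000000000d44861f0001edd800d34861c00011bd100d3000000000000000d34851f00011bd100d2485210001edd800d2000000000000000d2000000000000000d1000000000000000d0000000000000000cf48336000099c600ce4833a00004ce300ce000000000000000ce4824c000099c600cd4825800004ce300cd000000000000000cd48162000099c600cc4815e00004ce300cc000000000000000cc455bd0001ee9e00cb455ac00011ade00cb000000000000000cb454b200011ade00ca454b30001ee9e00ca000000000000000ca000000000000000c900000000000000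0c8000000000000000c7452ca00009ac200c6452cb00004ec900c6000000000000000c6451e000009ac200c5451e900004ec900c5000000000000000c5450f600009ac200c4450ef00004ec900c4000000000000000c44500400004ec900c344ffa00009ac200c3000000000000000c344f0700004ec900c244f1000009ac200c2000000000000000c244e0d00004ec900c144e0b00009ac200c1000000000000000c1408c2000004bf00c0408c0000006a700c0000000000000000c0407cd000004bf00bf407cf000006a700bf000000000000000bf406db000004bf00be406db000006a700be000000000000000be405e8000004bf00bd405e8000006a700bd000000000000000bd404f6000004bf00bc404f4000006a700bc000000000000000bc40401000004bf00bb40403000006a700bb000000000000000bb4030e000004bf00ba40310000006a700ba000000000000000ba4021c000004bf00b94021c000006a700b9000000000000000b94012a000004bf00b840128000006a700b8000000000000000b83cde6000006a700b73cde7000004bf00b7000000000000000b73bbdd000006a700b63bbde000004bf00b6000000000000000b63baec000006a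700b53baec000004bf00b5000000000000000b53b9f8000006a700b43b9f7000004bf00b4000000000000000b43b904000006a700b33b905000004bf00b3000000000000000b33b813000006a700b23b813000004bf00b2000000000000000b23b71f000006a700b13b71e000004bf00b1000000000000000b13b62b000006a700b03b62c000004bf00b0000000000000000b03b53a000006a700af3b53a000004bf00af000000000000000af3b446000006a700ae3b445000004bf00ae000000000000000ae39aa6000006a700ad39aa6000004bf00ad000000000000000ad388b000004dd600ac388ab00009bbe00ac000000000000000ac387b600004dd600ab387c100009bbe00ab000000000000000ab386b900004dd600aa386bc00009bbe00aa000000000000000aa385dc0001ecc100a9385cb000119eb00a9000000000000000a9384d1000119eb00a8384d20001ecc100a8000000000000000a8000000000000000a7000000000000000a6000000000000000a5382f100009bbe00a4382ee00004dd600a4000000000000000a43820700009bbe00a33820c00004dd600a3000000000000000a33811d00009bbe00a23810f00004dd600a20000000000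00000a233bca000003cc00a133bc30000079900a1000000000000000a133ad8000003cc00a033acf0000079900a0000000000000000a0339e6000003cc009f339db00000799009f0000000000000009f338f1000003cc009e338ea00000799009e0000000000000009e337ff000003cc009d337f600000799009d0000000000000009d3370d000003cc009c3370200000799009c0000000000000009c33618000003cc009b3361100000799009b0000000000000009b33526000003cc009a3351d00000799009a0000000000000009a33434000003cc009933429000007990099000000000000000992eee90000079900982eee0000003cc0098000000000000000982edf50000079900972edeb000003cc0097000000000000000972ed010000079900962ecf9000003cc0096000000000000000962ec0f0000079900952ec05000003cc0095000000000000000952eb1b0000079900942eb13000003cc0094000000000000000942ea2a0000079900932ea21000003cc0093000000000000000932e9350000079900922e92d000003cc0092000000000000000922e8440000079900912e83b000003cc0091000000000000000912e7500000079900902e746000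003cc0090000000000000000902cdb000000799008f2cda7000003cc008f0000000000000008f2b40d00000799008e2b405000003cc008e0000000000000008e293ce000000f3008d293c3000001e6008d0000000000000008d292db000000f3008c292d0000001e6008c0000000000000008c291e8000000f3008b291dd000001e6008b0000000000000008b28b44000000f3008a28b37000001e6008a0000000000000008a28a51000000f3008928a44000001e60089000000000000000892895e000000f3008828951000001e6008800000000000000088282b7000000f30087282ab000001e6008700000000000000087281c4000000f30086281b8000001e6008600000000000000086280d1000000f30085280c5000001e6008500000000000000085246d9000000f30084246d7000001e6008400000000000000084245e6000000f30083245e4000001e6008300000000000000083244f3000000f30082244f1000001e600820000000000000008223e4d000000f3008123e4a000001e600810000000000000008123d5a000000f3008023d57000001e600800000000000000008023c67000000f3007f23c64000001e6007f0000000000000007f235c40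00000f3007e235c0000001e6007e0000000000000007e234d1000000f3007d234cd000001e6007d0000000000000007d233de000000f3007c233da000001e6007c0000000000000007c1fa00000000f3007b1fa05000001e6007b0000000000000007b1f90d000000f3007a1f912000001e6007a0000000000000007a1f81a000000f300791f81f000001e60079000000000000000791f175000000f300781f17a000001e60078000000000000000781f082000000f300771f087000001e60077000000000000000771ef8f000000f300761ef94000001e60076000000000000000761e8ea000000f300751e8ef000001e60075000000000000000751e7f7000000f300741e7fc000001e60074000000000000000741e704000000f300731e709000001e60073000000000000000731c6af000001e600721c6ae000000f30072000000000000000721c5bc000001e600711c5bb000000f30071000000000000000711c4c9000001e600701c4c8000000f30070000000000000000701be24000001e6006f1be23000000f3006f0000000000000006f1bd31000001e6006e1bd30000000f3006e0000000000000006e1bc3e000001e6006d1bc3d000000f3006d0000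000000000006d1b599000001e6006c1b598000000f3006c0000000000000006c1b4a6000001e6006b1b4a5000000f3006b0000000000000006b1b3b3000001e6006a1b3b2000000f3006a0000000000000006a179de000001e60069179d4000000f3006900000000000000069178eb000001e60068178e1000000f3006800000000000000068177f8000001e60067177ee000000f300670000000000000006717152000001e600661714a000000f30066000000000000000661705f000001e6006517057000000f300650000000000000006516f6c000001e6006416f64000000f3006400000000000000064168c6000001e60063168bd000000f3006300000000000000063167d3000001e60062167ca000000f3006200000000000000062166e0000001e60061166d7000000f300610000000000000006112cf1000001e6006012cfb000000f300600000000000000006012bfe000001e6005f12c08000000f3005f0000000000000005f12b0b000001e6005e12b15000000f3005e0000000000000005e12467000001e6005d1246f000000f3005d0000000000000005d12374000001e6005c1237c000000f3005c0000000000000005c12281000001e6005b12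289000000f3005b0000000000000005b11bda000001e6005a11be3000000f3005a0000000000000005a11ae7000001e6005911af0000000f3005900000000000000059119f4000001e60058119fd000000f30058000000000000000580cd12000002d900570cd1b000005b20057000000000000000570b372000002d900560b379000005b20056000000000000000560b098000002d900550b0a1000005b20055000000000000000550adc0000002d900540adc7000005b20054000000000000000540aae5000002d900530aaf0000005b20053000000000000000530a80d000002d900520a816000005b20052000000000000000520a535000002d900510a53c000005b20051000000000000000510a25a000002d900500a265000005b200500000000000000005009f82000002d9004f09f8b000005b2004f0000000000000004f09caa000002d9004e09cb1000005b2004e0000000000000004e099cf000002d9004d099da000005b2004d0000000000000004d0802e000005b2004c08038000002d9004c0000000000000004c0668e000005b2004b06696000002d9004b0000000000000004b063b5000005b2004a063bd000002d9004a0000000000000004a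060dd000005b20049060e6000002d900490000000000000004905e02000005b2004805e0c000002d900480000000000000004805b2b000005b2004705b34000002d900470000000000000004705850000005b200460585a000002d900460000000000000004605578000005b2004505580000002d90045000000000000000450529e000005b20044052a8000002d900440000000000000004404fc6000005b2004304fce000002d900430000000000000004304cee000005b2004204cf7000002d900420000000000000004200000000000000041000000000000000400000000000000003f0000000000000003e0000000000000003d0000000000000003c0000000000000003b0000000000000003a00000000000000039000000000000000380000000000000003700000000000000036000000000000000350000000000000003400000000000000033000000000000000320000000000000003100000000000000030018bb0001cd52002f018c50000e6a9002f0000000000000002f017c80000e6a9002e017cd0001cd52002e0000000000000002e0000000000000002d0000000000000002c0000000000000002b0000000000000002a000000000000000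2900000000000000028014e900021ba70027014e40001806f002700000000000000027013ef0001806f0026013f200021ba700260000000000000002600000000000000025000000000000000240000000000000002301222000269e50022012140001338c002200000000000000022011290001338c002101124000269e5002100000000000000021010240001806f00200102800021ba70020000000000000000200000000000000001f0000000000000001e0000000000000001d00e4300021ba7001c00e3d0001806f001c0000000000000001c00d530001cd52001b00d640000e6a9001b0000000000000001b00c670000e6a9001a00c710001cd52001a0000000000000001a00000000000000019000000000000000180000000000000001700a840001338c001600a7f000269e5001600000000000000016000000000000000150000000000000001400000000000000013008a4000269e50012008960001338c001200000000000000012007aa000099c60011007a300004ce3001100000000000000011006a5000099c60010006a600004ce3001000000000000000010005bb000099c6000f005c400004ce3000f0000000000000000f004c000004ce3000e004c0000099c6000e0000000000000000e003de00004ce3000d003d6000099c6000d0000000000000000d002e400004ce3000c002ec000099c6000c0000000000000000c001f70001cd52000b001fa0000e6a9000b0000000000000000b000fd0000e6a9000a001090001cd52000a0000000000000000a000000000000000090000000000000000800000000000000007000000000000000060000000000000000500000000000000004000000000000000030000000000000000200000000000000001)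 (Nat.mul (nat_lit 68) i)) (nat_lit 0xfffffffffffffffff)

theorem o8_c_s3 : ∀ i < 285, (nodeOK o8_T (nat_lit 3) (nat_lit 12) [nat_lit 3,nat_lit 0,nat_lit 1,nat_lit 2,nat_lit 4] (nat_lit 3) (nat_lit 9) (nat_lit 27) o8_c_N3 (nat_lit 327) o8_c_N4 o8_c_A3) i = true := allRange_zero (len := (nat_lit 285)) (by decide +kernel)

theorem o8_c_c4 {G : Type*} [Group G] (M : Mod G) (h : LM (fun i => pts M.x (o8_P i)) 3240 o8_T (M.wl o8_g) 16 [nat_lit 0,nat_lit 3,nat_lit 1,nat_lit 2,nat_lit 4,nat_lit 5,nat_lit 6]) : Cls (M.wl o8_g) 3 12 (ConjIn (genLt (M.wl o8_g) 16) (fun t => pcG (M.wl o8_g) 3 12 0 (o8_c_W t)) 13) 4 o8_c_N4 285 :=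
  have := M.fin
  cls_step (o8_p_lm M) (o8_p_pc M) (o8_p_cb M).1.ge (fun _ hu _ k => k.of_conj (genLt_mono _ (by decide) hu)) (o8_c_c3 M h) o8_c_s3 (by decide)

noncomputable def o8_c_A4 : ℕ → ℕ := fun i => Nat.land (Nat.shiftRight (nat_lit 0x80a10000000f3011d80a36000001e6011d0000000000000011d8091c000000f3011c80944000001e6011c0000000000000011c8082b000000f3011b80852000001e6011b0000000000000011b80738000000f3011a8075f000001e6011a0000000000000011a80644000000f301198066a000001e601190000000000000011980550000000f3011880578000001e60118000000000000001188045d000000f3011780485000001e60117000000000000001178036c000000f3011680393000001e601160000000000000011680278000000f301158029e000001e6011500000000000000115000e2000000000000000e3000000000000000e10000000000000008100000000000000083000000000000000820000000000007bd3a000000f301147bd49000001e60114000000000000001147bc46000000f301137bc54000001e60113000000000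000001137bb52000000f301127bb62000001e60112000000000000001127ba5f000000f301117ba6f000001e60111000000000000001117b96e000000f301107b97d000001e60110000000000000001107b87a000000f3010f7b888000001e6010f0000000000000010f7b787000000f3010e7b795000001e6010e0000000000000010e7b693000000f3010d7b6a3000001e6010d0000000000000010d7b5a2000000f3010c7b5b1000001e6010c0000000000000010c000780000000000000007a00000000000000079000000000000000ef000000000000000ed000000000000000ee0000000000007703e000000f3010b77058000001e6010b0000000000000010b76f4a000000f3010a76f66000001e6010a0000000000000010a76e59000000f3010976e74000001e601090000000000000010976d66000000f3010876d81000001e601080000000000000010876c72000000f3010776c8c000001e601070000000000000010776b7e000000f3010676b9a000001e601060000000000000010676a8b000000f3010576aa7000001e60105000000000000001057699a000000f30104769b5000001e6010400000000000000104768a6000000f30103768c000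0001e601030000000000000010374f05000000f3010274f1f000001e601020000000000000010273564000000f301017357e000001e601010000000000000010171bf2000000f3010071bd2000001e601000000000000000010070253000000f300ff70232000001e600ff000000000000000ff6f04a000000f300fe6f029000001e600fe000000000000000fe6ef56000000f300fd6ef34000001e600fd000000000000000fd6ee62000000f300fc6ee42000001e600fc000000000000000fc6ed70000000f300fb6ed4e000001e600fb000000000000000fb6ec7c000000f300fa6ec5c000001e600fa000000000000000fa6eb8b000000f300f96eb6a000001e600f9000000000000000f96ea96000000f300f86ea76000001e600f8000000000000000f86e9a5000000f300f76e984000001e600f7000000000000000f76e8b1000000f300f66e88f000001e600f6000000000000000f6000cf000000000000000d0000000000000000d10000000000000009400000000000000093000000000000000950000000000006a357000000f300f56a338000001e600f5000000000000000f56a263000000f300f46a246000001e600f4000000000000000f46a172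000000f300f36a154000001e600f3000000000000000f36a07d000000f300f26a060000001e600f2000000000000000f269f8c000000f300f169f6e000001e600f1000000000000000f169e98000000f300f069e79000001e600f0000000000000000f069da6000000f300ef69d88000001e600ef000000000000000ef69cb2000000f300ee69c93000001e600ee000000000000000ee69bbe000000f300ed69ba1000001e600ed000000000000000ed000890000000000000008800000000000000087000000000000000bd000000000000000be000000000000000bf00000000000065677000000f300ec65664000001e600ec000000000000000ec65583000000f300eb65572000001e600eb000000000000000eb65492000000f300ea65480000001e600ea000000000000000ea6539d000000f300e96538c000001e600e9000000000000000e9652ac000000f300e86529a000001e600e8000000000000000e8651b8000000f300e7651a5000001e600e7000000000000000e7650c6000000f300e6650b4000001e600e6000000000000000e664fd2000000f300e564fbf000001e600e5000000000000000e564ede000000f300e464ecd000001e600e4000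000000000000e40005f0000000000000005d0000000000000005e000000000000622f5000000f300e3622f6000001e600e3000000000000000e362204000000f300e262204000001e600e2000000000000000e262110000000f300e16210f000001e600e1000000000000000e16201c000000f300e06201d000001e600e0000000000000000e061f2b000000f300df61f2b000001e600df000000000000000df61e37000000f300de61e36000001e600de000000000000000de61d43000000f300dd61d44000001e600dd000000000000000dd61c52000000f300dc61c52000001e600dc000000000000000dc61b5e000000f300db61b5d000001e600db000000000000000db000bc000000000000000bb000000000000000ba000000000000000a9000000000000000a9000000000000000a90000000000005d61e000000f300da5d62b000001e600da000000000000000da5d52d000000f300d95d539000001e600d9000000000000000d95d439000000f300d85d444000001e600d8000000000000000d85d345000000f300d75d352000001e600d7000000000000000d75d254000000f300d65d260000001e600d6000000000000000d65d160000000f300d55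d16b000001e600d5000000000000000d55d06c000000f300d45d079000001e600d4000000000000000d45cf7b000000f300d35cf87000001e600d3000000000000000d35ce87000000f300d25ce92000001e600d2000000000000000d200052000000000000000520000000000000005200000000000059b52000000f300d159b46000001e600d1000000000000000d158948000000f300d05893b000001e600d0000000000000000d058854000000f300cf58849000001e600cf000000000000000cf58763000000f300ce58757000001e600ce000000000000000ce5866f000000f300cd58662000001e600cd000000000000000cd5857b000000f300cc58570000001e600cc000000000000000cc5848a000000f300cb5847e000001e600cb000000000000000cb58396000000f300ca58389000001e600ca000000000000000ca582a2000000f300c958297000001e600c9000000000000000c9581b1000000f300c8581a5000001e600c8000000000000000c856810000000f300c756804000001e600c7000000000000000c7000d4000000000000000d3000000000000000d200000000000000097000000000000000980000000000000009600000000000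0522e2000001e600c6522c7000000f300c6000000000000000c6521ee000001e600c5521d5000000f300c5000000000000000c5520fd000001e600c4520e0000000f300c4000000000000000c45200a000001e600c351fed000000f300c3000000000000000c351f16000001e600c251efb000000f300c2000000000000000c251e22000001e600c151e09000000f300c1000000000000000c151d2f000001e600c051d16000000f300c0000000000000000c051c3e000001e600bf51c21000000f300bf000000000000000bf51b4a000001e600be51b2f000000f300be000000000000000be501bd000001e600bd5019e000000f300bd000000000000000bd4e81d000001e600bc4e7fc000000f300bc000000000000000bc4d615000001e600bb4d5f2000000f300bb000000000000000bb4d521000001e600ba4d500000000f300ba000000000000000ba4d42d000001e600b94d40e000000f300b9000000000000000b94d33a000001e600b84d31b000000f300b8000000000000000b84d249000001e600b74d226000000f300b7000000000000000b74d155000001e600b64d134000000f300b6000000000000000b64d062000001e600b54d041000000f30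0b5000000000000000b54cf6e000001e600b44cf4f000000f300b4000000000000000b44ce7d000001e600b34ce5a000000f300b3000000000000000b3000870000000000000008800000000000000089000000000000000be000000000000000bd000000000000000bf0000000000004892c000001e600b248915000000f300b2000000000000000b248838000001e600b148823000000f300b1000000000000000b148744000001e600b048731000000f300b0000000000000000b048651000001e600af4863e000000f300af000000000000000af48560000001e600ae48549000000f300ae000000000000000ae4846c000001e600ad48457000000f300ad000000000000000ad48379000001e600ac48364000000f300ac000000000000000ac48285000001e600ab48272000000f300ab000000000000000ab48194000001e600aa4817d000000f300aa000000000000000aa000ee000000000000000ed000000000000000ef000000000000455d3000001e600a9455ea000000f300a9000000000000000a9454e2000001e600a8454f5000000f300a8000000000000000a8453ee000001e600a745403000000f300a7000000000000000a7452fa000001e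600a645311000000f300a6000000000000000a645209000001e600a54521c000000f300a5000000000000000a545115000001e600a44512a000000f300a4000000000000000a445021000001e600a345038000000f300a3000000000000000a344f30000001e600a244f43000000f300a2000000000000000a244e3c000001e600a144e51000000f300a1000000000000000a100078000000000000000790000000000000007a000000000000000820000000000000008300000000000000081000000000000408ec000001e600a04090b000000f300a0000000000000000a0407f8000001e6009f40819000000f3009f0000000000000009f40704000001e6009e40727000000f3009e0000000000000009e40613000001e6009d40632000000f3009d0000000000000009d4051f000001e6009c40540000000f3009c0000000000000009c4042b000001e6009b4044e000000f3009b0000000000000009b4033a000001e6009a40359000000f3009a0000000000000009a40246000001e6009940267000000f300990000000000000009940152000001e6009840175000000f3009800000000000000098000e1000000000000000e3000000000000000e200000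00000003ce03000001e600973ce1c000000f30097000000000000000973bbf8000001e600963bc15000000f30096000000000000000963bb07000001e600953bb20000000f30095000000000000000953ba13000001e600943ba2e000000f30094000000000000000943b91f000001e600933b93c000000f30093000000000000000933b82e000001e600923b847000000f30092000000000000000923b73a000001e600913b755000000f30091000000000000000913b646000001e600903b663000000f30090000000000000000903b555000001e6008f3b56e000000f3008f0000000000000008f3b461000001e6008e3b47c000000f3008e0000000000000008e39abf000001e6008d39adc000000f3008d0000000000000008d388a5000001e6008c388ae000000f3008c0000000000000008c387b1000001e6008b387bc000000f3008b0000000000000008b386c0000001e6008a386c7000000f3008a0000000000000008a385cb000001e60089385d6000000f3008900000000000000089384da000001e60088384e1000000f3008800000000000000088383e6000001e60087383ef000000f3008700000000000000087382f4000001e60086382fb000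000f300860000000000000008638200000001e6008538209000000f30085000000000000000853810c000001e6008438117000000f3008400000000000000084000520000000000000005200000000000000052000000000000000aa000000000000000aa000000000000000aa00000000000033bbc000001e6008333bbf000000f300830000000000000008333ac8000001e6008233acd000000f3008200000000000000082339d7000001e60081339d8000000f3008100000000000000081338e2000001e60080338e7000000f3008000000000000000080337f1000001e6007f337f2000000f3007f0000000000000007f336fd000001e6007e33700000000f3007e0000000000000007e3360b000001e6007d3360c000000f3007d0000000000000007d33517000001e6007c3351a000000f3007c0000000000000007c33423000001e6007b33428000000f3007b0000000000000007b000b9000000000000000b7000000000000000b80000000000000005b0000000000000005a0000000000000005c0000000000002eeed000001e6007a2eee3000000f3007a0000000000000007a2edfc000001e600792edee000000f30079000000000000000792ed080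00001e600782ecfc000000f30078000000000000000782ec16000001e600772ec08000000f30077000000000000000772eb22000001e600762eb16000000f30076000000000000000762ea2e000001e600752ea24000000f30075000000000000000752e93c000001e600742e930000000f30074000000000000000742e848000001e600732e83e000000f30073000000000000000732e757000001e600722e749000000f30072000000000000000722cdb5000001e600712cda9000000f30071000000000000000712b413000001e600702b409000000f3007000000000000000070000520000000000000005200000000000000052000000000000293e8000005b2006f293f7000002d9006f0000000000000006f292f6000005b2006e29306000002d9006e0000000000000006e29204000005b2006d29212000002d9006d0000000000000006d28b5d000005b2006c28b6c000002d9006c0000000000000006c28a6b000005b2006b28a7b000002d9006b0000000000000006b28979000005b2006a28987000002d9006a0000000000000006a282d2000005b20069282e1000002d9006900000000000000069281e0000005b20068281f0000002d900680000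0000000000068280ee000005b20067280fc000002d9006700000000000000067000a8000000000000000a8000000000000000a80000000000000007a0000000000000007900000000000000078000000000000246db000005b20066246e5000002d9006600000000000000066245e9000005b20065245f1000002d9006500000000000000065244f7000005b2006424500000002d900640000000000000006423e51000005b2006323e59000002d900630000000000000006323d5f000005b2006223d68000002d900620000000000000006223c6a000005b2006123c74000002d9006100000000000000061235c7000005b20060235d0000002d9006000000000000000060234d2000005b2005f234dc000002d9005f0000000000000005f233e0000005b2005e233e8000002d9005e0000000000000005e000ed000000000000000ee000000000000000ef0000000000000008f0000000000000008d0000000000000008e0000000000001fa29000005b2005d1fa11000002d9005d0000000000000005d1f937000005b2005c1f91d000002d9005c0000000000000005c1f842000005b2005b1f82c000002d9005b0000000000000005b1f19d000005b2005a1f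187000002d9005a0000000000000005a1f0ab000005b200591f093000002d90059000000000000000591efb9000005b200581ef9f000002d90058000000000000000581e914000005b200571e8fa000002d90057000000000000000571e81f000005b200561e809000002d90056000000000000000561e72d000005b200551e715000002d9005500000000000000055000c4000000000000000c3000000000000000c50000000000001c6bc000002d900541c6c4000005b20054000000000000000541c5c9000002d900531c5d1000005b20053000000000000000531c4d6000002d900521c4de000005b20052000000000000000521be31000002d900511be39000005b20051000000000000000511bd3e000002d900501bd46000005b20050000000000000000501bc4b000002d9004f1bc53000005b2004f0000000000000004f1b5a6000002d9004e1b5ae000005b2004e0000000000000004e1b4b3000002d9004d1b4bb000005b2004d0000000000000004d1b3c0000002d9004c1b3c8000005b2004c0000000000000004c000eb000000000000000ea000000000000000ec000000000000000770000000000000007500000000000000076000000000000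179f8000002d9004b17a0b000005b2004b0000000000000004b17905000002d9004a17918000005b2004a0000000000000004a17812000002d9004917825000005b20049000000000000000491716c000002d900481717e000005b200480000000000000004817079000002d900471708b000005b200470000000000000004716f86000002d9004616f98000005b2004600000000000000046168e3000002d90045168f4000005b2004500000000000000045167f0000002d9004416801000005b2004400000000000000044166fd000002d900431670e000005b2004300000000000000043000aa000000000000000aa000000000000000aa00000000000000053000000000000000530000000000000005300000000000012d21000002d9004212d08000005b200420000000000000004212c2e000002d9004112c15000005b200410000000000000004112b3b000002d9004012b22000005b200400000000000000004012497000002d9003f1247f000005b2003f0000000000000003f123a4000002d9003e1238c000005b2003e0000000000000003e122b1000002d9003d12299000005b2003d0000000000000003d11c0a000002d9003c11bf3000005b200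3c0000000000000003c11b17000002d9003b11b00000005b2003b0000000000000003b11a24000002d9003a11a0d000005b2003a0000000000000003a000c1000000000000000c2000000000000000c00000000000000008a0000000000000008c0000000000000008b0000000000000cd1b0000111600390cd120000088b0039000000000000000390b37a0000111600380b3710000088b0038000000000000000380b0a00000111600370b0990000088b0037000000000000000370adc90000111600360adbe0000088b0036000000000000000360aaef0000111600350aae60000088b0035000000000000000350a8150000111600340a80e0000088b0034000000000000000340a53e0000111600330a5330000088b0033000000000000000330a2640000111600320a25b0000088b00320000000000000003209f8a00001116003109f830000088b00310000000000000003109cb300001116003009ca80000088b003000000000000000030099d900001116002f099d00000088b002f0000000000000002f0803e0000088b002e0803100001116002e0000000000000002e0669e0000088b002d0669200001116002d0000000000000002d063c30000088b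002c063b800001116002c0000000000000002c060ea0000088b002b060df00001116002b0000000000000002b05e110000088b002a05e0600001116002a0000000000000002a05b380000088b002905b2d000011160029000000000000000290585f0000088b00280585400001116002800000000000000028055860000088b00270557b00001116002700000000000000027052ad0000088b0026052a20000111600260000000000000002604fd40000088b002504fc90000111600250000000000000002504cfb0000088b002404cf000001116002400000000000000024000000000000000230000000000000002200000000000000021000000000000000200000000000000001f0000000000000001e018eb00004ce3001d018ca000099c6001d0000000000000001d0180b00004ce3001c017e1000099c6001c0000000000000001c0170d00004ce3001b016f5000099c6001b0000000000000001b0160800004ce3001a01614000099c6001a0000000000000001a0150d00004ce300190152b000099c60019000000000000000190141200004ce3001801427000099c60018000000000000000180130c00004ce300170130e000099c6001700000000000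0000170121100004ce300160120a000099c60016000000000000000160112e00004ce3001501121000099c600150000000000000001501047000099c600140106f00004ce300140000000000000001400f5f000099c6001300f7300004ce300130000000000000001300e59000099c6001200e7700004ce300120000000000000001200d93000099c6001100d7200004ce300110000000000000001100c8d000099c6001000c7600004ce300100000000000000001000ba5000099c6000f00b9500004ce3000f0000000000000000f00a71000099c6000e00a7400004ce3000e0000000000000000e00989000099c6000d0099300004ce3000d0000000000000000d0089e000099c6000c0089700004ce3000c0000000000000000c007c70000e6a9000b007d90001cd52000b0000000000000000b006b10000e6a9000a006b70001cd52000a0000000000000000a005ef0000e6a90009005ce0001cd52000900000000000000009004c90001cd520008004d90000e6a9000800000000000000008003f90001cd5200070040d0000e6a9000700000000000000007003110001cd520006002f90000e6a9000600000000000000006001f9000567f60005001f70002b3fb0005000000000000000050010a0002b3fb0004000fd000567f6000400000000000000004000000000000000030000000000000000200000000000000001)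 (Nat.mul (nat_lit 68) i)) (nat_lit 0xfffffffffffffffff)

theorem o8_c_s4_0 : allRange (nat_lit 0) (nat_lit 300) (nodeOK o8_T (nat_lit 3) (nat_lit 12) [nat_lit 3,nat_lit 0,nat_lit 1,nat_lit 2,nat_lit 4] (nat_lit 4) (nat_lit 8) (nat_lit 81) o8_c_N4 (nat_lit 285) o8_c_N5 o8_c_A4) = true := by decide +kernel

theorem o8_c_s4_1 : allRange (nat_lit 300) (nat_lit 15) (nodeOK o8_T (nat_lit 3) (nat_lit 12) [nat_lit 3,nat_lit 0,nat_lit 1,nat_lit 2,nat_lit 4] (nat_lit 4) (nat_lit 8) (nat_lit 81) o8_c_N4 (nat_lit 285) o8_c_N5 o8_c_A4) = true := by decide +kernel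

theorem o8_c_s4 : ∀ i < 315, (nodeOK o8_T (nat_lit 3) (nat_lit 12) [nat_lit 3,nat_lit 0,nat_lit 1,nat_lit 2,nat_lit 4] (nat_lit 4) (nat_lit 8) (nat_lit 81) o8_c_N4 (nat_lit 285) o8_c_N5 o8_c_A4) i = true := range_append 15 (allRange_zero o8_c_s4_0) o8_c_s4_1 (b := 315)

theorem o8_c_c5 {G : Type*} [Group G] (M : Mod G) (h : LM (fun i => pts M.x (o8_P i)) 3240 o8_T (M.wl o8_g) 16 [nat_lit 0,nat_lit 3,nat_lit 1,nat_lit 2,nat_lit 4,nat_lit 5,nat_lit 6]) : Cls (M.wl o8_g) 3 12 (ConjIn (genLt (M.wl o8_g) 16) (fun t => pcG (M.wl o8_g) 3 12 0 (o8_c_W t)) 13) 5 o8_c_N5 315 :=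
  have := M.fin
  cls_step (o8_p_lm M) (o8_p_pc M) (o8_p_cb M).1.ge (fun _ hu _ k => k.of_conj (genLt_mono _ (by decide) hu)) (o8_c_c4 M h) o8_c_s4 (by decide)

noncomputable def o8_c_A5 : ℕ → ℕ := fun i => Nat.land (Nat.shiftRight (nat_lit 0x4ec000000000000009d0000000000000013900000000000000270000000000000004dc000000000000009b0000000000000013500000000000000268000000000000004cff4900000267180997e99b000099c6013200000000000000265f3d040002671804c7e7ac8000267180988000000000000013100000000000000260000000000000004bc00000000000000970000000000000012d00000000000000258000000000000004ac00000000000000950000000000000012900000000000000251e71340001338c049fce5200004ce3009380000000000000127f04980001338c024de09bc0001338c0498000000000000009300000000000000125000000000000002480000000000000048c000000000000009100000000000000121000000000000002400000000000000047c000000000000008f0000000000000011de9ec2000099c6023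9d3f30000267180470000000000000008e73573000099c6011be6b02000099c602360000000000000046f8deb80002671808d71be4000099c6011a00000000000000235c09d8000267180467817500002671808c80000000000000119000000000000002300000000000000045c000000000000008b00000000000000115000000000000002280000000000000044c00000000000000890000000000000011100000000000000221b3be40001338c043f677f80004ce300878000000000000010fd6b1e0001338c021dad82c0001338c043800000000000000870000000000000010d000000000000002180000000000000042c000000000000008500000000000000109000000000000002100000000000000041c000000000000008300000000000000105d041e000099c60209a085c0002671804100000000000000082668b4000099c60103cd246000099c602060000000000000040c00000000000000810000000000000010100000000000000200000000000000003fc000000000000007f000000000000000fd000000000000001f8000000000000003ec000000000000007d635a0000099c600f9c6ab8000099c601f2000000000000003e40000000000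00007c000000000000000f7000000000000001ec000000000000003d4000000000000007a000000000000000f3000000000000001e4000000000000003c40000000000000078602aa00004ce300efc045a0001338c01de000000000000003bef46980004ce300775e87f00004ce300ee000000000000001dc000000000000003b40000000000000076000000000000000eb000000000000001d4000000000000003a40000000000000074000000000000000e7000000000000001cc00000000000000396dad90000267180725b55d000099c600e4000000000000001c966fa800026718038ecdc8800026718071800000000000000e3000000000000001c4000000000000003840000000000000070000000000000000df000000000000001bc00000000000000374000000000000006e000000000000000db000000000000001b55a37c0001338c0366b43580004ce3006c800000000000000d9a9dfc000099c601b153ae4000267180360000000000000006c535a6000099c600d7a6a72000099c601ae0000000000000035c000000000000006b000000000000000d5000000000000001a80000000000000034c0000000000000069000000000000000d100000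0000000001a00000000000000033c00000000000000675021b00004ce300cda03ac0001338c019a00000000000000336746180004ce300664e85600004ce300cc000000000000001980000000000000032c0000000000000065000000000000000c9000000000000001900000000000000031c0000000000000063000000000000000c5000000000000001880000000000000030e5a9c0000267180614b4f3000099c600c20000000000000018526f800002671803064db9800026718060800000000000000c100000000000000180000000000000002fc000000000000005f000000000000000bd00000000000000178000000000000002ec000000000000005d000000000000000b90000000000000017119f7c0002671802de33fb80002671805b800000000000000b70000000000000016c000000000000002d4000000000000005a000000000000000b300000000000000164000000000000002c40000000000000058000000000000000af0000000000000015d0d36c0001338c02b61aab00004ce30056800000000000000ad835e00001338c015906c180001338c02b00000000000000056000000000000000ab00000000000000154000000000000002a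40000000000000054000000000000000a70000000000000014c000000000000002940000000000000052000000000000000a37d008000099c60144fa1b800026718028800000000000000513ce03000099c600a179c4a000099c601420000000000000028400000000000000500000000000000009f0000000000000013c00000000000000274000000000000004e0000000000000009b0000000000000013400000000000000264000000000000004c39b2200004ce30097736fe0001338c012e0000000000000025c000000000000004b00000000000000095000000000000001280000000000000024c000000000000004900000000000000091000000000000001200000000000000023c00000000000000473677200004ce3008d6cede0001338c011a00000000000000235a72880004ce3004634e8600004ce3008c000000000000001180000000000000022c000000000000004500000000000000089000000000000001100000000000000021c000000000000004300000000000000085000000000000001080000000000000020d8d4180002671804131a97000099c6008200000000000000104c05e800026718020580d880002671804080000000000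00008100000000000000100000000000000001fc000000000000003f0000000000000007d000000000000000f8000000000000001ec000000000000003d00000000000000079000000000000000f0b36b80001338c01dd66ce00004ce3003b80000000000000077569120001338c00ecad30c0001338c01d8000000000000003b29a5f000099c60075534d4000099c600ea000000000000001d4000000000000003a00000000000000073000000000000000e4000000000000001c400000000000000380000000000000006f000000000000000dc000000000000001b40000000000000036267b800004ce3006b4cfb60001338c00d6000000000000001ad26c580004ce3003524d8b00004ce3006a000000000000000d4000000000000001a4000000000000003400000000000000067000000000000000cc00000000000000194000000000000003200000000000000063000000000000000c4000000000000001850d5e80002671803021b08000099c60060000000000000000c08029000026718017d004c00002671802f8000000000000005f000000000000000bc00000000000000174000000000000002e0000000000000005b000000000000000b400000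000000000164000000000000002c00000000000000057000000000000000ac7379c0001338c0154e70c80004ce3002a80000000000000055000000000000000a80000000000000014c000000000000002900000000000000051000000000000000a00000000000000013c00000000000000270000000000000004d00000000000000098668cc0001338c012ccd2d80004ce300258000000000000004b301de0001338c00946057c0001338c0128000000000000002500000000000000049000000000000000900000000000000011c000000000000002300000000000000045000000000000000880000000000000010c00000000000000210000000000000004129abe000099c60080535ac0002671801000000000000000020133fd000099c6003f268e4000099c6007e000000000000000fc000000000000001f0000000000000003d00000000000000078000000000000000ec000000000000001d0000000000000003900000000000000070000000000000000dc000000000000001b1006f00004ce30035201160001338c006a000000000000000d4739200004ce3001a0e78100004ce3003400000000000000068337180000cd0800cc66c880000cd08019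80000000000000033168480000668400642cfb80000668400c800000000000000190b14d0000334200311622c000033420062000000000000000c45739800019a100180ae3e000019a10030000000000000000602ae640000cd0800bc55b180000cd080178000000000000002f1518000006684005c2a2280000668400b800000000000000170a5e900003342002d14b6400003342005a000000000000000b45187800019a100160a2da000019a1002c00000000000000058280d80000cd0800ac500080000cd080158000000000000002b13ab8000066840054274980000668400a8000000000000001509a850000334200291349c000033420052000000000000000a4407c80000cd08014080bb0000334200280000000000000005019d5c00006684009c338d800019a10013800000000000000270c8fe00003342004c191040000cd0800980000000000000013061a5000019a100250c2d200006684004a000000000000000942f6580000cd0801205e910000334200240000000000000004816fd000006684008c2ddb000019a10011800000000000000230b234000033420044163780000cd080088000000000000001105640000019a100210ac0c000066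8400420000000000000008429b480000cd080100532b000033420020000000000000000401423c00006684007c2829800019a1000f8000000000000001f09b6a00003342003c135ec0000cd080078000000000000000f0341300004ce3001d0679e0001338c003a000000000000000740d3180004ce3000e01a3200004ce3001c000000000000000380000000000000006c000000000000000d00000000000000019000000000000000300000000000000005c000000000000000b00000000000000015000000000000000280000000000000004c000000000000000900000000000000011000000000000000200000000000000003c00000000000000070000000000000000d000000000000000180000000000000002c000000000000000500000000000000009000000000000000100000000000000001c000000000000000300000000000000005000000000000000080000000000000000c000000000000000100000000000000001) (Nat.mul (nat_lit 67) i)) (nat_lit 0x7ffffffffffffffff)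

theorem o8_c_s5 : ∀ i < 153, (nodeOK o8_T (nat_lit 3) (nat_lit 12) [nat_lit 3,nat_lit 0,nat_lit 1,nat_lit 2,nat_lit 4] (nat_lit 5) (nat_lit 7) (nat_lit 243) o8_c_N5 (nat_lit 315) o8_c_N6 o8_c_A5) i = true := allRange_zero (len := (nat_lit 153)) (by decide +kernel)

theorem o8_c_c6 {G : Type*} [Group G] (M : Mod G) (h : LM (fun i => pts M.x (o8_P i)) 3240 o8_T (M.wl o8_g) 16 [nat_lit 0,nat_lit 3,nat_lit 1,nat_lit 2,nat_lit 4,nat_lit 5,nat_lit 6]) : Cls (M.wl o8_g) 3 12 (ConjIn (genLt (M.wl o8_g) 16) (fun t => pcG (M.wl o8_g) 3 12 0 (o8_c_W t)) 13) 6 o8_c_N6 153 :=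
  have := M.fin
  cls_step (o8_p_lm M) (o8_p_pc M) (o8_p_cb M).1.ge (fun _ hu _ k => k.of_conj (genLt_mono _ (by decide) hu)) (o8_c_c5 M h) o8_c_s5 (by decide)

noncomputable def o8_c_A6 : ℕ → ℕ := fun i => Nat.land (Nat.shiftRight (nat_lit 0x99000000000000001300000000000000025ff49080008cf5804b7e8cc0001ecc100960000000000000012df3df80007b3040257e7af80008cf5804a80000000000000095000000000000001280000000000000024c000000000000004979c77000119eb0091f397a0003d982012200000000000000247c13a8000f660804878310000119eb0090000000000000001200000000000000023c00000000000000470000000000000008de9e70000233d60119d3d140007b30402300000000000000046735f60001ecc1008be6aee000233d601160000000000000022f8e1d00008cf5804571bbb0001ecc1008a00000000000000115c09b00007b3040227814180008cf5804480000000000000089000000000000001100000000000000021c00000000000000436cfa0000119eb0085d9ed80003d982010a000000000000002175a928000f6608042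6b5e6000119eb0084000000000000001080000000000000020c000000000000004100000000000000081d045e000233d60101a08ec0007b30402000000000000000040668ef0001ecc1007fcd0dc000233d600fe000000000000001fc000000000000003f0000000000000007d000000000000000f98d7280007b30401ef1a8900008cf5803d8000000000000007b000000000000000f4000000000000001e4000000000000003c601ef000119eb0077c046a0003d98200ee000000000000001def43e0000f660803b5e89e000119eb0076000000000000000ec000000000000001d4000000000000003a00000000000000073b6ae4000233d600e56d3940007b30401c8000000000000003959b7c0001ecc10071b3848000233d600e2000000000000001c400000000000000380000000000000006f000000000000000dd5a2c4000467ac01b6b46c0000f66080368000000000000006da9dc0000233d600d9539540007b30401b00000000000000036535080001ecc1006ba6a4e000233d600d6000000000000001ac000000000000003500000000000000069000000000000000d140980000467ac019e81128000f6608033800000000000000679cfb40003d9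8200cd3a29c000467ac0198000000000000003300000000000000065000000000000000c80000000000000018e5a6b00008cf580314b4f20001ecc10062000000000000000c526e940007b30401864d8980008cf5803080000000000000061000000000000000c00000000000000017c000000000000002f468820001ecc1005d8cf6a000233d600ba00000000000000174000000000000002e0000000000000005b000000000000000b50d250000467ac01661a758000f660802c80000000000000059836640003d98200b106d0c000467ac0160000000000000002c00000000000000057000000000000000ac00000000000000155f40c80008cf5802a3e79c0001ecc10054000000000000000a8f38cc0007b304014de76400008cf5802980000000000000053000000000000000a400000000000000144000000000000002839b57000119eb004f737200003d982009e0000000000000013c00000000000000270000000000000004d00000000000000098d9f9c000467ac012db3c30000f66080258000000000000004b69c740003d9820094d3898000467ac0128000000000000002500000000000000049000000000000000900000000000000011d8d908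0008cf5802331b5d0001ecc100460000000000000008cc04500007b304011580dd80008cf5802280000000000000045000000000000000880000000000000010c00000000000000212cde1000119eb004159c020003d9820082000000000000001055a5a0000f66080202b421000119eb004000000000000000080a6f940000cd0800fd4e8a00000cd0801f8000000000000003f526b200006684007ca521c0000668400f8000000000000001f28ace00003342003d517f800003342007a000000000000000f54121800019a1001e28371000019a1003c000000000000000789a2840000cd0800ed34e880000cd0801d8000000000000003b49ef400006684007493a800000668400e8000000000000001d246ed00003342003948c2e000033420072000000000000000e51f31800019a1001c23d8b000019a10038000000000000000708d7640000cd0800dd1a7f80000cd0801b800000000000000374387000006684006c86d780000668400d8000000000000001b20136000033420035401cc00003342006a000000000000000d4fc56000019a1001a1f85a000019a10034000000000000000687c0840000cd0800ccf7e780000cd0801980000000000000033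3cf2c00006684006479d100000668400c800000000000000191cdf600003342003139b4a000033420062000000000000000c4e39f00000cd080181c68b000033420030000000000000000606fad00000668400bcdeff800019a100178000000000000002f36c4e00003342005c6d5cc0000cd0800b8000000000000001719c86000019a1002d337a400006684005a000000000000000b4c17280000cd080161823100003342002c000000000000000585e6ec0000668400acbd27800019a100158000000000000002b2e2620000334200545c70c0000cd0800a80000000000000015168a7000019a100292d274000066840052000000000000000a4a78280000cd0801414f97000033420028000000000000000504d58c00006684009c9afb800019a10013800000000000000272567200003342004c4ac740000cd0800980000000000000013122ae000019a100252452400006684004a000000000000000948d1180000cd0801211a07000033420024000000000000000484020000006684008c8032800019a10011800000000000000231cdc000003342004439b180000cd08008800000000000000110cf9c0000e6a9002119d8e00039aa4004200000000000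0000845a3f8000e6a900100b6350000e6a90020000000000000000400000000000000007c000000000000000f0000000000000001d000000000000000380000000000000006c000000000000000d00000000000000019000000000000000300000000000000005c40c780007354800b082450001cd5200160000000000000002c1a3e000073548005433eb00007354800a80000000000000015000000000000000280000000000000004c000000000000000900000000000000011000000000000000200000000000000003c00000000000000070000000000000000d000000000000000180cdf000039aa4002c19cc0000e6a900058000000000000000b0349600039aa400140671000039aa40028000000000000000500000000000000009000000000000000100000000000000001c000000000000000300000000000000005000000000000000080000000000000000c000000000000000100000000000000001) (Nat.mul (nat_lit 67) i)) (nat_lit 0x7ffffffffffffffff)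

theorem o8_c_s6 : ∀ i < 99, (nodeOK o8_T (nat_lit 3) (nat_lit 12) [nat_lit 3,nat_lit 0,nat_lit 1,nat_lit 2,nat_lit 4] (nat_lit 6) (nat_lit 6) (nat_lit 729) o8_c_N6 (nat_lit 153) o8_c_N7 o8_c_A6) i = true := allRange_zero (len := (nat_lit 99)) (by decide +kernel)

theorem o8_c_c7 {G : Type*} [Group G] (M : Mod G) (h : LM (fun i => pts M.x (o8_P i)) 3240 o8_T (M.wl o8_g) 16 [nat_lit 0,nat_lit 3,nat_lit 1,nat_lit 2,nat_lit 4,nat_lit 5,nat_lit 6]) : Cls (M.wl o8_g) 3 12 (ConjIn (genLt (M.wl o8_g) 16) (fun t => pcG (M.wl o8_g) 3 12 0 (o8_c_W t)) 13) 7 o8_c_N7 99 :=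
  have := M.fin
  cls_step (o8_p_lm M) (o8_p_pc M) (o8_p_cb M).1.ge (fun _ hu _ k => k.of_conj (genLt_mono _ (by decide) hu)) (o8_c_c6 M h) o8_c_s6 (by decide)

noncomputable def o8_c_A7 : ℕ → ℕ := fun i => Nat.land (Nat.shiftRight (nat_lit 0x80a1f000019a1006380638000033420063000000000000000637f07d000019a100627ec98000033420062000000000000000627d6de000019a100617d2f5000033420061000000000000000617bc26000019a100607ba37000033420060000000000000000607a285000019a1005f7a09600003342005f0000000000000005f788e4000019a1005e786f500003342005e0000000000000005e76e57000019a1005d76b9900003342005d0000000000000005d754b8000019a1005c751f900003342005c0000000000000005c73b16000019a1005b7385900003342005b0000000000000005b720af000019a1005a7227000003342005a0000000000000005a7070e000019a10059708cf000033420059000000000000000596ed6d000019a100586ef2e000033420058000000000000000586d2c7000019a100576d679000033420057000000000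000000576b926000019a100566bcd80000334200560000000000000005669f85000019a100556a33700003342005500000000000000055684f2000019a10054687ae0000334200540000000000000005466b4f000019a1005366e0f00003342005300000000000000053651af000019a100526546d000033420052000000000000000526375c000019a10051636e20000334200510000000000000005161dbb000019a1005061d41000033420050000000000000000506041a000019a1004f603a000003342004f0000000000000004f5e96f000019a1004e5eab900003342004e0000000000000004e5cfcf000019a1004d5d11700003342004d0000000000000004d5b62c000019a1004c5b77800003342004c0000000000000004c59bc0000019a1004b59bf700003342004b0000000000000004b5821f000019a1004a5825600003342004a0000000000000004a5687e000019a10049568b500003342004900000000000000049552da0000334200485564f000019a10048000000000000000485393900003342004753cae000019a100470000000000000004751f980000334200465230d000019a10046000000000000000465067a0000334200455083b00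0019a10045000000000000000454ecd90000334200444ee9a000019a10044000000000000000444d3380000334200434d4f9000019a10043000000000000000434b7d60000334200424bb1a000019a100420000000000000004249e330000334200414a178000019a100410000000000000004148493000033420040487d9000019a100400000000000000004046ebe00003342003f46d43000019a1003f0000000000000003f4551d00003342003e453a2000019a1003e0000000000000003e43b7c00003342003d43a01000019a1003d0000000000000003d4232c00003342003c41f34000019a1003c0000000000000003c4098a00003342003b40594000019a1003b0000000000000003b3efe800003342003a3ebf4000019a1003a0000000000000003a3d3b40000334200393d0f6000019a10039000000000000000393ba120000334200383b756000019a10038000000000000000383a07300003342003739db3000019a1003700000000000000037382a500003342003638353000019a100360000000000000003636905000033420035369b1000019a100350000000000000003534f6200003342003435012000019a100340000000000000003433622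0000334200333354b000019a100330000000000000003331c8100003342003231baa000019a1003200000000000000032302e000003342003130209000019a10031000000000000000312e7c50000334200302e7fc000019a10030000000000000000302ce2400003342002f2ce5b000019a1002f0000000000000002f2b48300003342002e2b4ba000019a1002e0000000000000002e2a27b0002b3fb002d29ed3000567f6002d0000000000000002d0000000000000002c0000000000000002b0000000000000002a26b59000567f6002926f6d0002b3fb0029000000000000000292545b0002b3fb0028252e4000567f600280000000000000002800000000000000027000000000000000260000000000000002521f6c000567f600242214f0002b3fb0024000000000000000242072e0002b3fb002320428000567f60023000000000000000230000000000000002200000000000000021000000000000000201d0b0000567f6001f1d32f0002b3fb001f0000000000000001f0000000000000001e0000000000000001d0000000000000001c1a0e3000567f6001b19f3a0002b3fb001b0000000000000001b185630002b3fb001a18777000567f6001a000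0000000000001a000000000000000190000000000000001800000000000000017155aa000567f600161518b0002b3fb001600000000000000016137620002b3fb001513b4d000567f60015000000000000000150000000000000001400000000000000013000000000000000121065a000567f60011103a50002b3fb0011000000000000000110e9cd0002b3fb00100ed40000567f60010000000000000000100ceb8000567f6000f0cf320002b3fb000f0000000000000000f0b5fb0002b3fb000e0b45c000567f6000e0000000000000000e0000000000000000d0000000000000000c0000000000000000b08217000567f6000a081740002b3fb000a0000000000000000a0679b0002b3fb0009068ff000567f6000900000000000000009000000000000000080000000000000000700000000000000006033c9000567f60005034000002b3fb00050000000000000000501a2a0002b3fb000401a5e000567f6000400000000000000004000000000000000030000000000000000200000000000000001) (Nat.mul (nat_lit 68) i)) (nat_lit 0xfffffffffffffffff)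

theorem o8_c_s7 : ∀ i < 81, (nodeOK o8_T (nat_lit 3) (nat_lit 12) [nat_lit 3,nat_lit 0,nat_lit 1,nat_lit 2,nat_lit 4] (nat_lit 7) (nat_lit 5) (nat_lit 2187) o8_c_N7 (nat_lit 99) o8_c_N8 o8_c_A7) i = true := allRange_zero (len := (nat_lit 81)) (by decide +kernel)

theorem o8_c_c8 {G : Type*} [Group G] (M : Mod G) (h : LM (fun i => pts M.x (o8_P i)) 3240 o8_T (M.wl o8_g) 16 [nat_lit 0,nat_lit 3,nat_lit 1,nat_lit 2,nat_lit 4,nat_lit 5,nat_lit 6]) : Cls (M.wl o8_g) 3 12 (ConjIn (genLt (M.wl o8_g) 16) (fun t => pcG (M.wl o8_g) 3 12 0 (o8_c_W t)) 13) 8 o8_c_N8 81 :=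
  have := M.fin
  cls_step (o8_p_lm M) (o8_p_pc M) (o8_p_cb M).1.ge (fun _ hu _ k => k.of_conj (genLt_mono _ (by decide) hu)) (o8_c_c7 M h) o8_c_s7 (by decide)

noncomputable def o8_c_A8 : ℕ → ℕ := fun i => Nat.land (Nat.shiftRight (nat_lit 0x51a13e74d992e549911e345890e14180fdf3d78edd3970ddb3568cd93160bd72d58ad529509d325488d121407cf1d386cd19305cb15284c911203c70d182c509101c305080c101) (Nat.mul (nat_lit 7) i)) (nat_lit 127)

theorem o8_c_s8 : ∀ i < 27, (nodeOK o8_T (nat_lit 3) (nat_lit 12) [nat_lit 3,nat_lit 0,nat_lit 1,nat_lit 2,nat_lit 4] (nat_lit 8) (nat_lit 4) (nat_lit 6561) o8_c_N8 (nat_lit 81) o8_c_N9 o8_c_A8) i = true := allRange_zero (len := (nat_lit 27)) (by decide +kernel)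

theorem o8_c_c9 {G : Type*} [Group G] (M : Mod G) (h : LM (fun i => pts M.x (o8_P i)) 3240 o8_T (M.wl o8_g) 16 [nat_lit 0,nat_lit 3,nat_lit 1,nat_lit 2,nat_lit 4,nat_lit 5,nat_lit 6]) : Cls (M.wl o8_g) 3 12 (ConjIn (genLt (M.wl o8_g) 16) (fun t => pcG (M.wl o8_g) 3 12 0 (o8_c_W t)) 13) 9 o8_c_N9 27 :=
  have := M.fin
  cls_step (o8_p_lm M) (o8_p_pc M) (o8_p_cb M).1.ge (fun _ hu _ k => k.of_conj (genLt_mono _ (by decide) hu)) (o8_c_c8 M h) o8_c_s8 (by decide)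

noncomputable def o8_c_A9 : ℕ → ℕ := fun i => Nat.land (Nat.shiftRight (nat_lit 0x6f59c5ed5a4e5183dcd62d4941cc520c41) (Nat.mul (nat_lit 5) i)) (nat_lit 31)

theorem o8_c_s9 : ∀ i < 9, (nodeOK o8_T (nat_lit 3) (nat_lit 12) [nat_lit 3,nat_lit 0,nat_lit 1,nat_lit 2,nat_lit 4] (nat_lit 9) (nat_lit 3) (nat_lit 19683) o8_c_N9 (nat_lit 27) o8_c_N10 o8_c_A9) i = true := allRange_zero (len := (nat_lit 9)) (by decide +kernel)

theorem o8_c_c10 {G : Type*} [Group G] (M : Mod G) (h : LM (fun i => pts M.x (o8_P i)) 3240 o8_T (M.wl o8_g) 16 [nat_lit 0,nat_lit 3,nat_lit 1,nat_lit 2,nat_lit 4,nat_lit 5,nat_lit 6]) : Cls (M.wl o8_g) 3 12 (ConjIn (genLt (M.wl o8_g) 16) (fun t => pcG (M.wl o8_g) 3 12 0 (o8_c_W t)) 13) 10 o8_c_N10 9 :=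
  have := M.fin
  cls_step (o8_p_lm M) (o8_p_pc M) (o8_p_cb M).1.ge (fun _ hu _ k => k.of_conj (genLt_mono _ (by decide) hu)) (o8_c_c9 M h) o8_c_s9 (by decide)

noncomputable def o8_c_A10 : ℕ → ℕ := fun i => Nat.land (Nat.shiftRight (nat_lit 0x987654321) (Nat.mul (nat_lit 4) i)) (nat_lit 15)

theorem o8_c_s10 : ∀ i < 3, (nodeOK o8_T (nat_lit 3) (nat_lit 12) [nat_lit 3,nat_lit 0,nat_lit 1,nat_lit 2,nat_lit 4] (nat_lit 10) (nat_lit 2) (nat_lit 59049) o8_c_N10 (nat_lit 9) o8_c_N11 o8_c_A10) i = true := allRange_zero (len := (nat_lit 3)) (by decide +kernel)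

theorem o8_c_c11 {G : Type*} [Group G] (M : Mod G) (h : LM (fun i => pts M.x (o8_P i)) 3240 o8_T (M.wl o8_g) 16 [nat_lit 0,nat_lit 3,nat_lit 1,nat_lit 2,nat_lit 4,nat_lit 5,nat_lit 6]) : Cls (M.wl o8_g) 3 12 (ConjIn (genLt (M.wl o8_g) 16) (fun t => pcG (M.wl o8_g) 3 12 0 (o8_c_W t)) 13) 11 o8_c_N11 3 :=
  have := M.fin
  cls_step (o8_p_lm M) (o8_p_pc M) (o8_p_cb M).1.ge (fun _ hu _ k => k.of_conj (genLt_mono _ (by decide) hu)) (o8_c_c10 M h) o8_c_s10 (by decide)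

noncomputable def o8_c_A11 : ℕ → ℕ := fun i => Nat.land (Nat.shiftRight (nat_lit 57) (Nat.mul (nat_lit 2) i)) (nat_lit 3)

theorem o8_c_s11 : ∀ i < 1, (nodeOK o8_T (nat_lit 3) (nat_lit 12) [nat_lit 3,nat_lit 0,nat_lit 1,nat_lit 2,nat_lit 4] (nat_lit 11) (nat_lit 1) (nat_lit 177147) o8_c_N11 (nat_lit 3) o8_c_N12 o8_c_A11) i = true := allRange_zero (len := (nat_lit 1)) (by decide +kernel)

theorem o8_c_c12 {G : Type*} [Group G] (M : Mod G) (h : LM (fun i => pts M.x (o8_P i)) 3240 o8_T (M.wl o8_g) 16 [nat_lit 0,nat_lit 3,nat_lit 1,nat_lit 2,nat_lit 4,nat_lit 5,nat_lit 6]) : Cls (M.wl o8_g) 3 12 (ConjIn (genLt (M.wl o8_g) 16) (fun t => pcG (M.wl o8_g) 3 12 0 (o8_c_W t)) 13) 12 o8_c_N12 1 :=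
  have := M.fin
  cls_step (o8_p_lm M) (o8_p_pc M) (o8_p_cb M).1.ge (fun _ hu _ k => k.of_conj (genLt_mono _ (by decide) hu)) (o8_c_c11 M h) o8_c_s11 (by decide)

theorem o8_c {G : Type*} [Group G] (M : Mod G) (h : LM (fun i => pts M.x (o8_P i)) 3240 o8_T (M.wl o8_g) 16 [nat_lit 0,nat_lit 3,nat_lit 1,nat_lit 2,nat_lit 4,nat_lit 5,nat_lit 6]) : ∀ a ∈ genLt (M.wl o8_g) 12, a ^ 3 = 1 → (ConjIn (genLt (M.wl o8_g) 16) (fun t => pcG (M.wl o8_g) 3 12 0 (o8_c_W t)) 13) a :=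
  fun _ => (o8_c_c12 M h).top

theorem o8_c_ord {G : Type*} [Group G] (M : Mod G) : ∀ t < 13, orderOf (pcG (M.wl o8_g) 3 12 0 (o8_c_W t)) = 3 ∧ pcG (M.wl o8_g) 3 12 0 (o8_c_W t) ∈ genLt (M.wl o8_g) 12 := fun t ht =>
  have := M.fin
  (o8_p_lm M).ord_code (o8_p_pc M) (o8_p_cb M).1.ge ((allLt_iff _ _).1 (by decide +kernel :
    allLt 13 (fun t => force (o8_c_W t) (ordOK o8_T [nat_lit 3,nat_lit 0,nat_lit 1,nat_lit 2,nat_lit 4] 3 12)) = true) t ht)

end Cfsg.Agent.Spor.F23
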